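import Cfsg.Agent.Lib.Fusion.AbIndexP.Core

/-!
Two abelian subgroups of index `p` whose intersection has order above `p` force a normal subgroup.
-/

set_option autoImplicit false
set_option maxHeartbeats 400000

namespace Cfsg.Agent.RankThreeNormal

open Cfsg Cfsg.FusionSystem Cfsg.Agent.Fusion Cfsg.Agent.Fusion.AbIndexP

variable {Ω : Type*} [Group Ω] {S A A' : Subgroup Ω} {p : ℕ} {F : FusionSystem S}
  [Finite S] [hp : Fact p.Prime]

/-- With two abelian subgroups of index `p` the core is trivial only for `|Z(S)| = p`. -/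
theorem false_of_two_abelian (hS : IsPGroup p S) (hF : F.IsSaturated p) (hp2 : p ≠ 2)
    (hna : ¬ IsMulCommutative ↥S) (hle : A ≤ S) (hab : IsMulCommutative ↥A)
    (hidx : (A.subgroupOf S).index = p) (hle' : A' ≤ S) (hab' : IsMulCommutative ↥A')
    (hidx' : (A'.subgroupOf S).index = p) (hne : A' ≠ A) (hcore : F.core = ⊥)
    (hbig : p < Nat.card ↥(A ⊓ A')) : False := by
  have := finite_Zs S rfl
  have hnormal : ∀ W : Subgroup Ω, F.IsNormal W → W = ⊥ := fun W hW =>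
    eq_bot_iff.2 (hcore ▸ le_sSup (α := Subgroup Ω) hW)
  have hpick : ∀ R : Subgroup Ω, ∃ B : Subgroup Ω,
      B ≤ S ∧ IsMulCommutative ↥B ∧ (B.subgroupOf S).index = p ∧ R ≠ B := by
    intro R
    by_cases hR : R = A
    · exact ⟨A', hle', hab', hidx', fun h => hne (h.symm.trans hR)⟩
    · exact ⟨A, hle, hab, hidx, hR⟩
  have hcenS : ∀ α : MulAut S, ∀ b : S, (b : Ω) ∈ Zs S → ((α b : S) : Ω) ∈ Zs S := by
    intro α b hb
    refine mem_Zs.2 ⟨(α b).2, fun g hg => ?_⟩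
    obtain ⟨c, hc⟩ := α.surjective ⟨g, hg⟩
    have hcb : c * b = b * c := Subtype.ext ((mem_Zs.1 hb).2 c c.2)
    have h1 := congrArg α hcb
    rw [map_mul, map_mul, hc] at h1
    exact congrArg Subtype.val h1
  obtain ⟨B, x, h, hK, β, hβ, P, hP, hβP⟩ : ∃ (B : Subgroup Ω) (x : Ω) (h : Base p S B x),
      Nat.card ↥(h.K 1 ⊓ h.R 1) = p ∧ ∃ β : MulAut ↥(Zs S), Inverts F β ∧ ∃ P : Subgroup Ω,
      F.IsEssential p P ∧ ∀ α ∈ F.autGroup P, ∀ b : P,
        (∃ hb : (b : Ω) ∈ Zs S, β ⟨b, hb⟩ = ⟨b, hb⟩) →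
          ∃ hb : ((α b : P) : Ω) ∈ Zs S, β ⟨_, hb⟩ = ⟨_, hb⟩ := by
    by_contra hcon
    have hZ : F.IsNormal (Zs S) := by
      refine isNormal_of_essentials hS hF le_rfl fun R hR α hα b hb => ?_
      rcases hR with rfl | hR
      · exact hcenS α b hb
      obtain ⟨B, hBle, hBab, hBidx, hRB⟩ := hpick R
      obtain ⟨x, h, -, hK, -, ⟨-, β, hβ, hβR⟩ | ⟨-, hZi⟩⟩ :=
        classify hS hF hp2 hna hBle hBab hBidx hR hRB
      · exact absurd ⟨B, x, h, hK, β, hβ, R, hR, hβR⟩ hcon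
      · exact hZi α hα b hb
    have : Nontrivial S := by
      by_contra hn
      rw [not_nontrivial_iff_subsingleton] at hn
      exact hna ⟨⟨fun a b => Subsingleton.elim _ _⟩⟩
    have hnt : (Subgroup.center S).map S.subtype ≠ ⊥ := by
      rw [Ne, Subgroup.map_eq_bot_iff_of_injective _ S.subtype_injective]
      exact (Subgroup.nontrivial_iff_ne_bot _).1 (IsPGroup.center_nontrivial hS)
    exact hnt (Zs_eq S ▸ hnormal _ hZ)
  -- the fixed points of `β`
  let W : Subgroup Ω := (MonoidHom.eqLocus β.toMonoidHom (MonoidHom.id _)).map (Zs S).subtype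
  have hWmem : ∀ b : Ω, b ∈ W ↔ ∃ hb : b ∈ Zs S, β ⟨b, hb⟩ = ⟨b, hb⟩ := fun b =>
    ⟨fun ⟨w, hw, hwb⟩ => by subst hwb; exact ⟨w.2, hw⟩, fun ⟨hb, hb'⟩ => ⟨⟨b, hb⟩, hb', rfl⟩⟩
  have hWn : F.IsNormal W := by
    refine isNormal_of_essentials hS hF (Subgroup.map_subtype_le _) fun R hR α hα b hb => ?_
    obtain ⟨hbZ, hbf⟩ := (hWmem _).1 hb
    have key : ∀ (hRS : R ≤ S) (hZR : Zs S ≤ R),
        (∀ c : R, (c : Ω) ∈ Zs S → ((α c : R) : Ω) ∈ Zs S) → ((α b : R) : Ω) ∈ W :=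
      fun hRS hZR hZ => (hWmem _).2 ⟨_, fixed_apply hS hF hβ hRS hZR hα hZ (w := ⟨b, hbZ⟩) hbf⟩
    rcases hR with rfl | hR
    · exact key le_rfl inf_le_left (hcenS α)
    obtain ⟨B', hBle, hBab, hBidx, hRB⟩ := hpick R
    obtain ⟨y, h', -, -, -, ⟨-, β', hβ', hβR⟩ | ⟨-, hZi⟩⟩ :=
      classify hS hF hp2 hna hBle hBab hBidx hR hRB
    · rw [inverts_unique hS hF hβ hβ'] at hβR
      exact (hWmem _).2 (hβR α hα b ⟨hbZ, hbf⟩)
    · exact key hR.2.1.1 (le_of_centric hR.1) (hZi α hα)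
  have hW := hnormal W hWn
  have hKR : h.K 1 ⊓ h.R 1 = Zs S ⊓ Ds S := by rw [h.K_one hna, h.Ds_eq]
  have hZD : Zs S ≤ Ds S := by
    intro w hw
    set wZ : Zs S := ⟨w, hw⟩
    set d := wZ⁻¹ * β wZ with hd
    have hdD : (d : Ω) ∈ Ds S := hβ.triv wZ
    have hdp : d ^ p = 1 := by
      have hmem : (d : Ω) ∈ h.K 1 ⊓ h.R 1 := hKR ▸ ⟨d.2, hdD⟩
      have : Finite ↥(h.K 1 ⊓ h.R 1) :=
        finite_of_le (S := S) ((hKR.trans_le inf_le_left).trans inf_le_left)
      have h1 : (⟨(d : Ω), hmem⟩ : ↥(h.K 1 ⊓ h.R 1)) ^ Nat.card ↥(h.K 1 ⊓ h.R 1) = 1 :=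
        pow_card_eq_one'
      rw [hK] at h1
      exact Subtype.ext (by simpa using congrArg Subtype.val h1)
    obtain ⟨k, hk⟩ := hp.out.odd_of_ne_two hp2
    set c := wZ * d ^ (k + 1) with hc
    have hfix : β c = c := by
      rw [hc, map_mul, map_pow, hβ.inv d hdD, show β wZ = wZ * d by rw [hd, mul_inv_cancel_left],
        mul_assoc, inv_pow]
      congr 1
      rw [mul_inv_eq_iff_eq_mul, ← pow_add, show k + 1 + (k + 1) = p + 1 by omega, pow_succ, hdp,
        one_mul]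
    have hcW : (c : Ω) ∈ W := (hWmem _).2 ⟨c.2, hfix⟩
    rw [hW, Subgroup.mem_bot] at hcW
    have h1 : w = ((d ^ (k + 1) : Zs S) : Ω)⁻¹ := eq_inv_of_mul_eq_one_left hcW
    rw [h1, Subgroup.coe_pow]
    exact (Ds S).inv_mem ((Ds S).pow_mem hdD _)
  have hcard : Nat.card ↥(Zs S) = p := by rw [← hK, hKR, inf_eq_left.2 hZD]
  -- the intersection is central
  have hsub : A ⊓ A' ≤ Zs S := by
    have hlt : A.subgroupOf S < A.subgroupOf S ⊔ A'.subgroupOf S := left_lt_sup.2 fun hle2 => by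
      refine hne ?_
      have h1 : A'.subgroupOf S = A.subgroupOf S := by
        refine Subgroup.eq_of_le_of_card_ge hle2 (le_of_eq ?_)
        have h2 := (A.subgroupOf S).card_mul_index
        have h3 := (A'.subgroupOf S).card_mul_index
        rw [hidx] at h2
        rw [hidx'] at h3
        exact Nat.eq_of_mul_eq_mul_right hp.out.pos (h2.trans h3.symm)
      have h4 := congrArg (Subgroup.map S.subtype) h1
      rwa [Subgroup.subgroupOf_map_subtype, Subgroup.subgroupOf_map_subtype, inf_eq_left.2 hle',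
        inf_eq_left.2 hle] at h4
    have htop : A.subgroupOf S ⊔ A'.subgroupOf S = ⊤ := by
      have h2 := Subgroup.index_dvd_of_le hlt.le
      rw [hidx] at h2
      rcases (Nat.dvd_prime hp.out).1 h2 with he | he
      · exact Subgroup.index_eq_one.1 he
      · refine absurd (Subgroup.eq_of_le_of_card_ge hlt.le (le_of_eq ?_)) hlt.ne
        have h3 := (A.subgroupOf S).card_mul_index
        have h4 := (A.subgroupOf S ⊔ A'.subgroupOf S).card_mul_index
        rw [hidx] at h3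
        rw [he] at h4
        exact Nat.eq_of_mul_eq_mul_right hp.out.pos (h4.trans h3.symm)
    intro z hz
    refine mem_Zs.2 ⟨hle hz.1, fun g hg => ?_⟩
    have hC : A.subgroupOf S ⊔ A'.subgroupOf S ≤ (Subgroup.centralizer {z}).subgroupOf S := sup_le
      (fun a ha => Subgroup.mem_centralizer_singleton_iff.2
        (congrArg Subtype.val (hab.is_comm.comm ⟨(a : Ω), ha⟩ ⟨z, hz.1⟩)))
      (fun a ha => Subgroup.mem_centralizer_singleton_iff.2
        (congrArg Subtype.val (hab'.is_comm.comm ⟨(a : Ω), ha⟩ ⟨z, hz.2⟩)))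
    rw [htop] at hC
    exact Subgroup.mem_centralizer_singleton_iff.1 (hC (Subgroup.mem_top ⟨g, hg⟩))
  have h5 := Subgroup.card_le_of_le hsub
  omega

end Cfsg.Agent.RankThreeNormal
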