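import Cfsg.Agent.Lib.RankThreeNormal.Jordan

/-!
The transvection case: layers of `E/Φ(E)`, and the impossibility of two conjugates with different
Frattini subgroups once the normaliser has exponent `p` modulo each of them.
-/

set_option autoImplicit false

namespace Cfsg.Agent.RankThreeNormal

open Subgroup Cfsg.Agent
open scoped commutatorElement

variable {G : Type*} [Group G] [Finite G] {p : ℕ} [Fact p.Prime]

/-- The elements of `E` central in `N` modulo `Φ(E)`. -/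
def fixLayer {E N : Subgroup G} (h : Pos p E N) : Subgroup G := E ⊓ cen (phi E) N N h.nmPhi

/-- A generator `a` of `E` modulo the fixed hyperplane and `x` of `N` modulo `E`, for a transvection. -/
structure Tv (p : ℕ) (E N : Subgroup G) (a x : G) : Prop where
  pos : Pos p E N
  ha : a ∈ E
  hx : x ∈ N
  hxE : x ∉ E
  flat : layer2 E N = phi E
  moved : ⁅a, x⁆ ∉ phi E

namespace Pos

variable {E N : Subgroup G}

theorem fixLayer_le (h : Pos p E N) : fixLayer h ≤ E := inf_le_left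

theorem fixLayer_com (h : Pos p E N) : Com (phi E) (fixLayer h) N := fun _ hv => hv.2.2

theorem nm_fixLayer (h : Pos p E N) : Nm (fixLayer h) N := fun g hg v hv => by
  refine ⟨h.nm g hg v hv.1, Subgroup.mul_mem _ (Subgroup.mul_mem _ hg (h.le hv.1)) (inv_mem hg),
    fun y hy => ?_⟩
  have hy' : g⁻¹ * y * g ∈ N := mul_mem (mul_mem (inv_mem hg) hy) hg
  have e : ⁅g * v * g⁻¹, y⁆ = g * ⁅v, g⁻¹ * y * g⁆ * g⁻¹ := by
    simp only [commutatorElement_def]; group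
  rw [e]
  exact h.nmPhi g hg _ (hv.2.2 _ hy')

theorem exists_tv (h : Pos p E N) {x : G} (hx : x ∈ N) (hxE : x ∉ E) (hflat : layer2 E N = phi E)
    (hne : layer1 E N ≠ phi E) : ∃ a, Tv p E N a x := by
  by_contra hcon
  push Not at hcon
  refine hne (le_antisymm (sup_le le_rfl ?_) le_sup_left)
  have h1 : Com (phi E) E (zpowers x) := by
    intro v hv y hy
    have hvx : ⁅v, x⁆ ∈ phi E := by
      by_contra hvx
      exact hcon v ⟨h, hv, hx, hxE, hflat, hvx⟩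
    exact Com.zpowers_zpowers h.nmPhi (h.le hv) hx hvx v (mem_zpowers v) y hy
  have h2 := Com.sup_left h.nmPhi h.le (zpowers_le.2 hx)
    (fun u hu v hv => comm_mem_phi h.hG hu hv) h1.symm
  rw [h.sup_zpowers hx hxE] at h2
  exact commutator_le.2 h2.symm

end Pos

namespace Tv

variable {E N : Subgroup G} {a x : G} (h : Tv p E N a x)
include h

theorem aN : a ∈ N := h.pos.le h.ha

theorem D_mem : ⁅a, x⁆ ∈ layer1 E N := mem_sup_right (commutator_mem_commutator h.ha h.hx)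

theorem layer1_com : Com (phi E) (layer1 E N) N := fun u hu g hg =>
  h.flat.le (mem_sup_right (commutator_mem_commutator hu hg))

theorem a_not_layer1 : a ∉ layer1 E N := fun ha => h.moved (h.layer1_com a ha x h.hx)

theorem sup_D : phi E ⊔ zpowers ⁅a, x⁆ = layer1 E N := by
  have hP := h.pos
  set K' := phi E ⊔ zpowers ⁅a, x⁆
  have hle : K' ≤ layer1 E N := sup_le le_sup_left (zpowers_le.2 h.D_mem)
  refine le_antisymm hle ?_
  by_contra hcon
  have hlt : K' < layer1 E N := lt_of_le_not_ge hle hcon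
  have hDN : ⁅a, x⁆ ∈ N := hP.le (hP.layer1_le h.D_mem)
  have hc1 : Nat.card K' = p * Nat.card (phi E) :=
    card_sup (hP.nmPhi.le_normalizer hDN) h.moved (pow_mem_phi hP.hG (hP.layer1_le h.D_mem))
  have hc2 := PGroup.mul_card_le_card hP.hG hlt
  rw [hc1] at hc2
  have hsup : layer1 E N ⊔ zpowers a = E := sup_eq_of_card_le hP.hG hP.layer1_le (by
    rw [hP.cardE, pow_succ', mul_assoc]
    exact Nat.mul_le_mul_left p (by rw [sq, mul_assoc]; exact hc2)) h.ha h.a_not_layer1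
  have hnK : Nm K' N := fun g hg v hv => by
    have h1 : ⁅v, g⁆ ∈ K' := mem_sup_left (h.layer1_com v (hle hv) g hg)
    have h2 := mul_mem (inv_mem h1) hv
    simpa [commutatorElement_def, mul_assoc] using h2
  have h4 : Com K' (zpowers a) N := by
    have h5 : Com K' E (zpowers a) := fun u hu v hv =>
      mem_sup_left (comm_mem_phi hP.hG hu ((zpowers_le.2 h.ha) hv))
    have h6 : Com K' (zpowers a) (zpowers x) :=
      Com.zpowers_zpowers hnK h.aN h.hx (mem_sup_right (mem_zpowers _))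
    have h7 := Com.sup_left hnK hP.le (zpowers_le.2 h.hx) h5 h6.symm
    rw [hP.sup_zpowers h.hx h.hxE] at h7
    exact h7.symm
  have h3 := Com.sup_left hnK (hP.layer1_le.trans hP.le) (zpowers_le.2 h.aN)
    (fun u hu g hg => mem_sup_left (h.layer1_com u hu g hg)) h4
  rw [hsup] at h3
  exact hcon (sup_le le_sup_left (commutator_le.2 h3))

theorem card_layer1 : Nat.card (layer1 E N) = p * Nat.card (phi E) := by
  rw [← h.sup_D]
  exact card_sup (h.pos.nmPhi.le_normalizer (h.pos.le (h.pos.layer1_le h.D_mem))) h.moved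
    (pow_mem_phi h.pos.hG (h.pos.layer1_le h.D_mem))

theorem layer1_le_fix : layer1 E N ≤ fixLayer h.pos := fun v hv =>
  ⟨h.pos.layer1_le hv, h.pos.le (h.pos.layer1_le hv), h.layer1_com v hv⟩

theorem phi_le_fix : phi E ≤ fixLayer h.pos := le_sup_left.trans h.layer1_le_fix

theorem a_not_fix : a ∉ fixLayer h.pos := fun ha => h.moved (ha.2.2 x h.hx)

theorem mem_fix {v : G} (hv : v ∈ E) (hvx : ⁅v, x⁆ ∈ phi E) : v ∈ fixLayer h.pos := by
  refine ⟨hv, h.pos.le hv, ?_⟩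
  have h1 : Com (phi E) E (zpowers v) := fun u hu w hw =>
    comm_mem_phi h.pos.hG hu ((zpowers_le.2 hv) hw)
  have h2 := Com.sup_left h.pos.nmPhi h.pos.le (zpowers_le.2 h.hx) h1
    (Com.zpowers_zpowers h.pos.nmPhi (h.pos.le hv) h.hx hvx).symm
  rw [h.pos.sup_zpowers h.hx h.hxE] at h2
  exact h2.symm v (mem_zpowers v)

theorem sup_a : fixLayer h.pos ⊔ zpowers a = E := by
  refine le_antisymm (sup_le h.pos.fixLayer_le (zpowers_le.2 h.ha)) fun v hv => ?_
  have hP := h.pos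
  obtain ⟨k, hk, i, hi⟩ := mem_sup_zpowers
    (hP.nmPhi.le_normalizer (hP.le (hP.layer1_le h.D_mem)))
    (show ⁅v, x⁆ ∈ phi E ⊔ zpowers ⁅a, x⁆ by
      rw [h.sup_D]; exact mem_sup_right (commutator_mem_commutator hv h.hx))
  have hn := hP.nmPhi.normal_subgroupOf
  set f := QuotientGroup.mk' ((phi E).subgroupOf N)
  set A := f ⟨a, h.aN⟩
  set X := f ⟨x, h.hx⟩
  have hcen : ∀ y : G, (hy : y ∈ E) → Commute ⁅A, X⁆ (f ⟨y, hP.le hy⟩) := fun y hy => by
    refine commutatorElement_eq_one_iff_mul_comm.1 ?_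
    rw [← map_commutatorElement, ← map_commutatorElement]
    exact (QuotientGroup.eq_one_iff _).2 (h.layer1_com _ h.D_mem y (hP.le hy))
  have hV : ⁅f ⟨v, hP.le hv⟩, X⁆ = ⁅A, X⁆ ^ i := by
    rw [← map_commutatorElement, ← map_commutatorElement, ← map_zpow,
      show ⁅(⟨v, hP.le hv⟩ : N), ⟨x, h.hx⟩⁆ = ⟨k, hP.phiN hk⟩ * ⁅(⟨a, h.aN⟩ : N), ⟨x, h.hx⟩⁆ ^ i from
        Subtype.ext hi, map_mul, show f ⟨k, hP.phiN hk⟩ = 1 from (QuotientGroup.eq_one_iff _).2 hk,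
      one_mul]
  have hz : v * (a ^ i)⁻¹ ∈ fixLayer h.pos := by
    refine h.mem_fix (mul_mem hv (inv_mem (zpow_mem h.ha i))) ?_
    refine (QuotientGroup.eq_one_iff (N := (phi E).subgroupOf N)
      ⁅(⟨v, hP.le hv⟩ : N) * (⟨a, h.aN⟩ ^ i)⁻¹, ⟨x, h.hx⟩⁆).1 ?_
    show f _ = 1
    rw [map_commutatorElement, map_mul, map_inv, map_zpow, commutatorElement_mul_left_eq_conj_mul,
      hV]
    have h1 : X * A ^ i * X⁻¹ = (⁅A, X⁆⁻¹) ^ i * A ^ i := by
      rw [← conj_zpow, show X * A * X⁻¹ = ⁅A, X⁆⁻¹ * A by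
        simp only [commutatorElement_def]; group, ((hcen a h.ha).inv_left).mul_zpow]
    have h2 : ⁅(A ^ i)⁻¹, X⁆ = (A ^ i)⁻¹ * (X * A ^ i * X⁻¹) := by
      simp only [commutatorElement_def]; group
    have h3 : Commute (⁅A, X⁆⁻¹ ^ i) (A ^ i)⁻¹ := ((hcen a h.ha).inv_left.zpow_zpow i i).inv_right
    have h4 : Commute (⁅A, X⁆⁻¹ ^ i) (f ⟨v, hP.le hv⟩) := (hcen v hv).inv_left.zpow_left i
    rw [h2, h1, ← mul_assoc (A ^ i)⁻¹, ← h3.eq, inv_mul_cancel_right, ← h4.eq, mul_inv_cancel_right,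
      inv_zpow, inv_mul_cancel]
  have h5 := mul_mem (mem_sup_left hz : v * (a ^ i)⁻¹ ∈ fixLayer h.pos ⊔ zpowers a)
    (mem_sup_right (zpow_mem (mem_zpowers a) i))
  rwa [inv_mul_cancel_right] at h5

theorem card_fix : Nat.card (fixLayer h.pos) = p ^ 2 * Nat.card (phi E) := by
  have h1 := card_sup (p := p) (h.pos.nm_fixLayer.le_normalizer h.aN) h.a_not_fix
    (h.phi_le_fix (pow_mem_phi h.pos.hG h.ha))
  rw [h.sup_a, h.pos.cardE, pow_succ', mul_assoc] at h1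
  exact (Nat.eq_of_mul_eq_mul_left (Fact.out : p.Prime).pos h1).symm

theorem comm_le_layer1 : Com (layer1 E N) N N := by
  have hP := h.pos
  have hEN : Com (layer1 E N) E N := fun u hu g hg => mem_sup_right (commutator_mem_commutator hu hg)
  have h1 : Com (layer1 E N) (zpowers x) N := by
    have h2 : Com (layer1 E N) (zpowers x) (zpowers x) :=
      Com.zpowers_zpowers hP.nm_layer1 h.hx h.hx (by simp [commutatorElement_self])
    have h3 := Com.sup_left hP.nm_layer1 hP.le (zpowers_le.2 h.hx)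
      (fun u hu g hg => hEN u hu g ((zpowers_le.2 h.hx) hg)) h2
    rw [hP.sup_zpowers h.hx h.hxE] at h3
    exact h3.symm
  have h4 := Com.sup_left hP.nm_layer1 hP.le (zpowers_le.2 h.hx) hEN h1
  rwa [hP.sup_zpowers h.hx h.hxE] at h4

end Tv

/-- With exponent `p` modulo both Frattini subgroups they coincide. -/
theorem phi_eq_of_flat {E E₁ N : Subgroup G} {a x : G} (h : Tv p E N a x) (hP₁ : Pos p E₁ N)
    (hne : E₁ ≠ E) (hexp : ∀ w ∈ N, w ^ p ∈ phi E) (hexp₁ : ∀ w ∈ N, w ^ p ∈ phi E₁) :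
    phi E₁ = phi E := by
  by_contra hΦne
  have hP := h.pos
  have hp := (Fact.out : p.Prime)
  have hG := hP.hG
  set K := phi E ⊓ phi E₁
  set R := layer1 E N
  have hΦK : Nat.card (phi E) ≤ p * Nat.card K := hP.card_inf_le hP₁ hne
  have hKlt : K < phi E := lt_of_le_of_ne inf_le_left fun he =>
    hΦne (eq_of_le_of_card_ge (inf_eq_left.1 he) (hP.card_phi_eq hP₁).le).symm
  have hcardΦ : Nat.card (phi E) = p * Nat.card K :=
    le_antisymm hΦK (PGroup.mul_card_le_card hG hKlt)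
  have hnK : Nm K N := hP.nmPhi.inf hP₁.nmPhi
  have hΦcen : Com K (phi E) N := com_of_card_le hG hP.phiN hnK hP.nmPhi inf_le_left hΦK
  have hΦ₁cen : Com K (phi E₁) N := com_of_card_le hG hP₁.phiN hnK hP₁.nmPhi inf_le_right
    (by rw [hP.card_phi_eq hP₁]; exact hΦK)
  have hR₁ : phi E₁ ≤ R := phi_le_of (p := p)
    (fun u hu v hv => h.comm_le_layer1 u (hP₁.le hu) v (hP₁.le hv))
    fun u hu => mem_sup_left (hexp u (hP₁.le hu))
  obtain ⟨f₁, hf₁, hf₁Φ⟩ := SetLike.not_le_iff_exists.1 (fun hle : phi E₁ ≤ phi E =>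
    hΦne (eq_of_le_of_card_ge hle (hP.card_phi_eq hP₁).ge))
  have hsup : phi E ⊔ phi E₁ = R :=
    le_antisymm (sup_le le_sup_left hR₁) ((sup_eq_of_card_le hG le_sup_left h.card_layer1.le
      (hR₁ hf₁) hf₁Φ).ge.trans (sup_le le_sup_left ((zpowers_le.2 hf₁).trans le_sup_right)))
  have hRcen : Com K R N := by
    rw [← hsup]
    exact Com.sup_left hnK hP.phiN hP₁.phiN hΦcen hΦ₁cen
  have hKp : ∀ w ∈ N, w ^ p ∈ K := fun w hw => ⟨hexp w hw, hexp₁ w hw⟩
  have hKR : K ≤ R := inf_le_left.trans le_sup_left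
  have hRN : R ≤ N := hP.layer1_le.trans hP.le
  -- a commuting pair
  set T := E ⊓ E₁
  have hRT : R ≤ T := le_inf hP.layer1_le (by
    rw [← hsup]; exact sup_le (hP₁.phi_le' hP.le) (phi_le E₁))
  have hTc := hP.card_inf hP₁ hne
  have hRc : Nat.card R = p * Nat.card (phi E) := h.card_layer1
  obtain ⟨t, htT, htR⟩ := SetLike.not_le_iff_exists.1 (fun hle : T ≤ R => by
    have h1 := Nat.mul_le_mul_left p (Subgroup.card_le_of_le hle)
    rw [hTc, hP.cardE, hRc, ← mul_assoc] at h1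
    have h2 := Nat.le_of_mul_le_mul_right h1 Nat.card_pos
    have h3 : p ^ 2 < p ^ 3 := Nat.pow_lt_pow_right hp.one_lt (by norm_num)
    rw [sq] at h3
    omega)
  obtain ⟨z, hz, hzT⟩ := SetLike.not_le_iff_exists.1 (fun hle : E ≤ T => hne
    (eq_of_le_of_card_ge (inf_eq_left.1 (le_antisymm inf_le_left hle))
      (Nat.eq_of_mul_eq_mul_left hp.pos (hP₁.cardN.symm.trans hP.cardN)).le).symm)
  obtain ⟨y, hy, hyE⟩ := hP.not_le hP₁ hne
  have hzE₁ : z ∉ E₁ := fun h' => hzT ⟨hz, h'⟩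
  have htN : t ∈ N := hP.le htT.1
  have hzN : z ∈ N := hP.le hz
  have hyN : y ∈ N := hP₁.le hy
  have main : ∀ u v : G, u ∈ N → v ∈ N → u ∉ R → v ∉ R ⊔ zpowers u → ⁅u, v⁆ ∈ K → False := by
    intro u v hu hv huR hvR huv
    set H := R ⊔ zpowers u ⊔ zpowers v
    have hHN : H ≤ N := sup_le (sup_le hRN (zpowers_le.2 hu)) (zpowers_le.2 hv)
    have h1 : Com K H R := fun w hw r hr => by
      rw [← commutatorElement_inv]
      exact inv_mem (hRcen r hr w (hHN hw))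
    have hu' : Com K H (zpowers u) := Com.sup_left hnK (sup_le hRN (zpowers_le.2 hu)) (zpowers_le.2 hv)
      (Com.sup_left hnK hRN (zpowers_le.2 hu) (fun r hr w hw => hRcen r hr w ((zpowers_le.2 hu) hw))
        (Com.zpowers_zpowers hnK hu hu (by simp [commutatorElement_self])))
      (Com.zpowers_zpowers hnK hu hv huv).symm
    have hv' : Com K H (zpowers v) := Com.sup_left hnK (sup_le hRN (zpowers_le.2 hu)) (zpowers_le.2 hv)
      (Com.sup_left hnK hRN (zpowers_le.2 hu) (fun r hr w hw => hRcen r hr w ((zpowers_le.2 hv) hw))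
        (Com.zpowers_zpowers hnK hu hv huv))
      (Com.zpowers_zpowers hnK hv hv (by simp [commutatorElement_self]))
    have hHH : Com K H H := Com.sup_left hnK (sup_le hRN (zpowers_le.2 hu)) (zpowers_le.2 hv)
      (Com.sup_left hnK hRN (zpowers_le.2 hu) h1.symm hu'.symm) hv'.symm
    have hrk := hP.rank H K (hKR.trans (le_sup_left.trans le_sup_left)) hHH
      (fun w hw => hKp w (hHN hw))
    have hnRu : Nm (R ⊔ zpowers u) N := fun g hg w hw => by
      have h3 : ⁅g, w⁆ ∈ R ⊔ zpowers u :=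
        mem_sup_left (h.comm_le_layer1 g hg w ((sup_le hRN (zpowers_le.2 hu)) hw))
      have := mul_mem h3 hw
      simpa [commutatorElement_def] using this
    rw [card_sup (p := p) (hnRu.le_normalizer hv) hvR (mem_sup_left (mem_sup_left (hexp v hv))),
      card_sup (p := p) (hP.nm_layer1.le_normalizer hu) huR (mem_sup_left (hexp u hu)), hRc, hcardΦ]
      at hrk
    have h4 : p ^ 4 * Nat.card K ≤ p ^ 3 * Nat.card K := le_trans (le_of_eq (by ring)) hrk
    have h5 := Nat.le_of_mul_le_mul_right h4 Nat.card_pos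
    exact absurd ((Nat.pow_le_pow_iff_right hp.one_lt).1 h5) (by norm_num)
  have hle_t : R ⊔ zpowers t ≤ T := sup_le hRT (zpowers_le.2 htT)
  have htzΦ : ⁅t, z⁆ ∈ phi E := comm_mem_phi hG htT.1 hz
  have htyΦ : ⁅t, y⁆ ∈ phi E₁ := comm_mem_phi hG htT.2 hy
  by_cases h1 : ⁅t, z⁆ ∈ K
  · exact main t z htN hzN htR (fun h' => hzT (hle_t h')) h1
  by_cases h2 : ⁅t, y⁆ ∈ K
  · exact main t y htN hyN htR (fun h' => hyE (hle_t h').1) h2
  have hgz : K ⊔ zpowers ⁅t, z⁆ = phi E := sup_eq_of_card_le hG inf_le_left hΦK htzΦ h1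
  have hgy : K ⊔ zpowers ⁅t, y⁆ = phi E₁ := sup_eq_of_card_le hG inf_le_right
    (by rw [hP.card_phi_eq hP₁]; exact hΦK) htyΦ h2
  have hn := hnK.normal_subgroupOf
  set f := QuotientGroup.mk' (K.subgroupOf N)
  set Tq := f ⟨t, htN⟩
  set Zq := f ⟨z, hzN⟩
  set Yq := f ⟨y, hyN⟩
  have hcenR : ∀ r : G, (hr : r ∈ R) → ∀ q : N, Commute (f ⟨r, hRN hr⟩) (f q) := fun r hr q => by
    refine commutatorElement_eq_one_iff_mul_comm.1 ?_
    rw [← map_commutatorElement]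
    exact (QuotientGroup.eq_one_iff _).2 (hRcen r hr q q.2)
  have hcc : ∀ u v w : N, Commute ⁅f u, f v⁆ (f w) := fun u v w => by
    rw [← map_commutatorElement]
    exact hcenR _ (h.comm_le_layer1 u u.2 v v.2) w
  obtain ⟨m, n, hmn⟩ : ∃ m n : ℤ, ⁅Zq, Yq⁆ = ⁅Tq, Zq⁆ ^ m * ⁅Tq, Yq⁆ ^ n := by
    have hzy : ⁅z, y⁆ ∈ phi E ⊔ phi E₁ := by rw [hsup]; exact h.comm_le_layer1 z hzN y hyN
    rw [← SetLike.mem_coe, coe_mul_of_left_le_normalizer_right (phi E) (phi E₁)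
      (hP.phiN.trans hP₁.nmPhi.le_normalizer)] at hzy
    obtain ⟨u, hu, v, hv, huv⟩ := hzy
    obtain ⟨k₁, hk₁, m, rfl⟩ := mem_sup_zpowers (hnK.le_normalizer (hP.phiN htzΦ)) (hgz.ge hu)
    obtain ⟨k₂, hk₂, n, rfl⟩ := mem_sup_zpowers (hnK.le_normalizer (hP₁.phiN htyΦ)) (hgy.ge hv)
    refine ⟨m, n, ?_⟩
    rw [← map_commutatorElement, ← map_commutatorElement, ← map_commutatorElement, ← map_zpow,
      ← map_zpow, ← map_mul]
    have hk₁N : k₁ ∈ N := hP.phiN hk₁.1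
    have hk₂N : k₂ ∈ N := hP.phiN hk₂.1
    rw [show ⁅(⟨z, hzN⟩ : N), ⟨y, hyN⟩⁆ = (⟨k₁, hk₁N⟩ * ⁅(⟨t, htN⟩ : N), ⟨z, hzN⟩⁆ ^ m) *
      (⟨k₂, hk₂N⟩ * ⁅(⟨t, htN⟩ : N), ⟨y, hyN⟩⁆ ^ n) from Subtype.ext huv.symm, map_mul, map_mul,
      map_mul, show f ⟨k₁, hk₁N⟩ = 1 from (QuotientGroup.eq_one_iff _).2 hk₁,
      show f ⟨k₂, hk₂N⟩ = 1 from (QuotientGroup.eq_one_iff _).2 hk₂, one_mul, one_mul, map_mul]
  set u := z * t ^ (-n)
  set v := y * t ^ m
  have hu : u ∈ N := mul_mem hzN (zpow_mem htN _)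
  have hv : v ∈ N := mul_mem hyN (zpow_mem htN _)
  have huT : u ∉ T := fun h' => hzT (by
    have := mul_mem h' (inv_mem (zpow_mem htT (-n)))
    rwa [mul_inv_cancel_right] at this)
  refine main u v hu hv (fun h' => huT (hRT h')) (fun h' => hyE ?_) ?_
  · have hle : R ⊔ zpowers u ≤ E :=
      sup_le (hRT.trans inf_le_left) (zpowers_le.2 (mul_mem hz (E.zpow_mem (show t ∈ E from htT.1) (-n))))
    have hvE := hle h'
    have := mul_mem hvE (inv_mem (E.zpow_mem (show t ∈ E from htT.1) m))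
    rwa [mul_inv_cancel_right] at this
  · refine (QuotientGroup.eq_one_iff (N := K.subgroupOf N) ⁅(⟨u, hu⟩ : N), ⟨v, hv⟩⁆).1 ?_
    show f _ = 1
    rw [map_commutatorElement, show f ⟨u, hu⟩ = Zq * Tq ^ (-n) by rw [← map_zpow, ← map_mul]; rfl,
      show f ⟨v, hv⟩ = Yq * Tq ^ m by rw [← map_zpow, ← map_mul]; rfl]
    have hbr : ∀ q₁ q₂ q₃ : ↥N ⧸ K.subgroupOf N, ⁅q₁ * q₂, q₃⁆ = ⁅q₂, q₃⁆ * ⁅q₁, q₃⁆ ∧
        ⁅q₁, q₂ * q₃⁆ = ⁅q₁, q₂⁆ * ⁅q₁, q₃⁆ := by
      intro q₁ q₂ q₃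
      obtain ⟨u₁, rfl⟩ := QuotientGroup.mk'_surjective _ q₁
      obtain ⟨u₂, rfl⟩ := QuotientGroup.mk'_surjective _ q₂
      obtain ⟨u₃, rfl⟩ := QuotientGroup.mk'_surjective _ q₃
      constructor
      · rw [commutatorElement_mul_left_eq_conj_mul, ← (hcc u₂ u₃ u₁).eq, mul_inv_cancel_right]
      · rw [commutatorElement_mul_right_eq_mul_conj, mul_assoc _ (f u₂), ← (hcc u₁ u₃ u₂).eq,
          mul_assoc, mul_inv_cancel_right]
    have hpw : ∀ (w : N) (i : ℤ), ⁅Tq, f w⁆ ^ i = ⁅Tq ^ i, f w⁆ := fun w i => by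
      have h1 : Commute ⁅f w, Tq⁆ Tq := hcc w ⟨t, htN⟩ ⟨t, htN⟩
      rw [← commutatorElement_inv (f w) (Tq ^ i), Fusion.MaxClassRankThree.comm_zpow_right h1 i,
        ← inv_zpow, commutatorElement_inv]
    have hZT : ⁅Zq, Tq ^ m⁆ = ⁅Tq, Zq⁆ ^ (-m) := by
      rw [zpow_neg, hpw, commutatorElement_inv]
    have hself : ∀ i j : ℤ, ⁅Tq ^ i, Tq ^ j⁆ = 1 := fun i j =>
      commutatorElement_eq_one_iff_mul_comm.2 ((Commute.refl Tq).zpow_zpow i j)
    have hcm : Commute (⁅Tq, Zq⁆ ^ m) (⁅Tq, Yq⁆ ^ n) := by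
      have h6 := hcc ⟨t, htN⟩ ⟨z, hzN⟩ ⁅(⟨t, htN⟩ : N), ⟨y, hyN⟩⁆
      rw [map_commutatorElement] at h6
      exact h6.zpow_zpow m n
    rw [(hbr Zq (Tq ^ (-n)) (Yq * Tq ^ m)).1, (hbr Zq Yq (Tq ^ m)).2,
      (hbr (Tq ^ (-n)) Yq (Tq ^ m)).2, hmn, hZT, hself, mul_one, ← hpw, hcm.eq, zpow_neg, zpow_neg]
    simp only [Yq, Tq, Zq]
    group

end Cfsg.Agent.RankThreeNormal
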