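import Cfsg.Agent.Lib.RankThreeNormal.RankTwo
import Cfsg.Agent.Lib.RankThreeNormal.Transvection

/-!
The two-generator subgroup of order `p⁵` is the only one of its kind in its normaliser, and it
excludes a single-block subgroup of rank three beside it.
-/

set_option autoImplicit false
set_option maxHeartbeats 800000

namespace Cfsg.Agent.RankThreeNormal

open Subgroup Cfsg.Agent
open Cfsg.Agent.Fusion.MaxClassRankThree (ev ev_apply ev_mem ev_mul ev_inv ev_comm ev_pow ev_zpow)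
open scoped commutatorElement

variable {G : Type*} [Group G] [Finite G] {p : ℕ} [Fact p.Prime]

/-- `E` of order `p⁵` and class three, of index `p` in `N`. -/
structure BadIn (p : ℕ) (E N : Subgroup G) : Prop where
  hG : IsPGroup p G
  le : E ≤ N
  nm : Nm E N
  cardN : Nat.card N = p * Nat.card E
  cardE : Nat.card E = p ^ 5
  cardD : Nat.card (⁅E, E⁆ : Subgroup G) = p ^ 3
  cardZ : Nat.card (⁅⁅E, E⁆, E⁆ : Subgroup G) = p ^ 2
  central : ∀ z ∈ ⁅⁅E, E⁆, E⁆, ∀ e ∈ E, Commute z e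
  inj : ∀ w ∈ ⁅E, E⁆, w ∉ ⁅⁅E, E⁆, E⁆ → ∀ e ∈ E, Commute e w → e ∈ ⁅E, E⁆
  moved : ∃ z ∈ ⁅⁅E, E⁆, E⁆, ∃ g ∈ N, ¬ Commute z g
  outer : ¬ Com ⁅E, E⁆ E N

namespace BadIn

variable {E E₂ N : Subgroup G} (h : BadIn p E N)
include h

theorem D_le : ⁅E, E⁆ ≤ E := commutator_le.2 fun _ hu _ hv =>
  mul_mem (mul_mem (mul_mem hu hv) (inv_mem hu)) (inv_mem hv)

theorem Z_le : ⁅⁅E, E⁆, E⁆ ≤ ⁅E, E⁆ := commutator_le.2 fun u hu v hv => by
  have hn : v * u⁻¹ * v⁻¹ ∈ ⁅E, E⁆ :=
    ((Nm.self E).commutator (Nm.self E)) v hv _ (inv_mem hu)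
  have := mul_mem hu hn
  simpa [commutatorElement_def, mul_assoc] using this

theorem comm_mem {x y : G} (hx : x ∈ N) (hy : y ∈ N) : ⁅x, y⁆ ∈ E := by
  have := h.nm.normal_subgroupOf
  have hi : (E.subgroupOf N).index = p := by
    have h2 := (E.subgroupOf N).card_mul_index
    rw [Nat.card_congr (subgroupOfEquivOfLe h.le).toEquiv, h.cardN, mul_comm p] at h2
    exact Nat.eq_of_mul_eq_mul_left Nat.card_pos h2
  exact PGroup.commutator_le_of_index_eq (p := p) (E.subgroupOf N) hi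
    (commutator_mem_commutator (mem_top (⟨x, hx⟩ : N)) (mem_top ⟨y, hy⟩))

/-- The centre of a proper overgroup of `[E, E]` in `E`. -/
theorem centre_le {T : Subgroup G} (hDT : ⁅E, E⁆ ≤ T) (hTE : T ≤ E) (hlt : ¬ T ≤ ⁅E, E⁆) {z : G}
    (hz : z ∈ T) (hc : ∀ t ∈ T, Commute z t) : z ∈ ⁅⁅E, E⁆, E⁆ := by
  obtain ⟨w, hw, hwZ⟩ := SetLike.not_le_iff_exists.1 (fun hle : ⁅E, E⁆ ≤ ⁅⁅E, E⁆, E⁆ => by
    have h1 := Subgroup.card_le_of_le hle
    rw [h.cardD, h.cardZ] at h1
    exact absurd h1 (Nat.pow_lt_pow_right (Fact.out : p.Prime).one_lt (by norm_num)).not_ge)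
  have hzD : z ∈ ⁅E, E⁆ := h.inj w hw hwZ z (hTE hz) (hc w (hDT hw))
  by_contra hzZ
  obtain ⟨t, ht, htD⟩ := SetLike.not_le_iff_exists.1 hlt
  exact htD (h.inj z hzD hzZ t (hTE ht) (hc t ht).symm)

/-- Everything in a subgroup in the same position contains the derived subgroup of `E`. -/
theorem D_le_other (h₂ : Nm E₂ N) (hle : E₂ ≤ N) (hcard : Nat.card N = p * Nat.card E₂) :
    ⁅E, E⁆ ≤ E₂ := by
  have := h₂.normal_subgroupOf
  have hi : (E₂.subgroupOf N).index = p := by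
    have h2 := (E₂.subgroupOf N).card_mul_index
    rw [Nat.card_congr (subgroupOfEquivOfLe hle).toEquiv, hcard, mul_comm p] at h2
    exact Nat.eq_of_mul_eq_mul_left Nat.card_pos h2
  exact commutator_le.2 fun u hu v hv => PGroup.commutator_le_of_index_eq (p := p) (E₂.subgroupOf N) hi
    (commutator_mem_commutator (mem_top (⟨u, h.le hu⟩ : N)) (mem_top ⟨v, h.le hv⟩))

theorem not_inf_le (hle : E₂ ≤ N) (hcard : Nat.card N = p * Nat.card E₂) :
    ¬ E ⊓ E₂ ≤ ⁅E, E⁆ := by
  intro hcon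
  have hp := (Fact.out : p.Prime)
  have hEE : Nat.card E₂ = Nat.card E :=
    Nat.eq_of_mul_eq_mul_left hp.pos (hcard.symm.trans h.cardN)
  have h1 := (card_le_mul_inf h.le hle).trans
    (Nat.mul_le_mul_right _ (Subgroup.card_le_of_le hcon))
  rw [hEE, h.cardN, h.cardD, h.cardE] at h1
  have h2 : p ^ 9 < p ^ 10 := Nat.pow_lt_pow_right hp.one_lt (by norm_num)
  have h3 : p ^ 10 ≤ p ^ 9 := by
    calc p ^ 10 = p ^ 5 * p ^ 5 := by ring
      _ ≤ _ := h1
      _ = p ^ 9 := by ring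
  omega

/-- It is the only one in `N`. -/
theorem unique (h₂ : BadIn p E₂ N) : E₂ = E := by
  by_contra hne
  have hp := (Fact.out : p.Prime)
  set T := E ⊓ E₂
  have hD1 : ⁅E, E⁆ ≤ T := le_inf h.D_le (h.D_le_other h₂.nm h₂.le h₂.cardN)
  have hD2 : ⁅E₂, E₂⁆ ≤ T := le_inf (h₂.D_le_other h.nm h.le h.cardN) h₂.D_le
  have hT2 : ¬ T ≤ ⁅E₂, E₂⁆ := by
    have := h₂.not_inf_le h.le h.cardN
    rwa [inf_comm] at this
  have hZ : ⁅⁅E, E⁆, E⁆ ≤ ⁅⁅E₂, E₂⁆, E₂⁆ := fun z hz =>
    h₂.centre_le hD2 inf_le_right hT2 (hD1 (h.Z_le hz)) fun t ht => h.central z hz t ht.1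
  obtain ⟨z, hz, g, hg, hzg⟩ := h.moved
  have hsup : E ⊔ E₂ = N := by
    refine eq_of_le_of_card_ge (sup_le h.le h₂.le) ?_
    rw [h.cardN]
    refine PGroup.mul_card_le_card h.hG (left_lt_sup.2 fun hle => hne ?_)
    exact eq_of_le_of_card_ge hle
      (Nat.eq_of_mul_eq_mul_left hp.pos (h₂.cardN.symm.trans h.cardN)).ge
  have hle : E ⊔ E₂ ≤ centralizer {z} := sup_le
    (fun e he => mem_centralizer_singleton_iff.2 (h.central z hz e he).eq.symm)
    (fun e he => mem_centralizer_singleton_iff.2 (h₂.central z (hZ hz) e he).eq.symm)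
  rw [hsup] at hle
  exact hzg (mem_centralizer_singleton_iff.1 (hle hg)).symm

theorem map (β : MulAut G) (hN : N.map β.toMonoidHom = N) :
    BadIn p (E.map β.toMonoidHom) N := by
  have hmem : ∀ {H : Subgroup G} {v : G}, β v ∈ H.map β.toMonoidHom ↔ v ∈ H := fun {H v} =>
    mem_map_iff_mem (f := β.toMonoidHom) β.injective
  have hcard : ∀ H : Subgroup G, Nat.card (H.map β.toMonoidHom) = Nat.card H := fun H =>
    card_map_of_injective (f := β.toMonoidHom) β.injective
  have hN' : ∀ {v : G}, β v ∈ N ↔ v ∈ N := fun {v} => by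
    conv_lhs => rw [← hN]
    exact hmem
  refine ⟨h.hG, ?_, ?_, by rw [hcard]; exact h.cardN, by rw [hcard]; exact h.cardE,
    by rw [← map_commutator, hcard]; exact h.cardD,
    by rw [← map_commutator, ← map_commutator, hcard]; exact h.cardZ, ?_, ?_, ?_, ?_⟩
  · rw [← hN]; exact map_mono h.le
  · rintro g hg _ ⟨v, hv, rfl⟩
    obtain ⟨g, rfl⟩ := β.surjective g
    show β g * β v * (β g)⁻¹ ∈ _
    rw [← map_mul, ← map_inv, ← map_mul]
    exact hmem.2 (h.nm g (hN'.1 hg) v hv)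
  · rw [← map_commutator, ← map_commutator]
    rintro _ ⟨z, hz, rfl⟩ _ ⟨e, he, rfl⟩
    exact (h.central z hz e he).map β
  · rw [← map_commutator, ← map_commutator]
    rintro _ ⟨w, hw, rfl⟩ hwZ _ ⟨e, he, rfl⟩ hc
    refine hmem.2 (h.inj w hw (fun h' => hwZ (hmem.2 h')) e he ?_)
    exact β.injective (by rw [map_mul, map_mul]; exact hc.eq)
  · obtain ⟨z, hz, g, hg, hzg⟩ := h.moved
    rw [← map_commutator, ← map_commutator]
    exact ⟨β z, hmem.2 hz, β g, hN'.2 hg, fun hc => hzg (β.injective (by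
      rw [map_mul, map_mul]; exact hc.eq))⟩
  · intro hcom
    refine h.outer fun u hu g hg => ?_
    have h1 := hcom (β u) (hmem.2 hu) (β g) (hN'.2 hg)
    rw [← map_commutator, ← map_commutatorElement] at h1
    exact hmem.1 h1

end BadIn

/-- Without invariant subgroups over `Φ(R)` there is no invariant hyperplane of `Φ(R)` centralised
by `R`. -/
theorem false_of_hyperplane (hG : IsPGroup p G) {R K : Subgroup G}
    (hcard : Nat.card R = p ^ 3 * Nat.card (phi R)) (hirr : CharIrr R) (hKΦ : K ≤ phi R)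
    (hΦK : Nat.card (phi R) = p * Nat.card K) (hinv : ∀ β : MulAut ↥R, ∀ v ∈ K, ev β v ∈ K)
    (hcom : Com K (phi R) R) : False := by
  have hp := (Fact.out : p.Prime)
  have hKR : K ≤ R := hKΦ.trans (phi_le R)
  have hnK : Nm K R := fun g hg v hv => by
    have h1 := mul_mem (hcom.symm g hg v (hKΦ hv)) hv
    simpa [commutatorElement_def] using h1
  have := hnK.normal_subgroupOf
  set Rad := cen K R R hnK
  have hΦRad : phi R ≤ Rad := fun v hv => ⟨phi_le R hv, hcom v hv⟩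
  rcases hirr Rad hΦRad (fun v hv => hv.1) (fun β v hv => ⟨ev_mem β hv.1, fun w hw => by
      obtain ⟨w', rfl⟩ : ∃ w' : R, ev β (w' : G) = w :=
        ⟨β.symm ⟨w, hw⟩, by rw [ev_apply β (β.symm ⟨w, hw⟩).2]; simp⟩
      rw [← ev_comm β hv.1 w'.2]
      exact hinv β _ (hv.2 w' w'.2)⟩) with he | he
  swap
  · -- commutative modulo `K`
    have hc : ∀ u ∈ R, ∀ v ∈ R, ⁅u, v⁆ ∈ K := fun u hu v hv => (he.ge hu).2 v hv
    set f := QuotientGroup.mk' (K.subgroupOf R)
    have hcomm : ∀ u v : ↥R ⧸ K.subgroupOf R, u * v = v * u := by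
      intro u v
      obtain ⟨u, rfl⟩ := QuotientGroup.mk'_surjective _ u
      obtain ⟨v, rfl⟩ := QuotientGroup.mk'_surjective _ v
      refine commutatorElement_eq_one_iff_mul_comm.1 ?_
      rw [← map_commutatorElement]
      exact (QuotientGroup.eq_one_iff _).2 (hc u u.2 v v.2)
    let P : ↥R →* (↥R ⧸ K.subgroupOf R) :=
      ⟨⟨fun u => f u ^ p, by rw [map_one, one_pow]⟩, fun u v => by
        show f (u * v) ^ p = f u ^ p * f v ^ p
        rw [map_mul]; exact Commute.mul_pow (hcomm _ _) p⟩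
    let Ker : Subgroup G := P.ker.map R.subtype
    have hmemK : ∀ {u : G} (hu : u ∈ R), u ∈ Ker ↔ u ^ p ∈ K := fun {u} hu => by
      refine (mem_map_iff_mem (x := (⟨u, hu⟩ : R)) R.subtype_injective).trans ?_
      show f ⟨u, hu⟩ ^ p = 1 ↔ _
      rw [← map_pow]
      exact QuotientGroup.eq_one_iff _
    have hΦKer : phi R ≤ Ker := fun v hv => by
      refine (hmemK (phi_le R hv)).2 ?_
      have h1 : K.relIndex (phi R) = p := by
        have h2 := relIndex_mul_relIndex ⊥ K (phi R) bot_le hKΦ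
        rw [relIndex_bot_left, relIndex_bot_left, hΦK, mul_comm p] at h2
        exact Nat.eq_of_mul_eq_mul_left Nat.card_pos h2
      have := (hnK.mono (phi_le R)).normal_subgroupOf
      exact PGroup.pow_mem_of_index_eq (p := p) (K.subgroupOf (phi R)) h1 (⟨v, hv⟩ : phi R)
    rcases hirr Ker hΦKer (map_subtype_le _) (fun β v hv => by
        have hvR : v ∈ R := map_subtype_le _ hv
        refine (hmemK (ev_mem β hvR)).2 ?_
        rw [← zpow_natCast, ← ev_zpow β hvR, zpow_natCast]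
        exact hinv β _ ((hmemK hvR).1 hv)) with hk | hk
    · -- the power map would be injective
      have hle : P.range ≤ ((phi R).subgroupOf R).map f := by
        rintro _ ⟨u, rfl⟩
        exact ⟨u ^ p, pow_mem_phi hG u.2, map_pow f u p⟩
      have h1 : Nat.card (((phi R).subgroupOf R).map f) ≤ p := by
        rw [← relIndex_ker, QuotientGroup.ker_mk']
        have h2 := relIndex_mul_relIndex ⊥ (K.subgroupOf R) ((phi R).subgroupOf R) bot_le
          (comap_mono hKΦ)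
        rw [relIndex_bot_left, relIndex_bot_left, Nat.card_congr (subgroupOfEquivOfLe hKR).toEquiv,
          Nat.card_congr (subgroupOfEquivOfLe (phi_le R)).toEquiv, hΦK, mul_comm p] at h2
        exact (Nat.eq_of_mul_eq_mul_left Nat.card_pos h2).le
      have h3 := P.ker.card_mul_index
      rw [index_ker, ← card_map_of_injective (K := P.ker) R.subtype_injective,
        show P.ker.map R.subtype = phi R from hk, hcard, mul_comm (p ^ 3)] at h3
      have h4 := Nat.eq_of_mul_eq_mul_left Nat.card_pos h3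
      have h5 := (Subgroup.card_le_of_le hle).trans h1
      rw [h4] at h5
      exact absurd h5 (by
        have := Nat.pow_lt_pow_right hp.one_lt (show 1 < 3 by norm_num)
        rw [pow_one] at this
        omega)
    · have h1 := Subgroup.card_le_of_le (phi_le_of (p := p) hc
        (fun u hu => (hmemK hu).1 (hk.ge hu)) : phi R ≤ K)
      rw [hΦK] at h1
      have := hp.two_le
      have : 0 < Nat.card K := Nat.card_pos
      nlinarith
  · -- an alternating form in three variables has a radical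
    obtain ⟨a₁, ha₁, ha₁Φ⟩ := SetLike.not_le_iff_exists.1 (fun hle : R ≤ phi R => by
      have h1 := Subgroup.card_le_of_le hle
      rw [hcard] at h1
      have h2 := Nat.le_of_mul_le_mul_right (h1.trans_eq (one_mul _).symm) Nat.card_pos
      have := Nat.one_lt_pow (n := 3) (by norm_num) hp.one_lt
      omega)
    obtain ⟨a₂, ha₂, ha12⟩ : ∃ a₂ ∈ R, ⁅a₁, a₂⁆ ∉ K := by
      by_contra hcon
      push Not at hcon
      exact ha₁Φ (he.le ⟨ha₁, hcon⟩)
    set f := QuotientGroup.mk' (K.subgroupOf R)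
    set Φq := ((phi R).subgroupOf R).map f with hΦq
    have hcK : ∀ {u v : G} (hu : u ∈ R) (hv : v ∈ R), Commute (f ⟨u, hu⟩) (f ⟨v, hv⟩) ↔ ⁅u, v⁆ ∈ K := by
      intro u v hu hv
      refine commutatorElement_eq_one_iff_mul_comm.symm.trans ?_
      rw [← map_commutatorElement]
      exact QuotientGroup.eq_one_iff _
    have hΦc : ∀ q ∈ Φq, ∀ q', Commute q q' := by
      rintro _ ⟨⟨u, hu⟩, hu', rfl⟩ q'
      obtain ⟨⟨v, hv⟩, rfl⟩ := QuotientGroup.mk'_surjective _ q'
      exact (hcK hu hv).2 (hcom u hu' v hv)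
    have hcΦq : Nat.card Φq = p := by
      rw [hΦq, ← relIndex_ker, QuotientGroup.ker_mk']
      have h2 := relIndex_mul_relIndex ⊥ (K.subgroupOf R) ((phi R).subgroupOf R) bot_le
        (comap_mono hKΦ)
      rw [relIndex_bot_left, relIndex_bot_left, Nat.card_congr (subgroupOfEquivOfLe hKR).toEquiv,
        Nat.card_congr (subgroupOfEquivOfLe (phi_le R)).toEquiv, hΦK, mul_comm p] at h2
      exact Nat.eq_of_mul_eq_mul_left Nat.card_pos h2
    have hcQ : Nat.card (↥R ⧸ K.subgroupOf R) = p ^ 4 := by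
      have h2 := card_eq_card_quotient_mul_card_subgroup (K.subgroupOf R)
      rw [Nat.card_congr (subgroupOfEquivOfLe hKR).toEquiv, hcard, hΦK, ← mul_assoc] at h2
      rw [show p ^ 4 = p ^ 3 * p by ring]
      exact (Nat.eq_of_mul_eq_mul_right Nat.card_pos h2).symm
    have hQΦ : ∀ q q' : ↥R ⧸ K.subgroupOf R, ⁅q, q'⁆ ∈ Φq := by
      intro q q'
      obtain ⟨u, rfl⟩ := QuotientGroup.mk'_surjective _ q
      obtain ⟨v, rfl⟩ := QuotientGroup.mk'_surjective _ q'
      rw [← map_commutatorElement]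
      exact mem_map_of_mem f (comm_mem_phi hG u.2 v.2)
    have hQp : ∀ q : ↥R ⧸ K.subgroupOf R, q ^ p ∈ Φq := by
      intro q
      obtain ⟨u, rfl⟩ := QuotientGroup.mk'_surjective _ q
      rw [← map_pow]
      exact mem_map_of_mem f (pow_mem_phi hG u.2)
    have hΦn : Φq.Normal := ⟨fun v hv g => by
      rw [← (hΦc v hv g).eq, mul_inv_cancel_right]; exact hv⟩
    let ψ : ∀ q₀ : ↥R ⧸ K.subgroupOf R, (↥R ⧸ K.subgroupOf R) →* (↥R ⧸ K.subgroupOf R) := fun q₀ =>
      ⟨⟨fun q => ⁅q, q₀⁆, commutatorElement_one_left q₀⟩, fun u v => by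
        show ⁅u * v, q₀⁆ = ⁅u, q₀⁆ * ⁅v, q₀⁆
        rw [commutatorElement_mul_left_eq_conj_mul, ← (hΦc _ (hQΦ v q₀) u).eq, mul_inv_cancel_right]
        exact (hΦc _ (hQΦ v q₀) _).eq⟩
    have hψi : ∀ q₀, (ψ q₀).ker.index ≤ p := fun q₀ => by
      rw [index_ker, ← hcΦq]
      exact Subgroup.card_le_of_le (by rintro _ ⟨q, rfl⟩; exact hQΦ q q₀)
    set A₁ := f ⟨a₁, ha₁⟩
    set A₂ := f ⟨a₂, ha₂⟩
    have hA : ¬ Commute A₁ A₂ := fun hh => ha12 ((hcK ha₁ ha₂).1 hh)
    obtain ⟨r, hr, hrΦ⟩ := SetLike.not_le_iff_exists.1 (fun hle : (ψ A₁).ker ⊓ (ψ A₂).ker ≤ Φq => by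
      have h1 := Subgroup.card_le_of_le hle
      have h2 := ((ψ A₁).ker ⊓ (ψ A₂).ker).card_mul_index
      have h3 : ((ψ A₁).ker ⊓ (ψ A₂).ker).index ≤ p * p :=
        index_inf_le.trans (Nat.mul_le_mul (hψi _) (hψi _))
      rw [hcΦq] at h1
      have h4 := Nat.mul_le_mul h1 h3
      rw [h2, hcQ] at h4
      have h5 : p ^ 3 < p ^ 4 := Nat.pow_lt_pow_right hp.one_lt (by norm_num)
      rw [show p * (p * p) = p ^ 3 by ring] at h4
      omega)
    have hr1 : Commute r A₁ := commutatorElement_eq_one_iff_mul_comm.1 hr.1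
    have hr2 : Commute r A₂ := commutatorElement_eq_one_iff_mul_comm.1 hr.2
    set M₁ := Φq ⊔ zpowers A₁
    have hM₁A : ∀ q ∈ M₁, Commute q A₁ := fun q hq => by
      have hle : M₁ ≤ centralizer {A₁} := sup_le
        (fun u hu => mem_centralizer_singleton_iff.2 (hΦc u hu A₁).eq)
        (zpowers_le.2 (mem_centralizer_singleton_iff.2 rfl))
      exact mem_centralizer_singleton_iff.1 (hle hq)
    have hnormal : ∀ M : Subgroup (↥R ⧸ K.subgroupOf R), Φq ≤ M → M.Normal := fun M hM => ⟨fun v hv g => by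
      have h1 := mul_mem (hM (hQΦ g v)) hv
      rwa [commutatorElement_def, inv_mul_cancel_right] at h1⟩
    have hA₁Φ : A₁ ∉ Φq := fun hh => hA (hΦc A₁ hh A₂)
    have hA₂M : A₂ ∉ M₁ := fun hh => hA (hM₁A A₂ hh).symm
    set M₂ := M₁ ⊔ zpowers A₂
    have := hnormal M₁ le_sup_left
    have := hnormal M₂ (le_sup_left.trans le_sup_left)
    have hrM : r ∉ M₂ := by
      intro hh
      obtain ⟨m, hm, j, hj⟩ := mem_sup_zpowers (normalizer_eq_top (H := M₁) ▸ mem_top A₂) hh
      obtain ⟨φ, hφ, i, rfl⟩ := mem_sup_zpowers (normalizer_eq_top (H := Φq) ▸ mem_top A₁) hm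
      have hA₁p : ∀ A B : ↥R ⧸ K.subgroupOf R, ¬ Commute A B → ∀ l : ℤ, Commute (A ^ l) B →
          (p : ℤ) ∣ l := fun A B hAB l hl => by
        have hcz := hΦc _ (hQΦ A B)
        have h1 := Fusion.MaxClassRankThree.comm_zpow (hcz A) (hcz B) l 1
        rw [zpow_one, mul_one, commutatorElement_eq_one_iff_mul_comm.2 hl.eq] at h1
        refine dvd_of_zpow_eq_one ?_ (fun h' => hAB (commutatorElement_eq_one_iff_mul_comm.1 h')) h1.symm
        have : Fintype Φq := Fintype.ofFinite _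
        have h2 : (⟨_, hQΦ A B⟩ : Φq) ^ Nat.card Φq = 1 := pow_card_eq_one'
        rw [hcΦq] at h2
        exact congrArg Subtype.val h2
      obtain ⟨u, rfl⟩ : (p : ℤ) ∣ j := hA₁p A₂ A₁ (fun hh => hA hh.symm) j (by
        have h1 := (hM₁A _ hm).inv_left.mul_left hr1
        rwa [hj, inv_mul_cancel_left] at h1)
      have hAp : (A₂ ^ (p : ℤ)) ^ u ∈ Φq := zpow_mem (by rw [zpow_natCast]; exact hQp A₂) u
      rw [zpow_mul] at hj
      obtain ⟨v, rfl⟩ : (p : ℤ) ∣ i := hA₁p A₁ A₂ hA i (by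
        have h1 := (hΦc φ hφ A₂).inv_left.mul_left (hr2.mul_left (hΦc _ hAp A₂).inv_left)
        rwa [hj, mul_inv_cancel_right, inv_mul_cancel_left] at h1)
      refine hrΦ ?_
      rw [hj, zpow_mul]
      exact mul_mem (mul_mem hφ (zpow_mem (by rw [zpow_natCast]; exact hQp A₁) v)) hAp
    have htop : M₂ ⊔ zpowers r = ⊤ := by
      refine eq_top_of_le_card _ ?_
      rw [hcQ, PGroup.card_sup_zpowers (p := p) M₂ hrM (mem_sup_left (mem_sup_left (hQp r)) : r ^ p ∈ M₂),
        PGroup.card_sup_zpowers (p := p) M₁ hA₂M (mem_sup_left (hQp A₂) : A₂ ^ p ∈ M₁),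
        PGroup.card_sup_zpowers (p := p) Φq hA₁Φ (hQp A₁), hcΦq]
      exact le_of_eq (by ring)
    have hrc : ∀ q, Commute r q := fun q => by
      have hle : M₂ ⊔ zpowers r ≤ centralizer {r} := sup_le (sup_le (sup_le
        (fun u hu => mem_centralizer_singleton_iff.2 (hΦc u hu r).eq)
        (zpowers_le.2 (mem_centralizer_singleton_iff.2 hr1.eq.symm)))
        (zpowers_le.2 (mem_centralizer_singleton_iff.2 hr2.eq.symm)))
        (zpowers_le.2 (mem_centralizer_singleton_iff.2 rfl))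
      exact (mem_centralizer_singleton_iff.1 (hle (htop.ge (mem_top q)))).symm
    obtain ⟨⟨u, hu⟩, rfl⟩ := QuotientGroup.mk'_surjective _ r
    exact hrΦ (mem_map_of_mem f (show (⟨u, hu⟩ : R) ∈ (phi R).subgroupOf R from
      he.le ⟨hu, fun v hv => (hcK hu hv).1 (hrc _)⟩))

/-- No single-block subgroup of rank three lies beside such an `E`. -/
theorem BadIn.false_of_charIrr {E R N : Subgroup G} (h : BadIn p E N) (hR : Pos p R N)
    (hne : R ≠ E) (hirr : CharIrr R) : False := by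
  have hp := (Fact.out : p.Prime)
  have hRE : Nat.card R = Nat.card E :=
    Nat.eq_of_mul_eq_mul_left hp.pos (hR.cardN.symm.trans h.cardN)
  have hΦc : Nat.card (phi R) = p ^ 2 := by
    have h1 := hR.cardE
    rw [hRE, h.cardE, show p ^ 5 = p ^ 3 * p ^ 2 by ring] at h1
    exact (Nat.eq_of_mul_eq_mul_left (pow_pos hp.pos 3) h1).symm
  set T := E ⊓ R
  have hDT : ⁅E, E⁆ ≤ T := le_inf h.D_le (h.D_le_other hR.nm hR.le hR.cardN)
  have hTD := h.not_inf_le hR.le hR.cardN
  have hΦT : phi R ≤ T := le_inf (phi_le_of (p := p)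
    (fun u hu v hv => h.comm_mem (hR.le hu) (hR.le hv)) (fun u hu => by
      have := h.nm.normal_subgroupOf
      have hi : (E.subgroupOf N).index = p := by
        have h2 := (E.subgroupOf N).card_mul_index
        rw [Nat.card_congr (subgroupOfEquivOfLe h.le).toEquiv, h.cardN, mul_comm p] at h2
        exact Nat.eq_of_mul_eq_mul_left Nat.card_pos h2
      exact PGroup.pow_mem_of_index_eq (p := p) (E.subgroupOf N) hi (⟨u, hR.le hu⟩ : N))) (phi_le R)
  set K := ⁅phi R, R⁆ with hK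
  have hKlt : (⊥ : Subgroup G) ⊔ ⁅phi R, N⁆ < phi R := sup_commutator_lt h.hG hR.phiN
    (fun g _ v hv => by rw [Subgroup.mem_bot.1 hv]; simp) hR.nmPhi (bot_lt_iff_ne_bot.2 fun hb => by
      rw [hb, card_bot] at hΦc
      have := Nat.one_lt_pow (n := 2) (by norm_num) hp.one_lt
      omega)
  rw [bot_sup_eq] at hKlt
  have hKle : K ≤ ⁅phi R, N⁆ := commutator_mono le_rfl hR.le
  have hKΦ : K ≤ phi R := hKle.trans hKlt.le
  by_cases hKb : K = ⊥
  · have hcen : ∀ z ∈ phi R, ∀ e ∈ R, Commute z e := fun z hz e he =>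
      commutatorElement_eq_one_iff_mul_comm.1 (Subgroup.mem_bot.1
        (hKb.le (commutator_mem_commutator hz he)))
    have hle : phi R ≤ ⁅⁅E, E⁆, E⁆ := fun z hz =>
      h.centre_le hDT inf_le_left hTD (hΦT hz) fun t ht => hcen z hz t ht.2
    have heq : phi R = ⁅⁅E, E⁆, E⁆ := eq_of_le_of_card_ge hle (by rw [hΦc, h.cardZ])
    obtain ⟨z, hz, g, hg, hzg⟩ := h.moved
    have hsup : E ⊔ R = N := by
      refine eq_of_le_of_card_ge (sup_le h.le hR.le) ?_
      rw [h.cardN]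
      exact PGroup.mul_card_le_card h.hG (left_lt_sup.2 fun hle =>
        hne (eq_of_le_of_card_ge hle hRE.ge))
    have hcc : E ⊔ R ≤ centralizer {z} := sup_le
      (fun e he => mem_centralizer_singleton_iff.2 (h.central z hz e he).eq.symm)
      (fun e he => mem_centralizer_singleton_iff.2 (hcen z (heq.ge hz) e he).eq.symm)
    rw [hsup] at hcc
    exact hzg (mem_centralizer_singleton_iff.1 (hcc hg)).symm
  have hKc : Nat.card K = p := by
    have h1 := PGroup.mul_card_le_card h.hG (bot_lt_iff_ne_bot.2 hKb)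
    rw [card_bot, mul_one] at h1
    have h2 := (Nat.mul_le_mul_left p (Subgroup.card_le_of_le hKle)).trans
      (PGroup.mul_card_le_card h.hG hKlt)
    rw [hΦc, sq] at h2
    exact le_antisymm (Nat.le_of_mul_le_mul_left h2 hp.pos) h1
  refine false_of_hyperplane h.hG hR.cardE hirr hKΦ (by rw [hΦc, hKc, sq]) (fun β => ?_)
    (fun u hu v hv => commutator_mem_commutator hu hv)
  intro v hv
  have hle : K ≤ (K.comap (R.subtype.comp β.toMonoidHom)).map R.subtype := commutator_le.2 fun u hu w hw => by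
    have huR := phi_le R hu
    refine ⟨⁅(⟨u, huR⟩ : R), ⟨w, hw⟩⁆, ?_, map_commutatorElement _ _ _⟩
    show ((β ⁅(⟨u, huR⟩ : R), ⟨w, hw⟩⁆ : R) : G) ∈ K
    have h1 : ((β ⟨u, huR⟩ : R) : G) ∈ phi R := by rw [← ev_apply β huR]; exact ev_mem_phi β hu
    rw [map_commutatorElement]
    exact commutator_mem_commutator h1 (β ⟨w, hw⟩).2
  obtain ⟨w, hw, rfl⟩ := hle hv
  show ev β (w : G) ∈ K
  rw [ev_apply β w.2]
  exact hw

end Cfsg.Agent.RankThreeNormal
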