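import Cfsg.Agent.Lib.PGroup.Basic
import Cfsg.Agent.Lib.PGroup.Frattini
import Cfsg.Agent.Lib.PGroup.Class2
import Cfsg.Agent.Lib.Fusion.MaxClassRankThree

/-!
Subgroup calculus for the proof that rank three essential subgroups are normal: Frattini subgroups
of subgroups, commutators modulo a normalised subgroup, sections of rank at most three, and pairs of
maximal subgroups.
-/

set_option autoImplicit false

namespace Cfsg.Agent.RankThreeNormal

open Subgroup Cfsg.Agent
open Cfsg.Agent.Fusion.MaxClassRankThree (ev ev_apply ev_mem ev_mul ev_inv ev_comm ev_pow ev_zpow)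
open scoped commutatorElement

variable {G : Type*} [Group G]

/-- `M` normalises `K`. -/
def Nm (K M : Subgroup G) : Prop := ∀ g ∈ M, ∀ v ∈ K, g * v * g⁻¹ ∈ K

namespace Nm

variable {H K M : Subgroup G}

theorem map_le (h : Nm K M) {g : G} (hg : g ∈ M) : K.map (MulAut.conj g).toMonoidHom ≤ K := by
  rintro _ ⟨v, hv, rfl⟩
  exact h g hg v hv

theorem of_map_le (h : ∀ g ∈ M, K.map (MulAut.conj g).toMonoidHom ≤ K) : Nm K M :=
  fun g hg v hv => h g hg ⟨v, hv, rfl⟩

theorem le_normalizer (h : Nm K M) : M ≤ normalizer (K : Set G) := fun g hg =>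
  mem_normalizer_iff.2 fun v => ⟨h g hg v, fun hv => by
    have := h g⁻¹ (inv_mem hg) _ hv
    simpa [mul_assoc] using this⟩

theorem of_le_normalizer (h : M ≤ normalizer (K : Set G)) : Nm K M :=
  fun g hg v hv => (mem_normalizer_iff.1 (h hg) v).1 hv

theorem self (M : Subgroup G) : Nm M M := fun _ hg _ hv => mul_mem (mul_mem hg hv) (inv_mem hg)

theorem mono {M' : Subgroup G} (h : Nm K M) (hle : M' ≤ M) : Nm K M' := fun g hg => h g (hle hg)

theorem sup (h : Nm H M) (h' : Nm K M) : Nm (H ⊔ K) M := of_map_le fun g hg => by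
  rw [Subgroup.map_sup]
  exact sup_le_sup (h.map_le hg) (h'.map_le hg)

theorem inf (h : Nm H M) (h' : Nm K M) : Nm (H ⊓ K) M :=
  fun g hg v hv => ⟨h g hg v hv.1, h' g hg v hv.2⟩

theorem commutator (h : Nm H M) (h' : Nm K M) : Nm ⁅H, K⁆ M := of_map_le fun g hg => by
  rw [Subgroup.map_commutator]
  exact commutator_mono (h.map_le hg) (h'.map_le hg)

theorem normal_subgroupOf (h : Nm K M) : (K.subgroupOf M).Normal :=
  ⟨fun v hv g => h g g.2 v hv⟩

end Nm

/-! ### Commutators modulo a normalised subgroup -/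

/-- All commutators of `X` with `Y` lie in `K`. -/
def Com (K X Y : Subgroup G) : Prop := ∀ x ∈ X, ∀ y ∈ Y, ⁅x, y⁆ ∈ K

/-- The elements of `N` commuting with `Y` modulo `K`. -/
def cen (K N Y : Subgroup G) (hK : Nm K N) : Subgroup G where
  carrier := {x | x ∈ N ∧ ∀ y ∈ Y, ⁅x, y⁆ ∈ K}
  one_mem' := ⟨one_mem _, fun y _ => by simp [commutatorElement_one_left]⟩
  mul_mem' := by
    rintro u v ⟨hu, hu'⟩ ⟨hv, hv'⟩
    refine ⟨mul_mem hu hv, fun y hy => ?_⟩
    rw [commutatorElement_mul_left_eq_conj_mul]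
    exact mul_mem (hK u hu _ (hv' y hy)) (hu' y hy)
  inv_mem' := by
    rintro u ⟨hu, hu'⟩
    refine ⟨inv_mem hu, fun y hy => ?_⟩
    have h : ⁅u⁻¹, y⁆ = u⁻¹ * ⁅u, y⁆⁻¹ * u⁻¹⁻¹ := by
      simp only [commutatorElement_def]
      group
    rw [h]
    exact hK _ (inv_mem hu) _ (inv_mem (hu' y hy))

theorem mem_cen {K N Y : Subgroup G} {hK : Nm K N} {x : G} :
    x ∈ cen K N Y hK ↔ x ∈ N ∧ ∀ y ∈ Y, ⁅x, y⁆ ∈ K := Iff.rfl

namespace Com

variable {K N X X' Y : Subgroup G}

theorem symm (h : Com K X Y) : Com K Y X := fun y hy x hx => by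
  rw [← commutatorElement_inv]
  exact inv_mem (h x hx y hy)

theorem mono_left (h : Com K X Y) (hle : X' ≤ X) : Com K X' Y := fun x hx => h x (hle hx)

theorem sup_left (hK : Nm K N) (hX : X ≤ N) (hX' : X' ≤ N) (h : Com K X Y) (h' : Com K X' Y) :
    Com K (X ⊔ X') Y := by
  have hle : X ⊔ X' ≤ cen K N Y hK :=
    sup_le (fun x hx => ⟨hX hx, h x hx⟩) (fun x hx => ⟨hX' hx, h' x hx⟩)
  exact fun x hx => (hle hx).2

theorem zpowers_left (hK : Nm K N) {u : G} (hu : u ∈ N) (h : ∀ y ∈ Y, ⁅u, y⁆ ∈ K) :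
    Com K (zpowers u) Y :=
  fun x hx => ((zpowers_le (H := cen K N Y hK)).2 ⟨hu, h⟩ hx).2

theorem zpowers_zpowers (hK : Nm K N) {u v : G} (hu : u ∈ N) (hv : v ∈ N) (h : ⁅u, v⁆ ∈ K) :
    Com K (zpowers u) (zpowers v) := by
  have := hK.normal_subgroupOf
  rintro _ ⟨i, rfl⟩ _ ⟨j, rfl⟩
  set f := QuotientGroup.mk' (K.subgroupOf N)
  have h0 : Commute (f ⟨u, hu⟩) (f ⟨v, hv⟩) := by
    refine commutatorElement_eq_one_iff_mul_comm.1 ?_
    rw [← map_commutatorElement]
    exact (QuotientGroup.eq_one_iff _).2 h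
  have h1 : ⁅(⟨u, hu⟩ : N) ^ i, (⟨v, hv⟩ : N) ^ j⁆ ∈ K.subgroupOf N := by
    refine (QuotientGroup.eq_one_iff _).1 ?_
    show f _ = 1
    rw [map_commutatorElement, map_zpow, map_zpow]
    exact commutatorElement_eq_one_iff_mul_comm.2 (h0.zpow_zpow i j)
  exact h1

end Com

/-! ### Orders -/

variable [Finite G] {p : ℕ} [Fact p.Prime]

theorem map_subgroupOf {H M : Subgroup G} (h : H ≤ M) : (H.subgroupOf M).map M.subtype = H := by
  rw [subgroupOf_map_subtype, inf_eq_left.2 h]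

/-- The order of `K ⊔ ⟨x⟩` when `x` normalises `K` and `x ^ p ∈ K`. -/
theorem card_sup {K : Subgroup G} {x : G} (hx : x ∈ normalizer (K : Set G)) (hxK : x ∉ K)
    (hxp : x ^ p ∈ K) : Nat.card ↥(K ⊔ zpowers x) = p * Nat.card K := by
  set M := normalizer (K : Set G)
  have hKM : K ≤ M := le_normalizer
  have := (Nm.of_le_normalizer (K := K) (M := M) le_rfl).normal_subgroupOf
  have h := PGroup.card_sup_zpowers (p := p) (K.subgroupOf M) (x := ⟨x, hx⟩) hxK hxp
  rw [← card_map_of_injective (K := K.subgroupOf M ⊔ zpowers ⟨x, hx⟩) M.subtype_injective,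
    Subgroup.map_sup, map_subgroupOf hKM, MonoidHom.map_zpowers,
    ← card_map_of_injective (K := K.subgroupOf M) M.subtype_injective, map_subgroupOf hKM] at h
  rw [mul_comm]
  exact h

omit [Finite G] in
theorem mem_sup_zpowers {K : Subgroup G} {x v : G} (hx : x ∈ normalizer (K : Set G))
    (hv : v ∈ K ⊔ zpowers x) : ∃ k ∈ K, ∃ i : ℤ, v = k * x ^ i := by
  rw [← SetLike.mem_coe, coe_mul_of_right_le_normalizer_left K (zpowers x) (zpowers_le.2 hx)] at hv
  obtain ⟨k, hk, y, hy, rfl⟩ := hv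
  obtain ⟨i, rfl⟩ := mem_zpowers_iff.1 hy
  exact ⟨k, hk, i, rfl⟩

/-- A proper inclusion of index at most `p` is reached by adjoining any outside element. -/
theorem sup_eq_of_card_le (hG : IsPGroup p G) {K H : Subgroup G} (hKH : K ≤ H)
    (hcard : Nat.card H ≤ p * Nat.card K) {x : G} (hxH : x ∈ H) (hxK : x ∉ K) :
    K ⊔ zpowers x = H :=
  eq_of_le_of_card_ge (sup_le hKH (zpowers_le.2 hxH)) (hcard.trans
    (PGroup.mul_card_le_card hG (left_lt_sup.2 fun h => hxK (h (mem_zpowers x)))))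

/-- `K ⊔ [H, N] < H` for `K < H` normalised by `N`. -/
theorem sup_commutator_lt (hG : IsPGroup p G) {K H N : Subgroup G} (hHN : H ≤ N) (hK : Nm K N)
    (hH : Nm H N) (hlt : K < H) : K ⊔ ⁅H, N⁆ < H := by
  have hle : K ⊔ ⁅H, N⁆ ≤ H := sup_le hlt.le (commutator_le.2 fun h hh g hg => by
    have := mul_mem hh (hH g hg _ (inv_mem hh))
    simpa [commutatorElement_def, mul_assoc] using this)
  refine lt_of_le_of_ne hle fun he => ?_
  have hKn := hK.normal_subgroupOf
  have hHn := hH.normal_subgroupOf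
  set f := QuotientGroup.mk' (K.subgroupOf N)
  set Hb := (H.subgroupOf N).map f
  have hHb : Hb.Normal := hHn.map f (QuotientGroup.mk'_surjective _)
  have hne : Hb ≠ ⊥ := by
    rw [Ne, Subgroup.map_eq_bot_iff, QuotientGroup.ker_mk']
    exact fun h => hlt.not_ge fun v hv => h (show (⟨v, hHN hv⟩ : N) ∈ H.subgroupOf N from hv)
  refine (PGroup.commutator_top_lt ((hG.to_subgroup N).to_quotient _) Hb hne).not_ge ?_
  rw [← map_top_of_surjective f (QuotientGroup.mk'_surjective _), ← Subgroup.map_commutator,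
    Subgroup.map_le_map_iff, QuotientGroup.ker_mk']
  intro v hv
  have h1 : (v : G) ∈ (⁅H.subgroupOf N, (⊤ : Subgroup N)⁆ ⊔ K.subgroupOf N).map N.subtype := by
    rw [Subgroup.map_sup, Subgroup.map_commutator, map_subgroupOf hHN, ← MonoidHom.range_eq_map, Subgroup.range_subtype,
      map_subgroupOf (hlt.le.trans hHN), sup_comm, he]
    exact hv
  exact (mem_map_iff_mem N.subtype_injective).1 h1

/-- A normalised subgroup with a factor of order at most `p` above `K` is central modulo `K`. -/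
theorem com_of_card_le (hG : IsPGroup p G) {K H N : Subgroup G} (hHN : H ≤ N) (hK : Nm K N)
    (hH : Nm H N) (hKH : K ≤ H) (hcard : Nat.card H ≤ p * Nat.card K) : Com K H N := by
  intro h hh g hg
  rcases eq_or_lt_of_le hKH with rfl | hlt
  · have := mul_mem hh (hH g hg _ (inv_mem hh))
    simpa [commutatorElement_def, mul_assoc] using this
  have h1 := sup_commutator_lt hG hHN hK hH hlt
  have h2 : K ⊔ ⁅H, N⁆ = K := by
    by_contra hne
    have h3 := PGroup.mul_card_le_card hG (lt_of_le_of_ne le_sup_left (Ne.symm hne))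
    have h4 := PGroup.mul_card_le_card hG h1
    have hp := (Fact.out : p.Prime).two_le
    have hc : 0 < Nat.card K := Nat.card_pos
    nlinarith
  exact h2.le (mem_sup_right (commutator_mem_commutator hh hg))

theorem card_le_mul_inf {H K N : Subgroup G} (hH : H ≤ N) (hK : K ≤ N) :
    Nat.card H * Nat.card K ≤ Nat.card ↥(H ⊓ K) * Nat.card N := by
  have h1 := relIndex_mul_relIndex ⊥ (K ⊓ H) H bot_le inf_le_right
  rw [relIndex_bot_left, relIndex_bot_left, inf_relIndex_right, inf_comm] at h1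
  have h2 := relIndex_mul_relIndex ⊥ K N bot_le hK
  rw [relIndex_bot_left, relIndex_bot_left] at h2
  rw [← h1, ← h2, mul_assoc, mul_comm (Nat.card K) (K.relIndex N)]
  exact Nat.mul_le_mul_left _ (Nat.mul_le_mul_right _ (relIndex_le_of_le_right hH
    (by
      intro h
      rw [h, mul_zero] at h2
      exact Nat.card_pos.ne h2)))

/-! ### The Frattini subgroup of a subgroup -/

/-- `Φ(H)` as a subgroup of `G`. -/
def phi (H : Subgroup G) : Subgroup G := (frattini ↥H).map H.subtype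

omit [Finite G] in
theorem phi_le (H : Subgroup G) : phi H ≤ H := map_subtype_le _

theorem comm_mem_phi (hG : IsPGroup p G) {H : Subgroup G} {x y : G} (hx : x ∈ H) (hy : y ∈ H) :
    ⁅x, y⁆ ∈ phi H :=
  ⟨⁅(⟨x, hx⟩ : H), ⟨y, hy⟩⁆, PGroup.commutator_le_frattini (hG.to_subgroup H)
    (commutator_mem_commutator (mem_top _) (mem_top _)), map_commutatorElement H.subtype _ _⟩

theorem pow_mem_phi (hG : IsPGroup p G) {H : Subgroup G} {x : G} (hx : x ∈ H) : x ^ p ∈ phi H :=
  ⟨(⟨x, hx⟩ : H) ^ p, PGroup.pow_mem_frattini (hG.to_subgroup H) _, rfl⟩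

theorem phi_le_of {H N : Subgroup G} (hc : ∀ x ∈ H, ∀ y ∈ H, ⁅x, y⁆ ∈ N)
    (hp : ∀ x ∈ H, x ^ p ∈ N) : phi H ≤ N := by
  rw [phi, map_le_iff_le_comap]
  refine PGroup.frattini_le (p := p) ?_ fun x => hp x x.2
  rw [commutator_def, commutator_le]
  intro x _ y _
  rw [mem_comap, map_commutatorElement]
  exact hc x x.2 y y.2

omit [Finite G] in
theorem ev_mem_phi {H : Subgroup G} (β : MulAut ↥H) {v : G} (hv : v ∈ phi H) :
    ev β v ∈ phi H := by
  obtain ⟨w, hw, rfl⟩ := hv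
  refine ⟨β w, frattini_le_comap_frattini_of_surjective (φ := β.toMonoidHom) β.surjective hw, ?_⟩
  exact (ev_apply β w.2).symm

theorem map_conj_phi (hG : IsPGroup p G) (H : Subgroup G) (g : G) :
    (phi H).map (MulAut.conj g).toMonoidHom = phi (H.map (MulAut.conj g).toMonoidHom) := by
  refine le_antisymm ?_ ?_
  · rw [map_le_iff_le_comap]
    refine phi_le_of (p := p) (fun x hx y hy => ?_) fun x hx => ?_
    · rw [mem_comap, map_commutatorElement]
      exact comm_mem_phi hG ⟨x, hx, rfl⟩ ⟨y, hy, rfl⟩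
    · rw [mem_comap, map_pow]
      exact pow_mem_phi hG ⟨x, hx, rfl⟩
  · refine phi_le_of (p := p) ?_ ?_
    · rintro _ ⟨x, hx, rfl⟩ _ ⟨y, hy, rfl⟩
      exact ⟨_, comm_mem_phi hG hx hy, map_commutatorElement _ _ _⟩
    · rintro _ ⟨x, hx, rfl⟩
      exact ⟨_, pow_mem_phi hG hx, map_pow _ _ _⟩

theorem nm_phi (hG : IsPGroup p G) {H M : Subgroup G} (h : Nm H M) : Nm (phi H) M :=
  Nm.of_map_le fun g hg => by
    rw [map_conj_phi hG]
    refine phi_le_of (p := p) (fun x hx y hy => ?_) fun x hx => ?_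
    · exact comm_mem_phi hG (h.map_le hg hx) (h.map_le hg hy)
    · exact pow_mem_phi hG (h.map_le hg hx)

/-! ### Rank three -/

/-- Elementary abelian sections have order at most `p ^ 3`. -/
def RankThree (p : ℕ) (G : Type*) [Group G] : Prop :=
  ∀ H K : Subgroup G, K ≤ H → Com K H H → (∀ x ∈ H, x ^ p ∈ K) →
    Nat.card H ≤ p ^ 3 * Nat.card K

omit [Fact p.Prime] in
theorem rankThree_of_sectional (h : Cfsg.SectionalPRankLE p 3 G) : RankThree p G := by
  intro H K hKH hc hp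
  have hK : Nm K H := fun g hg v hv => by
    have := mul_mem (hc g hg v (hKH hv)) hv
    simpa [commutatorElement_def] using this
  have := hK.normal_subgroupOf
  set f := QuotientGroup.mk' (K.subgroupOf H)
  have hcomm : IsMulCommutative ↥(⊤ : Subgroup (↥H ⧸ K.subgroupOf H)) := by
    refine ⟨⟨?_⟩⟩
    rintro ⟨a, -⟩ ⟨b, -⟩
    obtain ⟨a, rfl⟩ := QuotientGroup.mk'_surjective _ a
    obtain ⟨b, rfl⟩ := QuotientGroup.mk'_surjective _ b
    refine Subtype.ext ?_
    show f a * f b = f b * f a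
    rw [← commutatorElement_eq_one_iff_mul_comm, ← map_commutatorElement]
    exact (QuotientGroup.eq_one_iff _).2 (hc a a.2 b b.2)
  have h1 := h H (K.subgroupOf H) ⊤ hcomm fun a _ => by
    obtain ⟨a, rfl⟩ := QuotientGroup.mk'_surjective _ a
    rw [← map_pow]
    exact (QuotientGroup.eq_one_iff _).2 (hp a a.2)
  rw [card_top, ← index_eq_card] at h1
  have h2 := (K.subgroupOf H).card_mul_index
  rw [Nat.card_congr (subgroupOfEquivOfLe hKH).toEquiv] at h2
  rw [← h2, mul_comm (p ^ 3)]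
  exact Nat.mul_le_mul_left _ h1

/-! ### Maximal subgroups of the normaliser -/

/-- `E` has index `p` in `N`, is normalised by it, and needs three generators. -/
structure Pos (p : ℕ) (E N : Subgroup G) : Prop where
  hG : IsPGroup p G
  rank : RankThree p G
  hp5 : 5 ≤ p
  le : E ≤ N
  nm : Nm E N
  cardN : Nat.card N = p * Nat.card E
  cardE : Nat.card E = p ^ 3 * Nat.card (phi E)

namespace Pos

variable {E E₁ N : Subgroup G}

theorem nmPhi (h : Pos p E N) : Nm (phi E) N := nm_phi h.hG h.nm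

theorem phiN (h : Pos p E N) : phi E ≤ N := (phi_le E).trans h.le

theorem index_subgroupOf (h : Pos p E N) : (E.subgroupOf N).index = p := by
  have h2 := (E.subgroupOf N).card_mul_index
  rw [Nat.card_congr (subgroupOfEquivOfLe h.le).toEquiv, h.cardN, mul_comm p] at h2
  exact Nat.eq_of_mul_eq_mul_left Nat.card_pos h2

theorem comm_mem (h : Pos p E N) {x y : G} (hx : x ∈ N) (hy : y ∈ N) : ⁅x, y⁆ ∈ E := by
  have := h.nm.normal_subgroupOf
  exact PGroup.commutator_le_of_index_eq (p := p) (E.subgroupOf N) h.index_subgroupOf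
    (commutator_mem_commutator (mem_top (⟨x, hx⟩ : N)) (mem_top ⟨y, hy⟩))

theorem pow_mem (h : Pos p E N) {x : G} (hx : x ∈ N) : x ^ p ∈ E := by
  have := h.nm.normal_subgroupOf
  exact PGroup.pow_mem_of_index_eq (p := p) (E.subgroupOf N) h.index_subgroupOf (⟨x, hx⟩ : N)

theorem phi_le' (h : Pos p E N) {H : Subgroup G} (hH : H ≤ N) : phi H ≤ E :=
  phi_le_of (p := p) (fun _ hx _ hy => h.comm_mem (hH hx) (hH hy)) fun _ hx => h.pow_mem (hH hx)

theorem sup_zpowers (h : Pos p E N) {x : G} (hx : x ∈ N) (hxE : x ∉ E) : E ⊔ zpowers x = N :=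
  sup_eq_of_card_le h.hG h.le h.cardN.le hx hxE

theorem card_inf (h : Pos p E N) (h₁ : Pos p E₁ N) (hne : E₁ ≠ E) :
    p * Nat.card ↥(E ⊓ E₁) = Nat.card E := by
  have hEE : Nat.card E₁ = Nat.card E := Nat.eq_of_mul_eq_mul_left (Fact.out : p.Prime).pos
    (h₁.cardN.symm.trans h.cardN)
  refine le_antisymm ?_ ?_
  · refine PGroup.mul_card_le_card h.hG (lt_of_le_of_ne inf_le_left fun he => hne ?_)
    exact (eq_of_le_of_card_ge (inf_eq_left.1 he) hEE.le).symm
  · have h2 := card_le_mul_inf h.le h₁.le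
    rw [hEE, h.cardN, ← mul_assoc] at h2
    rw [mul_comm p]
    exact Nat.le_of_mul_le_mul_right h2 Nat.card_pos

theorem not_le (h : Pos p E N) (h₁ : Pos p E₁ N) (hne : E₁ ≠ E) : ∃ x ∈ E₁, x ∉ E :=
  SetLike.not_le_iff_exists.1 fun hle => hne (eq_of_le_of_card_ge hle
    (Nat.eq_of_mul_eq_mul_left (Fact.out : p.Prime).pos (h.cardN.symm.trans h₁.cardN)).le)

/-- The intersection modulo the intersection of the Frattini subgroups. -/
theorem card_inf_le (h : Pos p E N) (h₁ : Pos p E₁ N) (hne : E₁ ≠ E) :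
    Nat.card (phi E) ≤ p * Nat.card ↥(phi E ⊓ phi E₁) := by
  have hle : phi E ⊓ phi E₁ ≤ E ⊓ E₁ := inf_le_inf (phi_le E) (phi_le E₁)
  have h1 := h.rank _ _ hle
    (fun x hx y hy => ⟨comm_mem_phi h.hG hx.1 hy.1, comm_mem_phi h.hG hx.2 hy.2⟩)
    (fun x hx => ⟨pow_mem_phi h.hG hx.1, pow_mem_phi h.hG hx.2⟩)
  have h2 := h.card_inf h₁ hne
  rw [h.cardE] at h2
  have hp := (Fact.out : p.Prime).pos
  refine Nat.le_of_mul_le_mul_left ?_ (pow_pos hp 3)
  calc p ^ 3 * Nat.card (phi E) = p * Nat.card ↥(E ⊓ E₁) := h2.symm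
    _ ≤ p * (p ^ 3 * Nat.card ↥(phi E ⊓ phi E₁)) := Nat.mul_le_mul_left _ h1
    _ = p ^ 3 * (p * Nat.card ↥(phi E ⊓ phi E₁)) := by ring

theorem card_phi_eq (h : Pos p E N) (h₁ : Pos p E₁ N) :
    Nat.card (phi E₁) = Nat.card (phi E) := by
  have hEE : Nat.card E₁ = Nat.card E := Nat.eq_of_mul_eq_mul_left (Fact.out : p.Prime).pos
    (h₁.cardN.symm.trans h.cardN)
  rw [h₁.cardE, h.cardE] at hEE
  exact Nat.eq_of_mul_eq_mul_left (pow_pos (Fact.out : p.Prime).pos 3) hEE

end Pos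

end Cfsg.Agent.RankThreeNormal
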