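import Cfsg.Agent.Lib.RankThreeNormal.Fusion

/-!
With a single Jordan block the automiser leaves no proper nontrivial subgroup of `E/Φ(E)` invariant:
an invariant line or plane would give an inversion commuting with the block.
-/

set_option autoImplicit false
set_option maxHeartbeats 1000000

namespace Cfsg.Agent.RankThreeNormal

open Subgroup Cfsg Cfsg.FusionSystem Cfsg.Agent
open Cfsg.Agent.Fusion Cfsg.Agent.Fusion.Internal
open Cfsg.Agent.Fusion.MaxClassRankThree (ev ev_apply ev_mem ev_mul ev_inv ev_comm ev_pow ev_zpow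
  zpow_eq_of_odd_order)
open scoped commutatorElement

variable {Ω : Type*} [Group Ω] {S : Subgroup Ω} [Finite S] {p : ℕ} [Fact p.Prime]
  {F : FusionSystem S} {E : Subgroup ↥S}

namespace Ctx

/-- An element of the automiser acting as inversion on a layer of order `p²`, trivially on the other
layer, and commuting on `E/Φ(E)` with `x`. -/
theorem exists_inversion (hc : Ctx p F E) {x : ↥S} (hx : x ∈ normalizer (E : Set ↥S)) (hxE : x ∉ E)
    {H L H' L' W : Subgroup ↥S} (hLH : L ≤ H) (hHE : H ≤ E) (hLH' : L' ≤ H') (hHE' : H' ≤ E)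
    (hΦL : phi E ≤ L) (hΦL' : phi E ≤ L') (hcard : Nat.card H = p ^ 2 * Nat.card L)
    (hcard' : Nat.card H' ≤ p * Nat.card L')
    (hW : ∀ β ∈ aut F E, ∀ v ∈ W, ev β v ∈ W) (hΦW : phi E ≤ W) (hWE : W ≤ E)
    (hH : ∀ β ∈ aut F E, ∀ v ∈ H, ev β v ∈ H) (hL : ∀ β ∈ aut F E, ∀ v ∈ L, ev β v ∈ L)
    (hH' : ∀ β ∈ aut F E, ∀ v ∈ H', ev β v ∈ H') (hL' : ∀ β ∈ aut F E, ∀ v ∈ L', ev β v ∈ L')
    (hlayers : ∀ β ∈ aut F E, (∀ v ∈ H, v⁻¹ * ev β v ∈ L) → (∀ v ∈ H', v⁻¹ * ev β v ∈ L') →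
      (∀ v ∈ W, v⁻¹ * ev β v ∈ phi E) ∧ ∀ v ∈ E, v⁻¹ * ev β v ∈ W) :
    ∃ ι : aut F E, (∀ v ∈ H, v * ev (ι : MulAut ↥E) v ∈ L) ∧
      (∀ v ∈ H', v⁻¹ * ev (ι : MulAut ↥E) v ∈ L') ∧
      qE F E ι * hc.qN ⟨x, hx⟩ = hc.qN ⟨x, hx⟩ * qE F E ι := by
  classical
  have hnL : (L.subgroupOf H).Normal := ⟨fun v hv g => by
    have h1 : ⁅(g : ↥S), (v : ↥S)⁆ ∈ L := hΦL (comm_mem_phi hc.hS (hHE g.2) (hHE v.2))
    have h2 := mul_mem h1 hv
    show (g : ↥S) * (v : ↥S) * (g : ↥S)⁻¹ ∈ L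
    simpa [commutatorElement_def] using h2⟩
  -- automisers trivial on the layer `H'/L'`
  let B : Subgroup (MulAut ↥E) :=
    { carrier := {β | β ∈ aut F E ∧ ∀ v ∈ H', v⁻¹ * ev β v ∈ L'}
      one_mem' := ⟨one_mem _, fun v hv => by rw [ev_aut_one (hHE' hv), inv_mul_cancel]; exact one_mem _⟩
      mul_mem' := by
        rintro β γ ⟨hβ, hβ'⟩ ⟨hγ, hγ'⟩
        refine ⟨mul_mem hβ hγ, fun v hv => ?_⟩
        have h1 := mul_mem (hγ' v hv) (hβ' _ (hH' γ hγ v hv))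
        rwa [mul_assoc, mul_inv_cancel_left, ← ev_aut_mul _ _ (hHE' hv)] at h1
      inv_mem' := by
        rintro β ⟨hβ, hβ'⟩
        refine ⟨inv_mem hβ, fun v hv => ?_⟩
        have h1 := inv_mem (hβ' _ (hH' _ (inv_mem hβ) v hv))
        rw [← ev_aut_mul _ _ (hHE' hv), mul_inv_cancel, ev_aut_one (hHE' hv), mul_inv_rev, inv_inv] at h1
        exact h1 }
  have hpB : ∀ β ∈ aut F E, (∃ k : ℕ, β ^ p ^ k = 1) → β ∈ B := by
    rintro β hβ ⟨k, hk⟩
    refine ⟨hβ, fun v hv => ?_⟩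
    have h1 := SmallEss.apply_inv_mul_mem (p := p) (K := L'.subgroupOf E) (L := H'.subgroupOf E)
      (comap_mono hLH') (by
        rwa [Nat.card_congr (subgroupOfEquivOfLe hHE').toEquiv,
          Nat.card_congr (subgroupOfEquivOfLe (hLH'.trans hHE')).toEquiv]) hk
      (fun u hu => by
        show ((β u : E) : ↥S) ∈ L'
        rw [← ev_apply β u.2]; exact hL' β hβ u hu)
      (fun u hu => by
        show ((β u : E) : ↥S) ∈ H'
        rw [← ev_apply β u.2]; exact hH' β hβ u hu) (x := ⟨v, hHE' hv⟩) hv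
    rw [ev_apply β (hHE' hv)]
    exact h1
  let η := sectHom hHE B (fun β hβ => hH β hβ.1) (fun β hβ => hL β hβ.1)
  have hcomm : ∀ a b : ↥H ⧸ L.subgroupOf H, a * b = b * a := by
    intro a b
    obtain ⟨a, rfl⟩ := QuotientGroup.mk_surjective a
    obtain ⟨b, rfl⟩ := QuotientGroup.mk_surjective b
    refine commutatorElement_eq_one_iff_mul_comm.1 ?_
    rw [← QuotientGroup.mk'_apply, ← QuotientGroup.mk'_apply, ← map_commutatorElement]
    exact (QuotientGroup.eq_one_iff _).2 (hΦL (comm_mem_phi hc.hS (hHE a.2) (hHE b.2)))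
  have hexp : ∀ a : ↥H ⧸ L.subgroupOf H, a ^ p = 1 := by
    intro a
    obtain ⟨a, rfl⟩ := QuotientGroup.mk_surjective a
    exact (QuotientGroup.eq_one_iff (a ^ p)).2 (hΦL (pow_mem_phi hc.hS (hHE a.2)))
  have hU : Nat.card (↥H ⧸ L.subgroupOf H) = p ^ 2 := by
    have h := (L.subgroupOf H).card_mul_index
    rw [Nat.card_congr (subgroupOfEquivOfLe hLH).toEquiv, hcard, mul_comm (p ^ 2)] at h
    rw [← index_eq_card]
    exact Nat.eq_of_mul_eq_mul_left Nat.card_pos h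
  have hfaith : ∀ γ : B, η γ = 1 → qE F E ⟨γ, γ.2.1⟩ = 1 := by
    intro γ hγ
    have h1 : ∀ v ∈ H, v⁻¹ * ev (γ : MulAut ↥E) v ∈ L := by
      intro v hv
      have h2 : (QuotientGroup.mk ⟨v, hv⟩ : ↥H ⧸ L.subgroupOf H) =
          QuotientGroup.mk ⟨ev (γ : MulAut ↥E) v, hH _ γ.2.1 v hv⟩ := by
        rw [← sectHom_mk hHE B (fun β hβ => hH β hβ.1) (fun β hβ => hL β hβ.1) γ hv]
        exact (congrArg (fun f : MulAut (↥H ⧸ L.subgroupOf H) => f _) hγ).symm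
      exact (QuotientGroup.eq (s := L.subgroupOf H)).1 h2
    obtain ⟨h3, h4⟩ := hlayers _ γ.2.1 h1 γ.2.2
    exact qE_eq_one_iff.2 fun v hv => hc.trivial_of_layers hΦW hWE hW γ.2.1 h3 h4 hv
  obtain ⟨k, hk⟩ := (hc.hS.to_subgroup _) (⟨x, hx⟩ : normalizer (E : Set ↥S))
  have hxk : cnj E hx ^ p ^ k = 1 := by
    show normalizerMonoidHom E ⟨x, hx⟩ ^ p ^ k = 1
    rw [← map_pow, hk, map_one]
  obtain ⟨β₀, hβ₀⟩ := hc.exists_moved hx hxE
  set cA : aut F E := ⟨cnj E hx, hc.cnj_mem hx⟩ with hcA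
  have hyk : ((β₀ * cA * β₀⁻¹ : aut F E) : MulAut ↥E) ^ p ^ k = 1 := by
    rw [← SubmonoidClass.coe_pow, conj_pow, show cA ^ p ^ k = 1 from Subtype.ext hxk, mul_one,
      mul_inv_cancel]
    rfl
  let xB : B := ⟨cA, hpB _ cA.2 ⟨k, hxk⟩⟩
  let yB : B := ⟨(β₀ * cA * β₀⁻¹ : aut F E), hpB _ (β₀ * cA * β₀⁻¹).2 ⟨k, hyk⟩⟩
  have hσ1 : η xB ≠ 1 := fun h => hxE (hc.qN_ker (g := ⟨x, hx⟩) (hfaith xB h))
  have hτσ : η yB ∉ zpowers (η xB) := by
    intro h
    obtain ⟨i, hi⟩ := mem_zpowers_iff.1 h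
    refine hβ₀ (mem_zpowers_iff.2 ⟨i, ?_⟩)
    rw [← map_zpow] at hi
    have h1 := hfaith ((xB ^ i)⁻¹ * yB) (by rw [map_mul, map_inv, hi, inv_mul_cancel])
    have h2 : (⟨((xB ^ i)⁻¹ * yB : B), ((xB ^ i)⁻¹ * yB).2.1⟩ : aut F E) =
        (cA ^ i)⁻¹ * (β₀ * cA * β₀⁻¹) := Subtype.ext (by push_cast; rfl)
    rw [h2, map_mul, map_inv, inv_mul_eq_one, map_zpow] at h1
    exact h1
  obtain ⟨m, hm, hmv⟩ := Fusion.exists_inversion_mem_closure hcomm hU hexp (σ := η xB) (τ := η yB)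
    ⟨k, by rw [← map_pow, show xB ^ p ^ k = 1 from Subtype.ext hxk, map_one]⟩
    ⟨k, by rw [← map_pow, show yB ^ p ^ k = 1 from Subtype.ext hyk, map_one]⟩ hσ1 hτσ
  obtain ⟨iB, hiB⟩ : ∃ iB : B, η iB = m := by
    have : m ∈ η.range := (closure_le _).2 (by
      rintro _ (rfl | rfl)
      exacts [⟨xB, rfl⟩, ⟨yB, rfl⟩]) hm
    exact this
  refine ⟨⟨iB, iB.2.1⟩, fun v hv => ?_, iB.2.2, ?_⟩
  · have h1 : (QuotientGroup.mk ⟨ev (iB : MulAut ↥E) v, hH _ iB.2.1 v hv⟩ : ↥H ⧸ L.subgroupOf H) =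
        (QuotientGroup.mk ⟨v, hv⟩)⁻¹ := by
      rw [← hmv, ← hiB]
      rfl
    rw [eq_inv_iff_mul_eq_one, hcomm, ← QuotientGroup.mk_mul] at h1
    exact (QuotientGroup.eq_one_iff (N := L.subgroupOf H) _).1 h1
  · have h1 := hfaith (iB * xB * iB⁻¹ * xB⁻¹) (by
      rw [map_mul, map_mul, map_mul, map_inv, map_inv, hiB]
      have hcm : m * η xB = η xB * m := MulEquiv.ext fun u => by
        rw [MulAut.mul_apply, MulAut.mul_apply, hmv, hmv, map_inv]
      rw [hcm, mul_inv_cancel_right, mul_inv_cancel])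
    have h2 : (⟨(iB * xB * iB⁻¹ * xB⁻¹ : B), (iB * xB * iB⁻¹ * xB⁻¹).2.1⟩ : aut F E) =
        ⟨iB, iB.2.1⟩ * cA * (⟨iB, iB.2.1⟩ : aut F E)⁻¹ * cA⁻¹ := Subtype.ext rfl
    rw [h2, map_mul, map_mul, map_mul, map_inv, map_inv, mul_inv_eq_one, mul_inv_eq_iff_eq_mul] at h1
    exact h1

variable {a x : ↥S}

/-- The three basic values of the block. -/
theorem block_facts (hc : Ctx p F E) (hF : Frame p E (normalizer (E : Set ↥S)) a x) :
    ∀ (bV cV : Vq E), bV = QuotientGroup.mk ⟨⁅a⁻¹, x⁆, hF.pos.layer1_le hF.b_mem⟩ →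
      cV = QuotientGroup.mk ⟨⁅⁅a⁻¹, x⁆⁻¹, x⁆, hF.pos.layer1_le (hF.pos.layer2_le hF.c_mem)⟩ →
      hc.qN ⟨x, hF.hx⟩ (QuotientGroup.mk ⟨a, hF.ha⟩) = QuotientGroup.mk ⟨a, hF.ha⟩ * bV ∧
      hc.qN ⟨x, hF.hx⟩ bV = bV * cV ∧
      ∀ u (hu : u ∈ layer2 E (normalizer (E : Set ↥S))),
        hc.qN ⟨x, hF.hx⟩ (QuotientGroup.mk ⟨u, hF.pos.layer1_le (hF.pos.layer2_le hu)⟩) =
          QuotientGroup.mk ⟨u, hF.pos.layer1_le (hF.pos.layer2_le hu)⟩ := by
  have hq : ∀ {u : ↥S} (hu : u ∈ E),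
      hc.qN ⟨x, hF.hx⟩ (QuotientGroup.mk ⟨u, hu⟩) =
        QuotientGroup.mk ⟨ev (cnj E hF.hx) u, ev_mem _ hu⟩ := fun hu => rfl
  intro bV cV hbV hcV
  refine ⟨?_, ?_, fun u hu => ?_⟩
  · rw [hbV, hq, ← QuotientGroup.mk_mul]
    refine congrArg QuotientGroup.mk (Subtype.ext ?_)
    show ev (cnj E hF.hx) a = a * ⁅a⁻¹, x⁆
    rw [ev_cnj hF.hx hF.ha, hF.bEq, mul_inv_cancel_left]
  · rw [hbV, hcV, hq, ← QuotientGroup.mk_mul]
    refine congrArg QuotientGroup.mk (Subtype.ext ?_)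
    show ev (cnj E hF.hx) _ = _ * _
    rw [ev_cnj hF.hx (hF.pos.layer1_le hF.b_mem)]
    simp only [commutatorElement_def]
    group
  · rw [hq]
    refine ((QuotientGroup.eq (s := (phi E).subgroupOf E)
      (a := ⟨u, hF.pos.layer1_le (hF.pos.layer2_le hu)⟩)).2 ?_).symm
    show u⁻¹ * ev (cnj E hF.hx) u ∈ phi E
    rw [ev_cnj hF.hx (hF.pos.layer1_le (hF.pos.layer2_le hu)),
      show u⁻¹ * (x * u * x⁻¹) = ⁅u⁻¹, x⁆ by simp only [commutatorElement_def]; group]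
    exact (hF.pos.layers hF.block).2.2 _ (inv_mem hu) x hF.hx

theorem layer2_not_invariant (hc : Ctx p F E) (hF : Frame p E (normalizer (E : Set ↥S)) a x)
    (hinv : ∀ β ∈ aut F E, ∀ v ∈ layer2 E (normalizer (E : Set ↥S)),
      ev β v ∈ layer2 E (normalizer (E : Set ↥S))) : False := by
  set N := normalizer (E : Set ↥S)
  have hP := hF.pos
  have hR2E : layer2 E N ≤ E := hP.layer2_le.trans hP.layer1_le
  obtain ⟨hc2, hc1, hcen⟩ := hP.layers hF.block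
  obtain ⟨ι, hι1, hι2, hcomm⟩ := hc.exists_inversion hF.hx hF.hxE (H := E) (L := layer2 E N)
    (H' := layer2 E N) (L' := phi E) (W := layer2 E N) hR2E le_rfl le_sup_left hR2E le_sup_left le_rfl
    (by rw [hc.idx, hc2]; ring) hc2.le hinv le_sup_left hR2E
    (fun β _ v hv => ev_mem β hv) hinv hinv (fun β _ v hv => ev_mem_phi β hv)
    (fun β _ h1 h2 => ⟨h2, h1⟩)
  letI : CommGroup (Vq E) := { (inferInstance : Group (Vq E)) with mul_comm := hc.vq_comm }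
  set bV : Vq E := QuotientGroup.mk ⟨⁅a⁻¹, x⁆, hP.layer1_le hF.b_mem⟩ with hbV
  set cV : Vq E := QuotientGroup.mk ⟨⁅⁅a⁻¹, x⁆⁻¹, x⁆, hR2E hF.c_mem⟩ with hcV
  set aV : Vq E := QuotientGroup.mk ⟨a, hF.ha⟩
  set X := hc.qN ⟨x, hF.hx⟩
  set I := qE F E ι
  obtain ⟨hXa, hXb, hXR⟩ := hc.block_facts hF bV cV hbV hcV
  replace hXa : X aV = aV * bV := hXa
  have hIR : ∀ u (hu : u ∈ layer2 E N),
      I (QuotientGroup.mk ⟨u, hR2E hu⟩) = QuotientGroup.mk ⟨u, hR2E hu⟩ := fun u hu => by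
    rw [qE_mk]
    exact ((QuotientGroup.eq (s := (phi E).subgroupOf E) (a := ⟨u, hR2E hu⟩)).2 (hι2 u hu)).symm
  have hIneg : ∀ u (hu : u ∈ E), ∃ r, (∃ w, ∃ hw : w ∈ layer2 E N, r = QuotientGroup.mk ⟨w, hR2E hw⟩) ∧
      I (QuotientGroup.mk ⟨u, hu⟩) = (QuotientGroup.mk ⟨u, hu⟩ : Vq E)⁻¹ * r := fun u hu => by
    refine ⟨_, ⟨_, hι1 u hu, rfl⟩, ?_⟩
    rw [qE_mk, ← QuotientGroup.mk_inv, ← QuotientGroup.mk_mul]
    exact congrArg QuotientGroup.mk (Subtype.ext (inv_mul_cancel_left u _).symm)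
  obtain ⟨r, ⟨w, hw, hr⟩, hIa⟩ := hIneg a hF.ha
  obtain ⟨r', ⟨w', hw', hr'⟩, hIb⟩ := hIneg _ (hP.layer1_le hF.b_mem)
  rw [← hbV] at hIb
  have hIc : I cV = cV := hIR _ hF.c_mem
  have hXr : X r = r := hr ▸ hXR w hw
  have hXI : ∀ u, I (X u) = X (I u) := fun u => congrArg (fun f : MulAut (Vq E) => f u) hcomm
  have e1 := hXI aV
  rw [hXa, map_mul, hIa, hIb, map_mul, map_inv, hXa, hXr, mul_inv] at e1
  have hr'1 : r' = 1 := by
    have e2 : aV⁻¹ * bV⁻¹ * r * r' = aV⁻¹ * bV⁻¹ * r * 1 := by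
      rw [mul_one]
      exact (by ac_rfl : aV⁻¹ * bV⁻¹ * r * r' = aV⁻¹ * r * (bV⁻¹ * r')).trans e1
    exact mul_left_cancel e2
  rw [hr'1, mul_one] at hIb
  have e2 := hXI bV
  rw [hXb, map_mul, hIb, hIc, map_inv, hXb, mul_inv] at e2
  have hc1' : cV = 1 := by
    refine zpow_eq_of_odd_order (p := p) (by have := hc.hp5; omega) (hc.vq_pow cV) ?_
    exact mul_left_cancel e2
  exact hF.c_not ((QuotientGroup.eq_one_iff (N := (phi E).subgroupOf E) _).1 hc1')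

theorem layer1_not_invariant (hc : Ctx p F E) (hF : Frame p E (normalizer (E : Set ↥S)) a x)
    (hinv : ∀ β ∈ aut F E, ∀ v ∈ layer1 E (normalizer (E : Set ↥S)),
      ev β v ∈ layer1 E (normalizer (E : Set ↥S))) : False := by
  set N := normalizer (E : Set ↥S)
  have hP := hF.pos
  obtain ⟨hc2, hc1, hcen⟩ := hP.layers hF.block
  have hTE := hP.layer1_le
  obtain ⟨ι, hι1, hι2, hcomm⟩ := hc.exists_inversion hF.hx hF.hxE (H := layer1 E N) (L := phi E)
    (H' := E) (L' := layer1 E N) (W := layer1 E N) le_sup_left hTE hTE le_rfl le_rfl le_sup_left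
    hc1 (by rw [hc.idx, hc1]; exact le_of_eq (by ring)) hinv le_sup_left hTE
    hinv (fun β _ v hv => ev_mem_phi β hv) (fun β _ v hv => ev_mem β hv) hinv
    (fun β _ h1 h2 => ⟨h1, h2⟩)
  letI : CommGroup (Vq E) := { (inferInstance : Group (Vq E)) with mul_comm := hc.vq_comm }
  set bV : Vq E := QuotientGroup.mk ⟨⁅a⁻¹, x⁆, hTE hF.b_mem⟩ with hbV
  set cV : Vq E := QuotientGroup.mk ⟨⁅⁅a⁻¹, x⁆⁻¹, x⁆, hTE (hP.layer2_le hF.c_mem)⟩ with hcV
  set aV : Vq E := QuotientGroup.mk ⟨a, hF.ha⟩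
  set X := hc.qN ⟨x, hF.hx⟩
  set I := qE F E ι
  obtain ⟨hXa, hXb, hXR⟩ := hc.block_facts hF bV cV hbV hcV
  replace hXa : X aV = aV * bV := hXa
  have hIb : I bV = bV⁻¹ := by
    rw [hbV, qE_mk, eq_inv_iff_mul_eq_one, mul_comm, ← QuotientGroup.mk_mul]
    exact (QuotientGroup.eq_one_iff (N := (phi E).subgroupOf E) _).2 (hι1 _ hF.b_mem)
  -- the translation part
  set t := a⁻¹ * ev (ι : MulAut ↥E) a with ht
  have htT : t ∈ layer1 E N := hι2 a hF.ha
  set tV : Vq E := QuotientGroup.mk ⟨t, hTE htT⟩ with htV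
  have hIa : I aV = aV * tV := by
    rw [htV, qE_mk, ← QuotientGroup.mk_mul]
    exact congrArg QuotientGroup.mk (Subtype.ext (mul_inv_cancel_left a _).symm)
  set d := t⁻¹ * (x * t * x⁻¹) with hd
  have hd2 : d ∈ layer2 E N := by
    rw [hd, show t⁻¹ * (x * t * x⁻¹) = ⁅t⁻¹, x⁆ by simp only [commutatorElement_def]; group]
    exact mem_sup_right (commutator_mem_commutator (inv_mem htT) hF.hx)
  have hXt : X tV = tV * QuotientGroup.mk ⟨d, hTE (hP.layer2_le hd2)⟩ := by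
    rw [htV]
    show (QuotientGroup.mk (⟨ev (cnj E hF.hx) t, ev_mem _ (hTE htT)⟩ : ↥E) : Vq E) = _
    rw [← QuotientGroup.mk_mul]
    refine congrArg QuotientGroup.mk (Subtype.ext ?_)
    show ev (cnj E hF.hx) t = t * d
    rw [ev_cnj hF.hx (hTE htT), hd, mul_inv_cancel_left]
  have e1 : I (X aV) = X (I aV) := congrArg (fun f : MulAut (Vq E) => f aV) hcomm
  rw [hXa, map_mul, hIa, hIb, map_mul, hXa, hXt] at e1
  set dV : Vq E := QuotientGroup.mk ⟨d, hTE (hP.layer2_le hd2)⟩ with hdV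
  have e2 : bV⁻¹ = bV * dV := by
    have e3 : aV * tV * bV⁻¹ = aV * tV * (bV * dV) := e1.trans (by ac_rfl)
    exact mul_left_cancel e3
  rw [inv_eq_iff_mul_eq_one, ← mul_assoc, hbV, hdV, ← QuotientGroup.mk_mul, ← QuotientGroup.mk_mul] at e2
  have e4 : ⁅a⁻¹, x⁆ * ⁅a⁻¹, x⁆ ∈ layer2 E N := by
    have h := mul_mem (mem_sup_left ((QuotientGroup.eq_one_iff (N := (phi E).subgroupOf E) _).1 e2) :
      ⁅a⁻¹, x⁆ * ⁅a⁻¹, x⁆ * d ∈ layer2 E N) (inv_mem hd2)
    rwa [mul_inv_cancel_right] at h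
  obtain ⟨j, hj⟩ : ∃ j : ℤ, (2 : ℤ) * j = 1 + p := ⟨(p + 1) / 2, by
    have := ((Fact.out : p.Prime).odd_of_ne_two (by have := hc.hp5; omega))
    obtain ⟨q, hq⟩ := this
    omega⟩
  refine hF.b_not ?_
  have h := mul_mem (zpow_mem e4 j) (inv_mem (mem_sup_left (pow_mem_phi hc.hS (hTE hF.b_mem)) :
    ⁅a⁻¹, x⁆ ^ p ∈ layer2 E N))
  rw [← pow_two, ← zpow_natCast ⁅a⁻¹, x⁆ 2, ← zpow_mul, Nat.cast_ofNat, hj, zpow_add, zpow_one,
    zpow_natCast, mul_inv_cancel_right] at h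
  exact h

/-- With a single block there is no intermediate characteristic subgroup. -/
theorem charIrr (hc : Ctx p F E) (hblock : layer2 E (normalizer (E : Set ↥S)) ≠ phi E) :
    CharIrr E := by
  intro W hΦW hWE hinv
  set N := normalizer (E : Set ↥S)
  have hP := hc.pos
  obtain ⟨x, hx, hxE⟩ := SetLike.exists_of_lt hc.lt_normalizer
  obtain ⟨hc2, hc1, hcen⟩ := hP.layers hblock
  have hp := (Fact.out : p.Prime)
  have hlt1 : layer1 E N < E := lt_of_le_of_ne hP.layer1_le fun he => by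
    rw [he, hc.idx, pow_succ', mul_assoc] at hc1
    have := hp.two_le
    have h0 : 0 < p ^ 2 * Nat.card (phi E) := Nat.mul_pos (pow_pos hp.pos 2) Nat.card_pos
    nlinarith
  obtain ⟨a, ha, haT⟩ := SetLike.exists_of_lt hlt1
  have hF : Frame p E N a x := ⟨hP, ha, haT, hx, hxE, hblock⟩
  by_contra hcon
  push Not at hcon
  obtain ⟨hWΦ, hWE'⟩ := hcon
  have hnW : Nm W N := fun g hg v hv => by
    rw [← ev_cnj hg (hWE hv)]
    exact hinv _ v hv
  have hR2E : layer2 E N ≤ E := hP.layer2_le.trans hP.layer1_le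
  -- an element of `E` central modulo a layer lies in the next layer
  have hstep : ∀ u ∈ W, ∀ K : Subgroup ↥S, K ≤ layer1 E N → u ∉ layer1 E N → Com K (zpowers u) N →
      Nm K N → layer1 E N ≤ phi E ⊔ K ⊔ ⁅layer1 E N, N⁆ := by
    intro u hu K hK huT hcom hnK
    refine sup_le (le_sup_left.trans le_sup_left) (commutator_le.2 fun v hv g hg => ?_)
    have hsup : layer1 E N ⊔ zpowers u = E := sup_eq_of_card_le hc.hS hP.layer1_le
      (by rw [hc.idx, hc1, pow_succ', mul_assoc]) (hWE hu) huT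
    have hn : Nm (phi E ⊔ K ⊔ ⁅layer1 E N, N⁆) N :=
      (hP.nmPhi.sup hnK).sup (hP.nm_layer1.commutator (Nm.self N))
    have h1 : Com (phi E ⊔ K ⊔ ⁅layer1 E N, N⁆) (layer1 E N) N :=
      fun w hw g hg => mem_sup_right (commutator_mem_commutator hw hg)
    have h2 := Com.sup_left hn (hP.layer1_le.trans le_normalizer)
      (zpowers_le.2 (le_normalizer (hWE hu))) h1
      (fun w hw g hg => mem_sup_left (mem_sup_right (hcom w hw g hg)))
    rw [hsup] at h2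
    exact h2 v hv g hg
  have hR2W : layer2 E N ≤ W := by
    have hnΦ := hP.nmPhi.normal_subgroupOf
    have hnW' := hnW.normal_subgroupOf
    obtain ⟨L, hL, hΦL, hLW, hLc⟩ := PGroup.exists_normal_step (hc.hS.to_subgroup N)
      ((phi E).subgroupOf N) (W.subgroupOf N) (lt_of_le_of_ne (comap_mono hΦW) fun he => hWΦ (by
        have h := congrArg (Subgroup.map N.subtype) he
        rw [map_subgroupOf hP.phiN, map_subgroupOf (hWE.trans le_normalizer)] at h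
        exact h.symm))
    set L' := L.map N.subtype with hL'
    obtain ⟨⟨u, huN⟩, huL, huΦ⟩ := SetLike.exists_of_lt hΦL
    have hL'W : L' ≤ W := by rintro _ ⟨v, hv, rfl⟩; exact hLW hv
    have hnL : Nm L' N := by
      rintro g hg _ ⟨w, hw, rfl⟩
      exact ⟨⟨g, hg⟩ * w * ⟨g, hg⟩⁻¹, hL.conj_mem w hw _, rfl⟩
    have hΦL' : phi E ≤ L' := fun v hv => ⟨⟨v, hP.phiN hv⟩, hΦL.le hv, rfl⟩
    have hcom : Com (phi E) L' N := com_of_card_le hc.hS ((hL'W.trans hWE).trans le_normalizer)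
      hP.nmPhi hnL hΦL' (by
        rw [hL', card_map_of_injective N.subtype_injective, hLc,
          Nat.card_congr (subgroupOfEquivOfLe hP.phiN).toEquiv, mul_comm])
    have huW : u ∈ W := hLW huL
    have hcu : Com (phi E) (zpowers u) N := hcom.mono_left (zpowers_le.2 ⟨⟨u, huN⟩, huL, rfl⟩)
    by_cases huT : u ∈ layer1 E N
    · by_cases huR : u ∈ layer2 E N
      · have hle : phi E ≤ layer2 E N := le_sup_left
        rw [show layer2 E N = phi E ⊔ zpowers u from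
          (sup_eq_of_card_le hc.hS hle hc2.le huR huΦ).symm]
        exact sup_le hΦW (zpowers_le.2 huW)
      · exfalso
        have hsup : layer2 E N ⊔ zpowers u = layer1 E N := sup_eq_of_card_le hc.hS hP.layer2_le
          (by rw [hc1, hc2, sq, mul_assoc]) huT huR
        have h6 : Com (phi E) (layer1 E N) N := by
          rw [← hsup]
          exact Com.sup_left hP.nmPhi (hR2E.trans le_normalizer) (zpowers_le.2 huN) hcen hcu
        exact hblock (le_antisymm (sup_le le_rfl (commutator_le.2 h6)) le_sup_left)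
    · exfalso
      have h := hstep u huW (phi E) le_sup_left huT hcu hP.nmPhi
      rw [sup_idem] at h
      have := Subgroup.card_le_of_le h
      rw [hc1] at this
      change p ^ 2 * Nat.card (phi E) ≤ Nat.card (layer2 E N) at this
      rw [hc2, sq, mul_assoc] at this
      have h1 := Nat.le_of_mul_le_mul_left this hp.pos
      have := hp.two_le
      have := Nat.card_pos (α := phi E)
      nlinarith
  rcases eq_or_lt_of_le hR2W with heq | hlt
  · exact hc.layer2_not_invariant hF fun β _ v hv => by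
      rw [heq] at hv ⊢
      exact hinv β v hv
  have hnR := hP.nm_layer2.normal_subgroupOf
  have hnW' := hnW.normal_subgroupOf
  obtain ⟨L, hL, hRL, hLW, hLc⟩ := PGroup.exists_normal_step (hc.hS.to_subgroup N)
    ((layer2 E N).subgroupOf N) (W.subgroupOf N) (lt_of_le_of_ne (comap_mono hR2W) fun he => hlt.ne (by
      have h := congrArg (Subgroup.map N.subtype) he
      rwa [map_subgroupOf (hR2E.trans le_normalizer), map_subgroupOf (hWE.trans le_normalizer)] at h))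
  set L' := L.map N.subtype with hL'
  obtain ⟨⟨u, huN⟩, huL, huR⟩ := SetLike.exists_of_lt hRL
  have hL'W : L' ≤ W := by rintro _ ⟨v, hv, rfl⟩; exact hLW hv
  have hnL : Nm L' N := by
    rintro g hg _ ⟨w, hw, rfl⟩
    exact ⟨⟨g, hg⟩ * w * ⟨g, hg⟩⁻¹, hL.conj_mem w hw _, rfl⟩
  have hRL' : layer2 E N ≤ L' := fun v hv => ⟨⟨v, le_normalizer (hR2E hv)⟩, hRL.le hv, rfl⟩
  have hcom : Com (layer2 E N) L' N := com_of_card_le hc.hS ((hL'W.trans hWE).trans le_normalizer)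
    hP.nm_layer2 hnL hRL' (by
      rw [hL', card_map_of_injective N.subtype_injective, hLc,
        Nat.card_congr (subgroupOfEquivOfLe (hR2E.trans le_normalizer)).toEquiv, mul_comm])
  have huW : u ∈ W := hLW huL
  have hcu : Com (layer2 E N) (zpowers u) N := hcom.mono_left (zpowers_le.2 ⟨⟨u, huN⟩, huL, rfl⟩)
  have huT : u ∈ layer1 E N := by
    by_contra huT
    have h := hstep u huW (layer2 E N) hP.layer2_le huT hcu hP.nm_layer2
    have h2 : phi E ⊔ layer2 E N ⊔ ⁅layer1 E N, N⁆ ≤ layer2 E N :=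
      sup_le (sup_le le_sup_left le_rfl) le_sup_right
    exact absurd (Subgroup.card_le_of_le (h.trans h2)) (by
      rw [hc1, hc2, sq, mul_assoc, not_le]
      exact lt_mul_of_one_lt_left (Nat.mul_pos hp.pos Nat.card_pos) hp.one_lt)
  have hTW : layer1 E N ≤ W := by
    rw [← sup_eq_of_card_le hc.hS hP.layer2_le (by rw [hc1, hc2, sq, mul_assoc]) huT huR]
    exact sup_le hR2W (zpowers_le.2 huW)
  have heq : layer1 E N = W := by
    by_contra hne
    obtain ⟨v, hv, hvT⟩ := SetLike.exists_of_lt (lt_of_le_of_ne hTW hne)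
    refine hWE' (le_antisymm hWE ?_)
    rw [← sup_eq_of_card_le hc.hS hP.layer1_le (by rw [hc.idx, hc1, pow_succ', mul_assoc]) (hWE hv) hvT]
    exact sup_le hTW (zpowers_le.2 hv)
  exact hc.layer1_not_invariant hF fun β _ v hv => by
    rw [heq] at hv ⊢
    exact hinv β v hv

end Ctx

end Cfsg.Agent.RankThreeNormal
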