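import Cfsg.Agent.Lib.RankThreeNormal.SameFalse
import Cfsg.Agent.Lib.RankThreeNormal.Irreducible

/-!
Rank three essential subgroups are normal.
-/

set_option autoImplicit false
set_option maxHeartbeats 1000000

namespace Cfsg.Agent.RankThreeNormal

open Subgroup Cfsg Cfsg.FusionSystem Cfsg.Agent
open Cfsg.Agent.Fusion Cfsg.Agent.Fusion.Internal
open Cfsg.Agent.Fusion.MaxClassRankThree (ev)
open scoped commutatorElement

variable {Ω : Type*} [Group Ω] {S : Subgroup Ω} [Finite S] {p : ℕ} [Fact p.Prime]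
  {F : FusionSystem S} {E : Subgroup ↥S}

/-- Conjugates of `E` by the second normaliser are in the same position. -/
theorem pos_conj (hc : Ctx p F E) {h : ↥S} (hh : h ∈ nn E) :
    Pos p (E.map (MulAut.conj h).toMonoidHom) (normalizer (E : Set ↥S)) := by
  have hP := hc.pos
  set N := normalizer (E : Set ↥S)
  have hnN : Nm N (nn E) := Nm.of_le_normalizer le_rfl
  have hcE : Nat.card (E.map (MulAut.conj h).toMonoidHom) = Nat.card E :=
    card_map_of_injective (MulAut.conj h).injective
  refine ⟨hc.hS, hc.rank, hc.hp5, ?_, ?_, by rw [hcE, hP.cardN], ?_⟩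
  · rintro _ ⟨v, hv, rfl⟩
    exact hnN h hh v (hP.le hv)
  · rintro n hn _ ⟨v, hv, rfl⟩
    have hn' : h⁻¹ * n * h ∈ N := by simpa using hnN h⁻¹ (inv_mem hh) n hn
    refine ⟨_, hP.nm _ hn' v hv, ?_⟩
    show h * (h⁻¹ * n * h * v * (h⁻¹ * n * h)⁻¹) * h⁻¹ = n * (h * v * h⁻¹) * n⁻¹
    group
  · rw [hcE, ← map_conj_phi hc.hS E h, card_map_of_injective (MulAut.conj h).injective, hc.idx]

/-- A rank three essential subgroup is normal. -/
theorem Ctx.normalizer_eq_top (hc : Ctx p F E) : normalizer (E : Set ↥S) = ⊤ := by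
  by_contra hne
  have hP := hc.pos
  set N := normalizer (E : Set ↥S) with hN
  have hmove : ∀ h ∈ nn E, h ∉ N → E.map (MulAut.conj h).toMonoidHom ≠ E := fun h _ hhN he =>
    hhN (mem_normalizer_of_mapsTo fun v hv => he ▸ mem_map_of_mem (MulAut.conj h).toMonoidHom hv)
  obtain ⟨g, hg, hgN⟩ := SetLike.exists_of_lt (PGroup.lt_normalizer hc.hS hne)
  by_cases hblock : layer2 E N = phi E
  · obtain ⟨x₀, hx₀, hx₀E⟩ := SetLike.exists_of_lt hc.lt_normalizer
    have hR1 : layer1 E N ≠ phi E := fun he => hx₀E (hc.qN_ker (g := ⟨x₀, hx₀⟩) (qE_eq_one_iff.2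
      fun v hv => by
        show v⁻¹ * ev (cnj E hx₀) v ∈ phi E
        rw [ev_cnj hx₀ hv, show v⁻¹ * (x₀ * v * x₀⁻¹) = ⁅v⁻¹, x₀⁆ by
          simp only [commutatorElement_def]; group]
        exact he.le (mem_sup_right (commutator_mem_commutator (inv_mem hv) hx₀))))
    obtain ⟨a₀, hT₀⟩ := hP.exists_tv hx₀ hx₀E hblock hR1
    have hexp := hc.pow_mem_phi_normalizer hT₀
    have hnΦ : Nm (phi E) (nn E) := by
      intro h hh v hv
      by_cases hhN : h ∈ N
      · exact hP.nmPhi h hhN v hv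
      have hP₁ := pos_conj hc hh
      have hexp₁ : ∀ w ∈ N, w ^ p ∈ phi (E.map (MulAut.conj h).toMonoidHom) := by
        intro w hw
        rw [← map_conj_phi hc.hS E h]
        have hw' : h⁻¹ * w * h ∈ N := by
          simpa using (Nm.of_le_normalizer (K := N) (M := nn E) le_rfl) h⁻¹ (inv_mem hh) w hw
        refine ⟨_, hexp _ hw', ?_⟩
        show h * (h⁻¹ * w * h) ^ p * h⁻¹ = w ^ p
        rw [← conj_pow]
        group
      rw [← phi_eq_of_flat hT₀ hP₁ (hmove h hh hhN) hexp hexp₁, ← map_conj_phi hc.hS E h]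
      exact mem_map_of_mem (MulAut.conj h).toMonoidHom hv
    obtain ⟨a, x, g', hsame⟩ := hc.exists_same hblock hnΦ hne
    exact hc.false_of_same hsame
  · have hg2 : g * g ∉ N := fun hmem => by
      obtain ⟨k, hk⟩ := hc.hS g
      obtain ⟨u, v, huv⟩ : IsCoprime (2 : ℤ) ((p ^ k : ℕ) : ℤ) := by
        rw [Int.isCoprime_iff_gcd_eq_one]
        exact_mod_cast ((Nat.coprime_primes Nat.prime_two (Fact.out : p.Prime)).2
          (by have := hc.hp5; omega)).pow_right k
      refine hgN ?_
      have e : g = (g * g) ^ u := by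
        calc g = g ^ (u * 2 + v * ((p ^ k : ℕ) : ℤ)) := by rw [huv, zpow_one]
          _ = (g * g) ^ u := by
            rw [zpow_add, mul_comm u, mul_comm v, zpow_mul, zpow_mul, zpow_natCast, hk, one_zpow,
              mul_one, zpow_two]
      rw [e]
      exact zpow_mem hmem u
    refine false_of_block hP (pos_conj hc hg) (pos_conj hc (mul_mem hg hg)) (hmove g hg hgN)
      (hmove _ (mul_mem hg hg) hg2) (fun he => hmove g hg hgN ?_) hblock (hc.charIrr hblock)
    refine map_injective (MulAut.conj g).injective (?_ : _ = E.map (MulAut.conj g).toMonoidHom)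
    refine Eq.trans ?_ he
    rw [Subgroup.map_map]
    congr 1
    ext v
    simp [mul_assoc]

end Cfsg.Agent.RankThreeNormal
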