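import Cfsg.Agent.Lib.RankThreeNormal.RankTwo
import Cfsg.Agent.Lib.RankThreeNormal.Main

/-!
An essential subgroup in sectional rank three needs two or three generators; with two it is a pearl
or has order `p⁵` and class three.
-/

set_option autoImplicit false
set_option maxHeartbeats 800000

namespace Cfsg.Agent.RankThreeNormal

open Subgroup Cfsg Cfsg.FusionSystem Cfsg.Agent
open Cfsg.Agent.Fusion Cfsg.Agent.Fusion.Internal
open Cfsg.Agent.Fusion.MaxClassRankThree (ev ev_apply ev_mem ev_mul ev_inv ev_comm ev_pow ev_zpow)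
open scoped commutatorElement

variable {Ω : Type*} [Group Ω] {S : Subgroup Ω} [Finite S] {p : ℕ} [Fact p.Prime]
  {F : FusionSystem S} {E : Subgroup ↥S}

theorem comm_inv_eq {x v : ↥S} : v⁻¹ * (x * v * x⁻¹) = ⁅v⁻¹, x⁆ := by
  simp only [commutatorElement_def]; group

/-- The elements of the normaliser acting trivially on `E/Φ(E)` lie in `E`. -/
theorem Ess.mem_of_trivial (h : Ess p F E) {g : ↥S} (hg : g ∈ normalizer (E : Set ↥S))
    (htriv : ∀ v ∈ E, ⁅v⁻¹, g⁆ ∈ phi E) : g ∈ E := by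
  obtain ⟨e, he, hev⟩ := h.inner_of_trivial (h.cnj_mem hg) fun v hv => by
    rw [ev_cnj hg hv, comm_inv_eq]; exact htriv v hv
  have hcen : e⁻¹ * g ∈ centralizer (E : Set ↥S) := mem_centralizer_iff.2 fun v hv => by
    have h2 := hev v hv
    rw [ev_cnj hg hv] at h2
    calc v * (e⁻¹ * g) = e⁻¹ * (e * v * e⁻¹) * g := by group
      _ = e⁻¹ * g * v := by rw [← h2]; group
  have := mul_mem he (h.centralizer_le hcen)
  rwa [mul_inv_cancel_left] at this

/-- An element of `N` stabilises a layer of order at most `p`. -/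
theorem comm_mem_layer (hS : IsPGroup p S) {x : ↥S} (hx : x ∈ normalizer (E : Set ↥S))
    {K L : Subgroup ↥S} (hKL : K ≤ L) (hLE : L ≤ E) (hcard : Nat.card L ≤ p * Nat.card K)
    (hK : ∀ v ∈ K, x * v * x⁻¹ ∈ K) (hL : ∀ v ∈ L, x * v * x⁻¹ ∈ L) {v : ↥S} (hv : v ∈ L) :
    ⁅v⁻¹, x⁆ ∈ K := by
  obtain ⟨k, hk⟩ := (hS.to_subgroup (normalizer (E : Set ↥S))) ⟨x, hx⟩
  have h1 := SmallEss.apply_inv_mul_mem (p := p) (α := cnj E hx) (k := k) (K := K.subgroupOf E)
    (L := L.subgroupOf E) (comap_mono hKL)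
    (by
      rwa [Nat.card_congr (subgroupOfEquivOfLe hLE).toEquiv,
        Nat.card_congr (subgroupOfEquivOfLe (hKL.trans hLE)).toEquiv])
    (by rw [cnj, ← map_pow, hk, map_one]) (fun u hu => hK _ hu) (fun u hu => hL _ hu)
    (x := ⟨v, hLE hv⟩) hv
  rw [← comm_inv_eq]
  exact h1

/-- Two or three generators. -/
theorem Ess.cases (h : Ess p F E) (hp5 : 5 ≤ p) (hr : RankThree p ↥S) :
    Ctx p F E ∨ Nat.card E = p ^ 2 * Nat.card (phi E) := by
  have hp := (Fact.out : p.Prime)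
  have h1 : Nat.card E ≤ p ^ 3 * Nat.card (phi E) :=
    hr E (phi E) (phi_le E) (fun u hu v hv => comm_mem_phi h.hS hu hv) fun u hu => pow_mem_phi h.hS hu
  obtain ⟨n, hn⟩ := PGroup.card_eq_pow h.hS E
  obtain ⟨k, hk⟩ := PGroup.card_eq_pow h.hS (phi E)
  by_cases h3 : n = k + 3
  · left
    refine ⟨h.hS, h.hF, hp5, hr, h.ess, ?_⟩
    rw [hn, hk, h3]; ring
  by_cases h2 : n = k + 2
  · right
    rw [hn, hk, h2]; ring
  exfalso
  rw [hn, hk, ← pow_add] at h1
  have hle := (Nat.pow_le_pow_iff_right hp.one_lt).1 h1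
  have hsmall : Nat.card E ≤ p * Nat.card (phi E) := by
    rw [hn, hk, ← pow_succ']
    exact Nat.pow_le_pow_right hp.pos (by omega)
  obtain ⟨x, hx, hxE⟩ := SetLike.exists_of_lt h.lt_normalizer
  have hnE : Nm E (normalizer (E : Set ↥S)) := Nm.of_le_normalizer le_rfl
  exact hxE (h.mem_of_trivial hx fun v hv => comm_mem_layer h.hS hx (phi_le E) le_rfl hsmall
    (fun v hv => nm_phi h.hS hnE x hx v hv) (fun v hv => hnE x hx v hv) hv)

namespace Ess

variable (h : Ess p F E) (hidx : Nat.card E = p ^ 2 * Nat.card (phi E))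
include h hidx

theorem irreducible {W : Subgroup ↥S} (hΦW : phi E ≤ W) (hWE : W ≤ E)
    (hinv : ∀ β ∈ aut F E, ∀ v ∈ W, ev β v ∈ W) : W = phi E ∨ W = E := by
  by_contra hcon
  push Not at hcon
  obtain ⟨h1, h2⟩ := hcon
  have hc1 := PGroup.mul_card_le_card h.hS (lt_of_le_of_ne hΦW (Ne.symm h1))
  have hc2 := PGroup.mul_card_le_card h.hS (lt_of_le_of_ne hWE h2)
  rw [hidx] at hc2
  have hp := (Fact.out : p.Prime)
  have hW : Nat.card W ≤ p * Nat.card (phi E) :=
    Nat.le_of_mul_le_mul_left (hc2.trans_eq (by ring)) hp.pos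
  have hE : Nat.card E ≤ p * Nat.card W := by
    rw [hidx, sq, mul_assoc]
    exact Nat.mul_le_mul_left _ hc1
  obtain ⟨x, hx, hxE⟩ := SetLike.exists_of_lt h.lt_normalizer
  have hnE : Nm E (normalizer (E : Set ↥S)) := Nm.of_le_normalizer le_rfl
  have hnΦ := nm_phi h.hS hnE
  have hxW : ∀ v ∈ W, x * v * x⁻¹ ∈ W := fun v hv => by
    have := hinv _ (h.cnj_mem hx) v hv
    rwa [ev_cnj hx (hWE hv)] at this
  refine hxE (h.mem_of_trivial hx fun v hv => ?_)
  rw [← comm_inv_eq, ← ev_cnj hx hv]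
  refine h.trivial_of_layers hΦW hWE hinv (h.cnj_mem hx) (fun u hu => ?_) (fun u hu => ?_) hv
  · rw [ev_cnj hx (hWE hu), comm_inv_eq]
    exact comm_mem_layer h.hS hx hΦW hWE hW (fun w hw => hnΦ x hx w hw) hxW hu
  · rw [ev_cnj hx hu, comm_inv_eq]
    exact comm_mem_layer h.hS hx hWE le_rfl hE hxW (fun w hw => hnE x hx w hw) hu

/-- The line fixed by the normaliser. -/
theorem exists_line : ∃ W : Subgroup ↥S, phi E ≤ W ∧ W ≤ E ∧
    Nat.card W = p * Nat.card (phi E) ∧ Nm W (normalizer (E : Set ↥S)) := by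
  have hp := (Fact.out : p.Prime)
  set N := normalizer (E : Set ↥S)
  have hnE : Nm E N := Nm.of_le_normalizer le_rfl
  have := (nm_phi h.hS hnE).normal_subgroupOf
  have := hnE.normal_subgroupOf
  obtain ⟨k, hk⟩ := PGroup.card_eq_pow h.hS (phi E)
  have hcΦ : Nat.card ((phi E).subgroupOf N) = p ^ k := by
    rw [Nat.card_congr (subgroupOfEquivOfLe ((phi_le E).trans le_normalizer)).toEquiv, hk]
  have hcE : Nat.card (E.subgroupOf N) = p ^ (k + 2) := by
    rw [Nat.card_congr (subgroupOfEquivOfLe le_normalizer).toEquiv, hidx, hk]; ring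
  obtain ⟨W, hWn, hΦW, hWE, hWc⟩ := PGroup.exists_normal_card_between (h.hS.to_subgroup N)
    ((phi E).subgroupOf N) (E.subgroupOf N) (comap_mono (phi_le E)) (k + 1)
    (hcΦ ▸ Nat.pow_le_pow_right hp.pos (by omega)) (hcE ▸ Nat.pow_le_pow_right hp.pos (by omega))
  refine ⟨W.map N.subtype, fun v hv => ⟨⟨v, le_normalizer (phi_le E hv)⟩, hΦW hv, rfl⟩, ?_, ?_, ?_⟩
  · rintro _ ⟨w, hw, rfl⟩; exact hWE hw
  · rw [card_map_of_injective N.subtype_injective, hWc, hk, pow_succ']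
  · rintro g hg _ ⟨w, hw, rfl⟩
    exact ⟨⟨g, hg⟩ * w * ⟨g, hg⟩⁻¹, hWn.conj_mem w hw _, rfl⟩

theorem card_normalizer_two : Nat.card ↥(normalizer (E : Set ↥S)) = p * Nat.card E := by
  have hp := (Fact.out : p.Prime)
  refine le_antisymm ?_ (PGroup.mul_card_le_card h.hS h.lt_normalizer)
  set N := normalizer (E : Set ↥S)
  obtain ⟨W, hΦW, hWE, hWc, hnW⟩ := h.exists_line hidx
  have hnE : Nm E N := Nm.of_le_normalizer le_rfl
  have hnΦ : Nm (phi E) N := nm_phi h.hS hnE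
  have hE : Nat.card E ≤ p * Nat.card W := by rw [hidx, hWc, sq, mul_assoc]
  have hW1 : ∀ g ∈ N, ∀ v ∈ W, ⁅v⁻¹, g⁆ ∈ phi E := fun g hg v hv =>
    comm_mem_layer h.hS hg hΦW hWE hWc.le (fun w hw => hnΦ g hg w hw) (fun w hw => hnW g hg w hw) hv
  have hW2 : ∀ g ∈ N, ∀ v ∈ E, ⁅v⁻¹, g⁆ ∈ W := fun g hg v hv =>
    comm_mem_layer h.hS hg hWE le_rfl hE (fun w hw => hnW g hg w hw) (fun w hw => hnE g hg w hw) hv
  obtain ⟨a, ha, haW⟩ := SetLike.not_le_iff_exists.1 (fun hle : E ≤ W => by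
    have h1 := Subgroup.card_le_of_le hle
    rw [hidx, hWc, sq, mul_assoc] at h1
    have h2 := Nat.le_of_mul_le_mul_right (h1.trans_eq (one_mul _).symm) (Nat.mul_pos hp.pos Nat.card_pos)
    have := hp.two_le
    omega)
  have hWsup : W ⊔ zpowers a = E := sup_eq_of_card_le h.hS hWE hE ha haW
  have hnW' : Nm W E := hnW.mono le_normalizer
  -- the action is determined by the image of `a`
  have hn := hnΦ.normal_subgroupOf
  set f := QuotientGroup.mk' ((phi E).subgroupOf N)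
  have hfone : ∀ {v : ↥S} (hv : v ∈ N), f ⟨v, hv⟩ = 1 ↔ v ∈ phi E := fun hv => QuotientGroup.eq_one_iff _
  set A := f ⟨a, le_normalizer ha⟩ with hA
  have hcW : ∀ (g : N) (w : ↥S) (hw : w ∈ W), Commute (f ⟨w, le_normalizer (hWE hw)⟩) (f g) := by
    intro g w hw
    refine commutatorElement_eq_one_iff_mul_comm.1 ?_
    rw [← map_commutatorElement]
    refine (hfone (v := ⁅w, (g : ↥S)⁆) (⁅(⟨w, le_normalizer (hWE hw)⟩ : N), g⁆).2).2 ?_
    have := hW1 g g.2 w⁻¹ (inv_mem hw)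
    rwa [inv_inv] at this
  -- an element commuting with `a` modulo `Φ(E)` lies in `E`
  have hmem : ∀ g : N, Commute (f g) A → (g : ↥S) ∈ E := by
    intro g hg
    refine h.mem_of_trivial g.2 fun v hv => ?_
    obtain ⟨w, hw, i, hi⟩ := mem_sup_zpowers (hnW'.le_normalizer ha) (hWsup.ge hv)
    have hv' : f ⟨v, le_normalizer hv⟩ = f ⟨w, le_normalizer (hWE hw)⟩ * A ^ i := by
      rw [hA, ← map_zpow, ← map_mul]; exact congrArg f (Subtype.ext hi)
    refine (hfone (v := ⁅v⁻¹, (g : ↥S)⁆) (⁅(⟨v, le_normalizer hv⟩ : N)⁻¹, g⁆).2).1 ?_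
    show f ⁅(⟨v, le_normalizer hv⟩ : N)⁻¹, g⁆ = 1
    rw [map_commutatorElement, map_inv, hv']
    exact commutatorElement_eq_one_iff_mul_comm.2
      ((hcW g w hw).mul_left ((hg.zpow_right i).symm)).inv_left.eq
  obtain ⟨x, hx, hxE⟩ := SetLike.exists_of_lt h.lt_normalizer
  set X := f ⟨x, hx⟩ with hX
  have hga : ∀ g : N, ⁅(g : ↥S), a⁆ ∈ W := fun g => by
    have h2 := hW2 g g.2 a⁻¹ (inv_mem ha)
    rw [inv_inv] at h2
    rw [← commutatorElement_inv]
    exact inv_mem h2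
  have hD : ⁅x, a⁆ ∈ W := hga ⟨x, hx⟩
  set D := f ⟨⁅x, a⁆, le_normalizer (hWE hD)⟩ with hDdef
  have hXA : ⁅X, A⁆ = D := by
    rw [hX, hA, ← map_commutatorElement]; rfl
  have hDc : ∀ g : N, Commute D (f g) := fun g => hcW g _ hD
  have hDnot : ⁅x, a⁆ ∉ phi E := fun hmem' => hxE (hmem ⟨x, hx⟩ (by
    refine commutatorElement_eq_one_iff_mul_comm.1 ?_
    rw [← hX, hXA]; exact (hfone _).2 hmem'))
  have hxp : x ^ p ∈ E := hmem ⟨x ^ p, pow_mem hx p⟩ (by
    refine commutatorElement_eq_one_iff_mul_comm.1 ?_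
    rw [show f ⟨x ^ p, pow_mem hx p⟩ = X ^ (p : ℤ) by rw [zpow_natCast, hX, ← map_pow]; rfl,
      show A = A ^ (1 : ℤ) by rw [zpow_one],
      Fusion.MaxClassRankThree.comm_zpow (by rw [hXA]; exact hDc _) (by rw [hXA]; exact hDc _), hXA,
      mul_one, zpow_natCast, hDdef, ← map_pow]
    exact (hfone (v := ⁅x, a⁆ ^ p) (pow_mem (le_normalizer (hWE hD)) p)).2
      (pow_mem_phi h.hS (hWE hD)))
  have hDsup : phi E ⊔ zpowers ⁅x, a⁆ = W := sup_eq_of_card_le h.hS hΦW hWc.le hD hDnot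
  have hle : N ≤ E ⊔ zpowers x := by
    intro g hg
    obtain ⟨φ, hφ, i, hi⟩ := mem_sup_zpowers
      (hnΦ.le_normalizer (le_normalizer (hWE hD))) (hDsup.ge (hga ⟨g, hg⟩))
    have hgA : ⁅f ⟨g, hg⟩, A⁆ = D ^ i := by
      rw [hA, hDdef, ← map_commutatorElement, ← map_zpow,
        show ⁅(⟨g, hg⟩ : N), ⟨a, le_normalizer ha⟩⁆ = ⟨φ, le_normalizer (phi_le E hφ)⟩ *
          ⟨⁅x, a⁆, le_normalizer (hWE hD)⟩ ^ i from Subtype.ext hi, map_mul,
        (hfone _).2 hφ, one_mul]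
    have h1 := hmem ⟨g * (x ^ i)⁻¹, mul_mem hg (inv_mem (zpow_mem hx i))⟩ (by
      refine commutatorElement_eq_one_iff_mul_comm.1 ?_
      rw [show f ⟨g * (x ^ i)⁻¹, mul_mem hg (inv_mem (zpow_mem hx i))⟩ = f ⟨g, hg⟩ * X ^ (-i) by
          rw [zpow_neg, hX, ← map_zpow, ← map_inv, ← map_mul]; rfl,
        commutatorElement_mul_left_eq_conj_mul]
      have h2 := Fusion.MaxClassRankThree.comm_zpow (x := X) (y := A) (by rw [hXA]; exact hDc _)
        (by rw [hXA]; exact hDc _) (-i) 1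
      rw [zpow_one, hXA, mul_one] at h2
      rw [h2, hgA, ← ((hDc ⟨g, hg⟩).zpow_left (-i)).eq, mul_inv_cancel_right, ← zpow_add,
        neg_add_cancel, zpow_zero])
    have h2 := mul_mem (mem_sup_left h1 : g * (x ^ i)⁻¹ ∈ E ⊔ zpowers x)
      (mem_sup_right (zpow_mem (mem_zpowers x) i))
    rwa [inv_mul_cancel_right] at h2
  refine (Subgroup.card_le_of_le hle).trans (le_of_eq ?_)
  exact card_sup (hnE.le_normalizer hx) hxE hxp

/-- A two-generator essential subgroup is a pearl or has order `p⁵` and class three. -/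
theorem two_generated (hp5 : 5 ≤ p) (hr : RankThree p ↥S) :
    ((∀ u v : ↥E, u * v = v * u) ∧ (∀ v : ↥E, v ^ p = 1) ∧ Nat.card E = p ^ 2) ∨
    (Cfsg.IsExtraspecial p ↥E ∧ Nat.card E = p ^ 3 ∧ ∀ v : ↥E, v ^ p = 1) ∨
    ∃ (x : ↥S) (hx : x ∈ normalizer (E : Set ↥S)), x ∉ E ∧ RankTwo.Bad p ↥E (cnj E hx) := by
  have hp := (Fact.out : p.Prime)
  obtain ⟨x, hx, hxE⟩ := SetLike.exists_of_lt h.lt_normalizer
  set N := normalizer (E : Set ↥S)
  have hnE : Nm E N := Nm.of_le_normalizer le_rfl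
  have hnΦ : Nm (phi E) N := nm_phi h.hS hnE
  obtain ⟨W, hΦW, hWE, hWc, hnW⟩ := h.exists_line hidx
  have hxp : x ^ p ∈ E := by
    have := hnE.normal_subgroupOf
    have hi : (E.subgroupOf N).index = p := by
      have h2 := (E.subgroupOf N).card_mul_index
      rw [Nat.card_congr (subgroupOfEquivOfLe le_normalizer).toEquiv, h.card_normalizer_two hidx,
        mul_comm p] at h2
      exact Nat.eq_of_mul_eq_mul_left Nat.card_pos h2
    exact PGroup.pow_mem_of_index_eq (p := p) (E.subgroupOf N) hi (⟨x, hx⟩ : N)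
  have hfr : ∀ v : ↥E, v ∈ frattini ↥E ↔ (v : ↥S) ∈ phi E := fun v =>
    (mem_map_iff_mem E.subtype_injective).symm
  have hT : RankTwo.Two p ↥E (cnj E hx) ⟨x ^ p, hxp⟩ := by
    refine ⟨h.hS.to_subgroup E, hp5, ?_, ?_, ?_, ?_, ?_, ?_, ?_⟩
    · rw [hidx, phi, card_map_of_injective E.subtype_injective]
    · intro H K hKH hc hpow
      have h1 := hr (H.map E.subtype) (K.map E.subtype) (map_mono hKH) (by
        rintro _ ⟨u, hu, rfl⟩ _ ⟨v, hv, rfl⟩
        exact ⟨_, hc u hu v hv, map_commutatorElement _ _ _⟩) (by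
        rintro _ ⟨u, hu, rfl⟩
        exact ⟨_, hpow u hu, map_pow _ _ _⟩)
      rwa [card_map_of_injective E.subtype_injective, card_map_of_injective E.subtype_injective] at h1
    · intro V hV hinv
      rcases h.irreducible hidx (W := V.map E.subtype) (map_mono hV) (map_subtype_le V)
        (fun β _ v hv => by
          obtain ⟨w, hw, rfl⟩ := hv
          refine ⟨β w, hinv β w hw, ?_⟩
          exact (ev_apply β w.2).symm) with he | he
      · exact Or.inl (map_injective E.subtype_injective he)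
      · refine Or.inr (map_injective E.subtype_injective (he.trans ?_))
        rw [← MonoidHom.range_eq_map, Subgroup.range_subtype]
    · by_contra hcon
      push Not at hcon
      refine hxE (h.mem_of_trivial hx fun v hv => ?_)
      rw [← comm_inv_eq]
      exact (hfr _).1 (hcon ⟨v, hv⟩)
    · intro v
      have hE : Nat.card E ≤ p * Nat.card W := by rw [hidx, hWc, sq, mul_assoc]
      have h1 : ⁅(v : ↥S)⁻¹, x⁆ ∈ W := comm_mem_layer h.hS hx hWE le_rfl hE
        (fun w hw => hnW x hx w hw) (fun w hw => hnE x hx w hw) v.2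
      have h2 := comm_mem_layer h.hS hx hΦW hWE hWc.le (fun w hw => hnΦ x hx w hw)
        (fun w hw => hnW x hx w hw) h1
      refine (hfr _).2 ?_
      rw [← comm_inv_eq] at h2
      rw [← comm_inv_eq] at h2
      exact h2
    · refine Subtype.ext ?_
      show x * x ^ p * x⁻¹ = x ^ p
      group
    · intro v
      refine Subtype.ext ?_
      show ((cnj E hx ^ p) v : ↥S) = x ^ p * v * (x ^ p)⁻¹
      rw [cnj, ← map_pow]
      rfl
  rcases hT.trichotomy with hh | hh | hh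
  · exact Or.inl hh
  · exact Or.inr (Or.inl hh)
  · exact Or.inr (Or.inr ⟨x, hx, hxE, hh⟩)

end Ess

end Cfsg.Agent.RankThreeNormal
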