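import Cfsg.Agent.Lib.RankThreeNormal.Torus
import Cfsg.Agent.Lib.Fusion.Extend

/-!
Automisers with weights extend to the normaliser, and so the normaliser has exponent `p` modulo
`Φ(E)`.
-/

set_option autoImplicit false
set_option maxHeartbeats 1000000

namespace Cfsg.Agent.RankThreeNormal

open Subgroup Cfsg Cfsg.FusionSystem Cfsg.Agent
open Cfsg.Agent.Fusion Cfsg.Agent.Fusion.Internal
open Cfsg.Agent.Fusion.MaxClassRankThree (ev ev_apply ev_mem ev_mul ev_inv ev_comm ev_pow ev_zpow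
  comm_zpow)
open scoped commutatorElement

variable {Ω : Type*} [Group Ω] {S : Subgroup Ω} [Finite S] {p : ℕ} [Fact p.Prime]
  {F : FusionSystem S} {E : Subgroup ↥S}

/-- An automiser of a centric subgroup normalising the action of the normaliser extends to it. -/
theorem extend_aut (hS : IsPGroup p S) (hF : F.IsSaturated p) {K : Subgroup ↥S}
    (hK : F.IsCentric (up K)) {β : MulAut ↥K} (hβ : β ∈ aut F K)
    (hnorm : ∀ g ∈ normalizer (K : Set ↥S), ∃ h ∈ normalizer (K : Set ↥S),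
      ∀ v ∈ K, ev β (g * v * g⁻¹) = h * ev β v * h⁻¹) :
    ∃ ψ ∈ aut F (normalizer (K : Set ↥S)), ∀ v ∈ K, ev ψ v = ev β v := by
  obtain ⟨hφ, hφr⟩ := hom_of_mem_autGroup (up_le K) (mem_aut.1 hβ)
  set φ := (up K).subtype.comp (MulAut.congr (upEquiv K) β).toMonoidHom with hφdef
  have hφv : ∀ (v : ↥S) (hv : v ∈ K), φ ⟨v, coe_mem_up.2 hv⟩ = ((ev β v : ↥S) : Ω) := fun v hv => by
    rw [ev_apply β hv]; rfl
  obtain ⟨ψ, hψ, hψN, hψK⟩ := Extn.extend_centric_aut hS F hF hK hφ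
    (fun x => hφr.le ⟨x, rfl⟩) hφr (fun n hn => by
      rw [normalizerIn_up] at hn ⊢
      obtain ⟨g, hg, rfl⟩ := hn
      obtain ⟨h, hh, hgh⟩ := hnorm g hg
      refine ⟨h, coe_mem_up.2 hh, fun x hx => ?_⟩
      have hv : (⟨x, up_le K x.2⟩ : ↥S) ∈ K := mk_mem x.2
      have hv' : g * ⟨x, up_le K x.2⟩ * g⁻¹ ∈ K := (mem_normalizer_iff.1 hg _).1 hv
      refine ((hφv _ hv').trans (congrArg Subtype.val (hgh _ hv))).trans ?_
      rw [show φ x = ((ev β ⟨x, up_le K x.2⟩ : ↥S) : Ω) from hφv _ hv]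
      rfl)
  revert ψ
  suffices key : ∀ P : Subgroup Ω, P = up (normalizer (K : Set ↥S)) → ∀ ψ : P →* Ω, ψ ∈ F.Hom P →
      (∀ x, ψ x ∈ P) → (∀ (x : Ω) (hx : x ∈ up K) (hx' : x ∈ P), ψ ⟨x, hx'⟩ = φ ⟨x, hx⟩) →
      ∃ ψ' ∈ aut F (normalizer (K : Set ↥S)), ∀ v ∈ K, ev ψ' v = ev β v from
    fun ψ hψ h1 h2 => key _ (normalizerIn_up K) ψ hψ h1 h2
  rintro P rfl ψ hψ h1 h2
  have hr : ψ.range = up (normalizer (K : Set ↥S)) :=
    range_eq_of_le hψ (up_le _) h1 le_rfl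
  refine ⟨_, mem_aut_symm (toAut_mem hψ hr), fun v hv => Subtype.ext ?_⟩
  have hvN : v ∈ normalizer (K : Set ↥S) := le_normalizer hv
  rw [← hφv v hv, ← h2 _ _ (coe_mem_up.2 hvN), ev_apply _ hvN]
  rfl

variable {a x : ↥S}

/-- An automiser of the normaliser with weights `(s, α)`. -/
structure Psi (hc : Ctx p F E) (hT : Tv p E (normalizer (E : Set ↥S)) a x)
    (ψ : MulAut ↥(normalizer (E : Set ↥S))) (s α : ℤ) : Prop where
  mem : ψ ∈ aut F (normalizer (E : Set ↥S))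
  invE : ∀ v ∈ E, ev ψ v ∈ E
  invPhi : ∀ v ∈ phi E, ev ψ v ∈ phi E
  gen : (a ^ α)⁻¹ * ev ψ a ∈ fixLayer hT.pos
  onX : (x ^ s)⁻¹ * ev ψ x ∈ E
  fix : ∀ v ∈ fixLayer hT.pos, v⁻¹ * ev ψ v ∈ layer1 E (normalizer (E : Set ↥S))
  onD : (⁅a, x⁆ ^ (α * s))⁻¹ * ev ψ ⁅a, x⁆ ∈ phi E

namespace Psi

variable {hc : Ctx p F E} {hT : Tv p E (normalizer (E : Set ↥S)) a x}
  {ψ : MulAut ↥(normalizer (E : Set ↥S))} {s α : ℤ}

theorem invFix (h : Psi hc hT ψ s α) {v : ↥S} (hv : v ∈ fixLayer hT.pos) :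
    ev ψ v ∈ fixLayer hT.pos := by
  have := mul_mem hv (hT.layer1_le_fix (h.fix v hv))
  rwa [mul_inv_cancel_left] at this

theorem invLayer1 (h : Psi hc hT ψ s α) {v : ↥S}
    (hv : v ∈ layer1 E (normalizer (E : Set ↥S))) :
    ev ψ v ∈ layer1 E (normalizer (E : Set ↥S)) := by
  have := mul_mem hv (h.fix v (hT.layer1_le_fix hv))
  rwa [mul_inv_cancel_left] at this

end Psi

namespace Ctx

theorem ev_inv_self (β : MulAut ↥E) {v : ↥S} (hv : v ∈ E) : ev β⁻¹ (ev β v) = v := by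
  rw [← ev_aut_mul _ _ hv, inv_mul_cancel, ev_aut_one hv]

/-- Weighted automisers extend to the normaliser. -/
theorem exists_psi (hc : Ctx p F E) (hT : Tv p E (normalizer (E : Set ↥S)) a x) {β : aut F E}
    {s α : ℤ} (hβ : Wt hc hT β s α) : ∃ ψ, Psi hc hT ψ s α := by
  set N := normalizer (E : Set ↥S)
  have hP := hT.pos
  have hnE : ∀ g ∈ N, ∀ v ∈ E, g * v * g⁻¹ ∈ E := fun g hg v hv => (mem_normalizer_iff.1 hg v).1 hv
  have hnorm : ∀ g ∈ N, ∃ h ∈ N, ∀ v ∈ E,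
      ev (β : MulAut ↥E) (g * v * g⁻¹) = h * ev (β : MulAut ↥E) v * h⁻¹ := by
    intro g hg
    obtain ⟨k, hk, i, rfl⟩ := mem_sup_zpowers (hP.nm.le_normalizer hT.hx)
      (show g ∈ E ⊔ zpowers x by rw [hP.sup_zpowers hT.hx hT.hxE]; exact hg)
    set X := hc.qN ⟨x, hT.hx⟩
    let gA : aut F E := ⟨cnj E hg, hc.cnj_mem hg⟩
    have hxi : x ^ (s * i) ∈ N := zpow_mem hT.hx _
    let xA : aut F E := ⟨cnj E hxi, hc.cnj_mem hxi⟩
    have hX : qE F E gA = X ^ i := by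
      show hc.qN ⟨k * x ^ i, hg⟩ = X ^ i
      rw [show (⟨k * x ^ i, hg⟩ : N) = ⟨k, hP.le hk⟩ * ⟨x, hT.hx⟩ ^ i from rfl, map_mul, map_zpow,
        show hc.qN ⟨k, hP.le hk⟩ = 1 from qE_eq_one_iff.2 fun v hv => by
          show v⁻¹ * ev (cnj E (hP.le hk)) v ∈ phi E
          rw [ev_cnj (hP.le hk) hv, show v⁻¹ * (k * v * k⁻¹) = ⁅v⁻¹, k⁆ by
            simp only [commutatorElement_def]; group]
          exact comm_mem_phi hc.hS (inv_mem hv) hk, one_mul]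
    have hxA : qE F E xA = X ^ (s * i) := by
      show hc.qN ⟨x ^ (s * i), hxi⟩ = X ^ (s * i)
      rw [← map_zpow]; rfl
    have h1 : qE F E (β * gA * β⁻¹ * xA⁻¹) = 1 := by
      rw [map_mul, map_mul, map_mul, map_inv, map_inv, hX, hxA, mul_inv_eq_one, ← conj_zpow,
        hβ.conj, mul_inv_cancel_right, zpow_mul]
    obtain ⟨e, he, hev⟩ := hc.inner_of_trivial (β * gA * β⁻¹ * xA⁻¹).2 (qE_eq_one_iff.1 h1)
    refine ⟨e * x ^ (s * i), mul_mem (hP.le he) hxi, fun v hv => ?_⟩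
    have hw := ev_mem (β : MulAut ↥E) hv
    have h2 := hev (x ^ (s * i) * ev (β : MulAut ↥E) v * (x ^ (s * i))⁻¹) (hnE _ hxi _ hw)
    push_cast at h2
    rw [← ev_cnj hxi hw] at h2
    rw [ev_aut_mul _ _ (ev_mem _ hw), ev_inv_self _ hw, ev_aut_mul _ _ hw, ev_aut_mul _ _ (ev_mem _ hw),
      ev_inv_self _ hv, ev_cnj hg hv, ev_cnj hxi hw] at h2
    rw [h2]
    group
  obtain ⟨ψ, hψ, hψE⟩ := extend_aut hc.hS hc.hF hc.ess.1 β.2 hnorm
  have hinvE : ∀ v ∈ E, ev ψ v ∈ E := fun v hv => by rw [hψE v hv]; exact ev_mem _ hv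
  have hψx : (x ^ s)⁻¹ * ev ψ x ∈ E := by
    have hxN : ev ψ x ∈ N := ev_mem ψ hT.hx
    refine hc.qN_ker (g := ⟨(x ^ s)⁻¹ * ev ψ x, mul_mem (inv_mem (zpow_mem hT.hx s)) hxN⟩) ?_
    rw [show (⟨(x ^ s)⁻¹ * ev ψ x, mul_mem (inv_mem (zpow_mem hT.hx s)) hxN⟩ : N) =
      (⟨x, hT.hx⟩ ^ s)⁻¹ * ⟨ev ψ x, hxN⟩ from rfl, map_mul, map_inv, map_zpow, inv_mul_eq_one]
    refine mul_right_cancel (hβ.conj.symm.trans ?_)
    refine MulEquiv.ext fun q => ?_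
    obtain ⟨⟨v, hv⟩, rfl⟩ := QuotientGroup.mk_surjective q
    refine congrArg QuotientGroup.mk (Subtype.ext ?_)
    show ev (β : MulAut ↥E) (ev (cnj E hT.hx) v) = ev (cnj E hxN) (ev (β : MulAut ↥E) v)
    rw [ev_cnj hT.hx hv, ev_cnj hxN (ev_mem _ hv), ← hψE v hv, ← hψE _ (hnE x hT.hx v hv),
      ev_mul ψ (mul_mem hT.hx (hP.le hv)) (inv_mem hT.hx), ev_mul ψ hT.hx (hP.le hv), ev_inv ψ hT.hx]
  have hfix : ∀ v ∈ fixLayer hP, v⁻¹ * ev ψ v ∈ layer1 E N := fun v hv => by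
    rw [hψE v (hP.fixLayer_le hv)]
    exact hβ.fix v hv
  have hgen : (a ^ α)⁻¹ * ev ψ a ∈ fixLayer hP := by rw [hψE a hT.ha]; exact hβ.gen
  refine ⟨ψ, hψ, hinvE, fun v hv => by rw [hψE v (phi_le E hv)]; exact ev_mem_phi _ hv, hgen, hψx,
    hfix, ?_⟩
  -- the weight on the commutator
  have hn := hP.nmPhi.normal_subgroupOf
  set f := QuotientGroup.mk' ((phi E).subgroupOf N)
  have hcomm : ∀ {u v : ↥S} (hu : u ∈ N) (hv : v ∈ N), ⁅u, v⁆ ∈ phi E →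
      Commute (f ⟨u, hu⟩) (f ⟨v, hv⟩) := fun hu hv h => by
    refine commutatorElement_eq_one_iff_mul_comm.1 ?_
    rw [← map_commutatorElement]
    exact (QuotientGroup.eq_one_iff _).2 h
  set A := f ⟨a, hT.aN⟩
  set X := f ⟨x, hT.hx⟩
  have hDc : ∀ {v : ↥S} (hv : v ∈ N), Commute ⁅A, X⁆ (f ⟨v, hv⟩) := fun hv => by
    rw [← map_commutatorElement]
    exact hcomm (u := ⁅a, x⁆) (hP.le (hP.layer1_le hT.D_mem)) hv (hT.layer1_com _ hT.D_mem _ hv)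
  have hz : (a ^ α)⁻¹ * ev ψ a ∈ N := hP.le (hP.fixLayer_le hgen)
  have hx' : (x ^ s)⁻¹ * ev ψ x ∈ N := hP.le hψx
  set Zq := f ⟨_, hz⟩
  set Eq := f ⟨_, hx'⟩
  have hψA : f ⟨ev ψ a, ev_mem ψ hT.aN⟩ = A ^ α * Zq := by
    rw [← map_zpow, ← map_mul]
    exact congrArg f (Subtype.ext (mul_inv_cancel_left _ _).symm)
  have hψX : f ⟨ev ψ x, ev_mem ψ hT.hx⟩ = X ^ s * Eq := by
    rw [← map_zpow, ← map_mul]
    exact congrArg f (Subtype.ext (mul_inv_cancel_left _ _).symm)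
  have hkey : ⁅A ^ α * Zq, X ^ s * Eq⁆ = ⁅A, X⁆ ^ (α * s) := by
    have h1 : Commute Zq (X ^ s * Eq) := ((hcomm hz hT.hx (hP.fixLayer_com _ hgen x hT.hx)).zpow_right s).mul_right
      (hcomm hz hx' (hP.fixLayer_com _ hgen _ hx'))
    have h2 : Commute (A ^ α) Eq := (hcomm hT.aN hx' (comm_mem_phi hc.hS hT.ha hψx)).zpow_left α
    rw [commutatorElement_mul_left_eq_conj_mul, commutatorElement_eq_one_iff_mul_comm.2 h1.eq, mul_one,
      mul_inv_cancel, one_mul, commutatorElement_mul_right_eq_mul_conj,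
      commutatorElement_eq_one_iff_mul_comm.2 h2.eq, mul_one, mul_inv_cancel_right,
      comm_zpow (hDc hT.aN) (hDc hT.hx)]
  rw [← hψA, ← hψX, ← map_commutatorElement, ← map_commutatorElement, ← map_zpow] at hkey
  have h3 := (QuotientGroup.eq (s := (phi E).subgroupOf N)).1 hkey.symm
  rw [ev_comm ψ hT.aN hT.hx]
  exact h3

end Ctx

/-- Powers of a product when the commutators are central of order `p`. -/
theorem mul_zpow_pow {Q : Type*} [Group Q] (hp5 : 5 ≤ p) {u v : Q}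
    (hu : Commute ⁅v⁻¹, u⁻¹⁆ u) (hv : Commute ⁅v⁻¹, u⁻¹⁆ v) (hw : ⁅v⁻¹, u⁻¹⁆ ^ p = 1) :
    (u * v) ^ p = u ^ p * v ^ p := by
  rw [mul_pow_comm (w := ⁅v⁻¹, u⁻¹⁆) (by simp only [commutatorElement_def]; group) hu hv,
    pow_choose_eq_one hp5 hw two_ne_zero (by norm_num), mul_one]

namespace Ctx

theorem exists_half (hc : Ctx p F E) : ∃ j : ℕ, 2 * j = 1 + p * 1 :=
  ⟨(p + 1) / 2, by
    obtain ⟨q, hq⟩ := (Fact.out : p.Prime).odd_of_ne_two (by have := hc.hp5; omega)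
    omega⟩

theorem not_dvd_small (hc : Ctx p F E) {m : ℤ} (hm : m ∣ 2 ^ 4 * 3 ^ 2) : ¬ (p : ℤ) ∣ m := by
  intro h
  have h1 : p ∣ 2 ^ 4 * 3 ^ 2 := by exact_mod_cast h.trans hm
  have hp5 := hc.hp5
  rcases (Fact.out : p.Prime).dvd_mul.1 h1 with h2 | h2
  · have := Nat.le_of_dvd two_pos ((Fact.out : p.Prime).dvd_of_dvd_pow h2)
    omega
  · have := Nat.le_of_dvd three_pos ((Fact.out : p.Prime).dvd_of_dvd_pow h2)
    omega

/-- The normaliser has exponent `p` modulo `Φ(E)`. -/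
theorem pow_mem_phi_normalizer (hc : Ctx p F E) (hT : Tv p E (normalizer (E : Set ↥S)) a x) :
    ∀ w ∈ normalizer (E : Set ↥S), w ^ p ∈ phi E := by
  have hp5 := hc.hp5
  set N := normalizer (E : Set ↥S)
  have hP := hT.pos
  obtain ⟨j, hj⟩ := hc.exists_half
  obtain ⟨β, hβ⟩ := (hc.exists_wt hT hj).2
  obtain ⟨ψ, hψ⟩ := hc.exists_psi hT hβ
  have hn := hP.nmPhi.normal_subgroupOf
  set f := QuotientGroup.mk' ((phi E).subgroupOf N)
  have hone : ∀ {v : ↥S} (hv : v ∈ N), f ⟨v, hv⟩ = 1 ↔ v ∈ phi E := fun hv => QuotientGroup.eq_one_iff _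
  have hRp : ∀ {v : ↥S} (hv : v ∈ E), f ⟨v, hP.le hv⟩ ^ p = 1 := fun hv => by
    rw [← map_pow]; exact (hone _).2 (pow_mem_phi hc.hS hv)
  have hmul : ∀ u v : N, f (u * v) ^ p = f u ^ p * f v ^ p := by
    intro u v
    rw [map_mul]
    have hwR : ⁅(v : ↥S)⁻¹, (u : ↥S)⁻¹⁆ ∈ layer1 E N :=
      hT.comm_le_layer1 _ (inv_mem v.2) _ (inv_mem u.2)
    have hc1 : ∀ t : N, Commute ⁅(f v)⁻¹, (f u)⁻¹⁆ (f t) := fun t => by
      refine commutatorElement_eq_one_iff_mul_comm.1 ?_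
      rw [← map_inv, ← map_inv, ← map_commutatorElement, ← map_commutatorElement]
      exact (hone _).2 (hT.layer1_com _ hwR _ t.2)
    refine mul_zpow_pow hp5 (hc1 u) (hc1 v) ?_
    rw [← map_inv, ← map_inv, ← map_commutatorElement]
    exact hRp (hP.layer1_le hwR)
  have hpowhom : ∀ (u : N) (i : ℤ), f (u ^ i) ^ p = (f u ^ p) ^ i := fun u i => by
    rw [map_zpow, ← zpow_natCast (f u ^ i), ← zpow_mul, mul_comm, zpow_mul, zpow_natCast]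
  -- the power of `x`
  set y := x ^ p with hy
  have hyE : y ∈ E := hP.pow_mem hT.hx
  have hyZ : y ∈ fixLayer hP := hT.mem_fix hyE (by
    rw [commutatorElement_eq_one_iff_mul_comm.2 ((Commute.refl x).pow_left p).eq]
    exact one_mem _)
  have hψy : f ⟨ev ψ y, ev_mem ψ (hP.le hyE)⟩ = f ⟨y, hP.le hyE⟩ ^ (4 : ℤ) := by
    have hx' := hψ.onX
    rw [show (⟨ev ψ y, ev_mem ψ (hP.le hyE)⟩ : N) =
      (⟨x, hT.hx⟩ ^ (4 : ℤ) * ⟨(x ^ (4 : ℤ))⁻¹ * ev ψ x, hP.le hx'⟩) ^ p from Subtype.ext (by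
        show ev ψ (x ^ p) = (x ^ (4 : ℤ) * ((x ^ (4 : ℤ))⁻¹ * ev ψ x)) ^ p
        rw [mul_inv_cancel_left, ← zpow_natCast, ev_zpow ψ hT.hx, zpow_natCast]),
      map_pow, hmul, hpowhom, hRp hx', mul_one, ← map_pow]
    rfl
  have hyR : y ∈ layer1 E N := by
    have h1 := hψ.fix y hyZ
    have h2 : (y ^ (4 : ℤ))⁻¹ * ev ψ y ∈ phi E :=
      (QuotientGroup.eq (s := (phi E).subgroupOf N)).1 (((map_zpow f _ _).trans hψy.symm :
        f (⟨y, hP.le hyE⟩ ^ (4 : ℤ)) = f ⟨ev ψ y, ev_mem ψ (hP.le hyE)⟩) :)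
    have h3 : y ^ (3 : ℤ) ∈ layer1 E N := by
      have h4 := mul_mem h1 (inv_mem (mem_sup_left h2 :
        (y ^ (4 : ℤ))⁻¹ * ev ψ y ∈ layer1 E N))
      rw [mul_inv_rev, inv_inv, ← mul_assoc, mul_inv_cancel_right] at h4
      rwa [show y⁻¹ * y ^ (4 : ℤ) = y ^ (3 : ℤ) by group] at h4
    have h5 : y ^ (p : ℤ) ∈ layer1 E N := by
      rw [zpow_natCast]; exact mem_sup_left (pow_mem_phi hc.hS hyE)
    obtain ⟨u, v, huv⟩ : IsCoprime (3 : ℤ) (p : ℤ) := by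
      rw [Int.isCoprime_iff_gcd_eq_one]
      exact_mod_cast (Nat.coprime_primes Nat.prime_three (Fact.out : p.Prime)).2 (by omega)
    have h6 := mul_mem (zpow_mem h3 u) (zpow_mem h5 v)
    rwa [← zpow_mul, ← zpow_mul, ← zpow_add, mul_comm 3, mul_comm (p : ℤ), huv, zpow_one] at h6
  have hyΦ : y ∈ phi E := by
    obtain ⟨k, hk, i, hi⟩ := mem_sup_zpowers
      (hP.nmPhi.le_normalizer (hP.le (hP.layer1_le hT.D_mem))) (hT.sup_D.ge hyR)
    have hDE := hP.layer1_le hT.D_mem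
    have hkN := hP.phiN hk
    set D := f ⟨⁅a, x⁆, hP.le hDE⟩
    have hyq : f ⟨y, hP.le hyE⟩ = D ^ i := by
      rw [show (⟨y, hP.le hyE⟩ : N) = ⟨k, hkN⟩ * ⟨⁅a, x⁆, hP.le hDE⟩ ^ i from Subtype.ext hi,
        map_mul, (hone hkN).2 hk, one_mul, map_zpow]
    have hψD : f ⟨ev ψ ⁅a, x⁆, ev_mem ψ (hP.le hDE)⟩ = D ^ (-(j : ℤ) * 4) := by
      rw [← map_zpow]
      exact ((QuotientGroup.eq (s := (phi E).subgroupOf N)).2 hψ.onD).symm
    have hψy' : f ⟨ev ψ y, ev_mem ψ (hP.le hyE)⟩ = D ^ (-(j : ℤ) * 4 * i) := by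
      rw [show (⟨ev ψ y, ev_mem ψ (hP.le hyE)⟩ : N) = ⟨ev ψ k, ev_mem ψ hkN⟩ *
        ⟨ev ψ ⁅a, x⁆, ev_mem ψ (hP.le hDE)⟩ ^ i from Subtype.ext (by
          show ev ψ y = ev ψ k * ev ψ ⁅a, x⁆ ^ i
          rw [← ev_zpow ψ (hP.le hDE), ← ev_mul ψ hkN (zpow_mem (hP.le hDE) i), ← hi]),
        map_mul, (hone _).2 (hψ.invPhi k hk), one_mul, map_zpow, hψD, ← zpow_mul]
    rw [hψy', hyq, ← zpow_mul, ← mul_inv_eq_one, ← zpow_neg, ← zpow_add] at hψy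
    have hdvd := dvd_of_zpow_eq_one (hRp hDE) (fun h => hT.moved ((hone _).1 h)) hψy
    have hjZ : 2 * (j : ℤ) = 1 + (p : ℤ) := by exact_mod_cast (mul_one p ▸ hj)
    have h6 : (p : ℤ) ∣ (6 : ℤ) * i := by
      have e : (6 : ℤ) * i = -(-(j : ℤ) * 4 * i + -(i * 4)) + -(2 * i) * (p : ℤ) := by
        linear_combination (-(2 * i)) * hjZ
      rw [e]
      exact dvd_add hdvd.neg_right (dvd_mul_left _ _)
    have hi0 : (p : ℤ) ∣ i :=
      ((Nat.prime_iff_prime_int.1 (Fact.out : p.Prime)).dvd_mul.1 h6).resolve_left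
        (hc.not_dvd_small (by norm_num))
    obtain ⟨q, rfl⟩ := hi0
    refine (hone (hP.le hyE)).1 ?_
    rw [hyq, zpow_mul, zpow_natCast, hRp hDE, one_zpow]
  intro w hw
  obtain ⟨e, he, i, rfl⟩ := mem_sup_zpowers (hP.nm.le_normalizer hT.hx)
    (show w ∈ E ⊔ zpowers x by rw [hP.sup_zpowers hT.hx hT.hxE]; exact hw)
  refine (hone (pow_mem hw p)).1 ?_
  rw [show (⟨(e * x ^ i) ^ p, pow_mem hw p⟩ : N) = (⟨e, hP.le he⟩ * ⟨x, hT.hx⟩ ^ i) ^ p from rfl,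
    map_pow, hmul, hRp he, one_mul, hpowhom, ← map_pow,
    show (⟨x, hT.hx⟩ : N) ^ p = ⟨y, pow_mem hT.hx p⟩ from rfl, (hone _).2 hyΦ, one_zpow]

end Ctx

end Cfsg.Agent.RankThreeNormal
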