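import Cfsg.Agent.Lib.RankThreeNormal.Jordan
import Cfsg.Agent.Lib.Fusion.TransvectionGroups
import Cfsg.Agent.Lib.Fusion.CentricUnique
import Cfsg.Agent.Lib.PGroup.MetacyclicTwo

/-!
An essential subgroup `E` of rank three: automisers act faithfully on `E/Φ(E)` modulo inner
automorphisms, the normaliser has order `p |E|`, and some conjugate of its action is new.
-/

set_option autoImplicit false
set_option maxHeartbeats 400000

namespace Cfsg.Agent.RankThreeNormal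

open Subgroup Cfsg Cfsg.FusionSystem Cfsg.Agent
open Cfsg.Agent.Fusion Cfsg.Agent.Fusion.Internal
open Cfsg.Agent.Fusion.MaxClassRankThree (ev ev_apply ev_mem ev_mul ev_inv ev_comm ev_pow ev_zpow)
open scoped commutatorElement

section Section

variable {G : Type*} [Group G] {E : Subgroup G}

theorem ev_aut_mul (β γ : MulAut ↥E) {v : G} (hv : v ∈ E) : ev (β * γ) v = ev β (ev γ v) := by
  rw [ev_apply _ hv, ev_apply γ hv, ev_apply β (γ ⟨v, hv⟩).2, MulAut.mul_apply]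

theorem ev_aut_one {v : G} (hv : v ∈ E) : ev (1 : MulAut ↥E) v = v := by
  rw [ev_apply _ hv, MulAut.one_apply]

variable {H L : Subgroup G} [(L.subgroupOf H).Normal] (hHE : H ≤ E) (B : Subgroup (MulAut ↥E))
  (hH : ∀ β ∈ B, ∀ v ∈ H, ev β v ∈ H) (hL : ∀ β ∈ B, ∀ v ∈ L, ev β v ∈ L)

/-- An automorphism on the section `H/L`. -/
noncomputable def sectFun (β : B) : (↥H ⧸ L.subgroupOf H) →* (↥H ⧸ L.subgroupOf H) :=
  QuotientGroup.map _ _
    { toFun := fun v => ⟨ev (β : MulAut ↥E) (v : G), hH _ β.2 _ v.2⟩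
      map_one' := Subtype.ext (by
        show ev (β : MulAut ↥E) 1 = 1
        rw [ev_apply _ E.one_mem, show (⟨1, E.one_mem⟩ : E) = 1 from rfl, map_one]
        rfl)
      map_mul' := fun u v => Subtype.ext (ev_mul _ (hHE u.2) (hHE v.2)) }
    (fun v hv => hL _ β.2 _ hv)

theorem sectFun_mul (β γ : B) (q : ↥H ⧸ L.subgroupOf H) :
    sectFun hHE B hH hL (β * γ) q = sectFun hHE B hH hL β (sectFun hHE B hH hL γ q) := by
  obtain ⟨v, rfl⟩ := QuotientGroup.mk_surjective q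
  exact congrArg QuotientGroup.mk (Subtype.ext (ev_aut_mul _ _ (hHE v.2)))

theorem sectFun_one (q : ↥H ⧸ L.subgroupOf H) : sectFun hHE B hH hL 1 q = q := by
  obtain ⟨v, rfl⟩ := QuotientGroup.mk_surjective q
  exact congrArg QuotientGroup.mk (Subtype.ext (ev_aut_one (hHE v.2)))

/-- The action on the section `H/L`. -/
noncomputable def sectHom : B →* MulAut (↥H ⧸ L.subgroupOf H) where
  toFun β :=
    { toFun := sectFun hHE B hH hL β
      invFun := sectFun hHE B hH hL β⁻¹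
      left_inv := fun q => by rw [← sectFun_mul, inv_mul_cancel, sectFun_one]
      right_inv := fun q => by rw [← sectFun_mul, mul_inv_cancel, sectFun_one]
      map_mul' := fun q r => map_mul _ q r }
  map_one' := MulEquiv.ext (sectFun_one hHE B hH hL)
  map_mul' β γ := MulEquiv.ext (sectFun_mul hHE B hH hL β γ)

theorem sectHom_mk (β : B) {v : G} (hv : v ∈ H) :
    sectHom hHE B hH hL β (QuotientGroup.mk ⟨v, hv⟩) =
      QuotientGroup.mk ⟨ev (β : MulAut ↥E) v, hH _ β.2 _ hv⟩ := rfl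

end Section

variable {Ω : Type*} [Group Ω] {S : Subgroup Ω}

/-- An essential subgroup with three generators in sectional rank three. -/
structure Ctx (p : ℕ) (F : FusionSystem S) (E : Subgroup ↥S) : Prop where
  hS : IsPGroup p S
  hF : F.IsSaturated p
  hp5 : 5 ≤ p
  rank : RankThree p ↥S
  ess : F.IsEssential p (up E)
  idx : Nat.card E = p ^ 3 * Nat.card (phi E)

/-- An essential subgroup. -/
structure Ess (p : ℕ) (F : FusionSystem S) (E : Subgroup ↥S) : Prop where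
  hS : IsPGroup p S
  hF : F.IsSaturated p
  ess : F.IsEssential p (up E)

variable [Finite S] {p : ℕ} [Fact p.Prime] {F : FusionSystem S} {E : Subgroup ↥S}

/-- Conjugation by an element of the normaliser. -/
noncomputable def cnj (E : Subgroup ↥S) {g : ↥S} (hg : g ∈ normalizer (E : Set ↥S)) : MulAut ↥E :=
  normalizerMonoidHom E ⟨g, hg⟩

omit [Finite S] in
theorem ev_cnj {g : ↥S} (hg : g ∈ normalizer (E : Set ↥S)) {v : ↥S} (hv : v ∈ E) :
    ev (cnj E hg) v = g * v * g⁻¹ := by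
  rw [ev_apply _ hv]; rfl

namespace Ess

theorem cnj_mem (_hc : Ess p F E) {g : ↥S} (hg : g ∈ normalizer (E : Set ↥S)) :
    cnj E hg ∈ aut F E := conj_mem_aut F hg

theorem centralizer_le (hc : Ess p F E) : centralizer (E : Set ↥S) ≤ E := fun g hg =>
  coe_mem_up.1 (isCentric_centralizerIn_le hc.ess.1
    ((centralizerIn_up E).ge (coe_mem_up.2 hg)))

/-- A normal `p`-subgroup of the automiser is inner. -/
theorem inner_of_normal (hc : Ess p F E) {M : Subgroup (MulAut ↥E)} (hM : M ≤ aut F E)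
    (hn : ∀ β ∈ M, ∀ a ∈ aut F E, a * β * a⁻¹ ∈ M) (hp : IsPGroup p M) {β : MulAut ↥E}
    (hβ : β ∈ M) : ∃ e ∈ E, ∀ v ∈ E, ev β v = e * v * e⁻¹ := by
  set κ := MulAut.congr (upEquiv E)
  have h := SmallEss.pGroup_le_inn hc.ess (N := M.map κ.toMonoidHom)
    (fun _ ⟨γ, hγ, he⟩ => he ▸ mem_aut.1 (hM hγ)) ?_ (hp.map _)
    ⟨β, hβ, rfl⟩
  · obtain ⟨e, he⟩ := h
    refine ⟨(upEquiv E).symm e, ((upEquiv E).symm e).2, fun v hv => ?_⟩
    rw [ev_apply β hv]
    apply Subtype.ext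
    have h1 := congrArg (fun γ : MulAut ↥(up E) => ((γ (upEquiv E ⟨v, hv⟩) : up E) : Ω)) he
    exact h1.symm
  · rintro _ ⟨γ, hγ, rfl⟩ a ha
    refine ⟨κ.symm a * γ * (κ.symm a)⁻¹, hn γ hγ _ (mem_aut_symm ha), ?_⟩
    show κ (κ.symm a * γ * (κ.symm a)⁻¹) = a * κ γ * a⁻¹
    rw [map_mul, map_mul, map_inv, MulEquiv.apply_symm_apply]

theorem ne_top (hc : Ess p F E) : E ≠ ⊤ := by
  rintro rfl
  refine not_essential_self hc.hS hc.hF ?_
  have h : up (⊤ : Subgroup ↥S) = S := by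
    rw [up, ← MonoidHom.range_eq_map, Subgroup.range_subtype]
  have h1 := hc.ess
  rw [h] at h1
  exact h1

theorem lt_normalizer (hc : Ess p F E) : E < normalizer (E : Set ↥S) :=
  PGroup.lt_normalizer hc.hS hc.ne_top

/-- The automisers trivial on both layers around an invariant subgroup are inner. -/
theorem trivial_of_layers (hc : Ess p F E) {W : Subgroup ↥S} (hW : phi E ≤ W) (hWE : W ≤ E)
    (hinv : ∀ β ∈ aut F E, ∀ v ∈ W, ev β v ∈ W) {β : MulAut ↥E} (hβ : β ∈ aut F E)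
    (h1 : ∀ v ∈ W, v⁻¹ * ev β v ∈ phi E) (h2 : ∀ v ∈ E, v⁻¹ * ev β v ∈ W) {v : ↥S} (hv : v ∈ E) :
    v⁻¹ * ev β v ∈ phi E := by
  let f : ℕ → Subgroup ↥E := fun i => match i with
    | 0 => frattini ↥E
    | 1 => W.subgroupOf E
    | _ => ⊤
  have hfin : ∀ (γ : MulAut ↥E) (u : ↥E), u ∈ W.subgroupOf E → γ ∈ aut F E → γ u ∈ W.subgroupOf E := by
    intro γ u hu hγ
    show ((γ u : E) : ↥S) ∈ W
    rw [← ev_apply γ u.2]
    exact hinv γ hγ u hu
  have hinv' : ∀ i ≤ 2, ∀ γ ∈ aut F E, ∀ u ∈ f i, γ u ∈ f i := by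
    intro i hi γ hγ u hu
    interval_cases i
    · exact frattini_le_comap_frattini_of_surjective (φ := γ.toMonoidHom) γ.surjective hu
    · exact hfin γ u hu hγ
    · exact mem_top _
  set M := SmallEss.chainStab (aut F E) f 2 hinv'
  have hEp : IsPGroup p ↥E := hc.hS.to_subgroup E
  have : Finite (MulAut ↥E) :=
    Finite.of_injective (fun b : MulAut ↥E => (b : E → E)) DFunLike.coe_injective
  have hMp : IsPGroup p M := by
    rintro ⟨γ, hγ⟩
    obtain ⟨k, m, hm, hk⟩ := Nat.exists_eq_pow_mul_and_not_dvd (orderOf_pos γ).ne' p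
      (Fact.out : p.Prime).ne_one
    refine ⟨k, Subtype.ext ?_⟩
    show γ ^ p ^ k = 1
    set δ := γ ^ p ^ k with hδ
    have hδm : δ ^ m = 1 := by rw [hδ, ← pow_mul, ← hk, pow_orderOf_eq_one]
    have hδM : δ ∈ M := pow_mem hγ _
    refine Cfsg.Agent.PGroup.MetacyclicTwo.aut_trivial_of_frattini (p := p) hEp
      ((Nat.Coprime.coprime_dvd_left (orderOf_dvd_of_pow_eq_one hδm))
        (((Fact.out : p.Prime).coprime_iff_not_dvd.2 hm).symm)) fun u => ?_
    let δ' : MulAut (↥E ⧸ frattini ↥E) := QuotientGroup.congr _ _ δ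
      ((Subgroup.characteristic_iff_map_eq.1 inferInstance) δ)
    obtain ⟨r, hr⟩ := IsPGroup.iff_card.1 (hEp.to_quotient (frattini ↥E))
    have hδ'mk : ∀ u : ↥E, δ' (QuotientGroup.mk u) = QuotientGroup.mk (δ u) := fun u => rfl
    have hδ'pow : ∀ (j : ℕ) (u : ↥E), (δ' ^ j) (QuotientGroup.mk u) = QuotientGroup.mk ((δ ^ j) u) := by
      intro j
      induction j with
      | zero => exact fun u => rfl
      | succ j ih => intro u; rw [pow_succ, pow_succ, MulAut.mul_apply, hδ'mk, ih, MulAut.mul_apply]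
    have h := SmallEss.eq_one_of_coprime (α := δ')
      (f := fun i => (f i).map (QuotientGroup.mk' (frattini ↥E))) (n := 2) (m := m)
      (QuotientGroup.map_mk'_self _) (Subgroup.map_top_of_surjective _ (QuotientGroup.mk'_surjective _))
      (MulEquiv.ext fun q => by
        obtain ⟨u, rfl⟩ := QuotientGroup.mk_surjective q
        rw [hδ'pow, hδm, MulAut.one_apply, MulAut.one_apply])
      (by rw [hr]
          exact (Nat.coprime_comm.mp ((Fact.out : p.Prime).coprime_iff_not_dvd.mpr hm)).pow_right r)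
      (by
        rintro i hi _ ⟨u, hu, rfl⟩
        exact ⟨u⁻¹ * δ u, hδM.2 i hi u hu, rfl⟩)
    refine (QuotientGroup.eq_one_iff _).1 ?_
    rw [QuotientGroup.mk_mul, QuotientGroup.mk_inv, inv_mul_eq_one, ← hδ'mk, h, MulAut.one_apply]
  have hβM : β ∈ M := by
    refine ⟨hβ, fun i hi u hu => ?_⟩
    interval_cases i
    · refine (mem_map_iff_mem E.subtype_injective).1 ?_
      show (u : ↥S)⁻¹ * (β u : E) ∈ phi E
      rw [← ev_apply β u.2]
      exact h1 u hu
    · show (u : ↥S)⁻¹ * (β u : E) ∈ W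
      rw [← ev_apply β u.2]
      exact h2 u u.2
  obtain ⟨e, he, hev⟩ := hc.inner_of_normal (fun γ hγ => (SmallEss.mem_chainStab.1 hγ).1)
    (fun γ hγ a ha => SmallEss.chainStab_conj hinv' ha hγ) hMp hβM
  rw [hev v hv, show v⁻¹ * (e * v * e⁻¹) = ⁅v⁻¹, e⁆ by simp only [commutatorElement_def]; group]
  exact comm_mem_phi hc.hS (inv_mem hv) he

/-- An automiser trivial on `E/Φ(E)` is inner. -/
theorem inner_of_trivial (hc : Ess p F E) {β : MulAut ↥E} (hβ : β ∈ aut F E)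
    (h : ∀ v ∈ E, v⁻¹ * ev β v ∈ phi E) : ∃ e ∈ E, ∀ v ∈ E, ev β v = e * v * e⁻¹ := by
  let f : ℕ → Subgroup ↥E := fun i => match i with | 0 => frattini ↥E | _ => ⊤
  have hinv' : ∀ i ≤ 1, ∀ γ ∈ aut F E, ∀ u ∈ f i, γ u ∈ f i := by
    intro i hi γ hγ u hu
    interval_cases i
    · exact frattini_le_comap_frattini_of_surjective (φ := γ.toMonoidHom) γ.surjective hu
    · exact mem_top _
  set M := SmallEss.chainStab (aut F E) f 1 hinv'
  have hEp : IsPGroup p ↥E := hc.hS.to_subgroup E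
  have : Finite (MulAut ↥E) :=
    Finite.of_injective (fun b : MulAut ↥E => (b : E → E)) DFunLike.coe_injective
  have hMp : IsPGroup p M := by
    rintro ⟨γ, hγ⟩
    obtain ⟨k, m, hm, hk⟩ := Nat.exists_eq_pow_mul_and_not_dvd (orderOf_pos γ).ne' p
      (Fact.out : p.Prime).ne_one
    refine ⟨k, Subtype.ext ?_⟩
    show γ ^ p ^ k = 1
    have hδm : (γ ^ p ^ k) ^ m = 1 := by rw [← pow_mul, ← hk, pow_orderOf_eq_one]
    exact Cfsg.Agent.PGroup.MetacyclicTwo.aut_trivial_of_frattini (p := p) hEp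
      ((Nat.Coprime.coprime_dvd_left (orderOf_dvd_of_pow_eq_one hδm))
        (((Fact.out : p.Prime).coprime_iff_not_dvd.2 hm).symm))
      fun u => (pow_mem hγ (p ^ k) : γ ^ p ^ k ∈ M).2 0 Nat.one_pos u (mem_top u)
  refine hc.inner_of_normal (fun γ hγ => (SmallEss.mem_chainStab.1 hγ).1)
    (fun γ hγ a ha => SmallEss.chainStab_conj hinv' ha hγ) hMp ⟨hβ, fun i hi u hu => ?_⟩
  interval_cases i
  refine (mem_map_iff_mem E.subtype_injective).1 ?_
  show (u : ↥S)⁻¹ * (β u : E) ∈ phi E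
  rw [← ev_apply β u.2]
  exact h u u.2

end Ess

namespace Ctx

theorem toEss (hc : Ctx p F E) : Ess p F E := ⟨hc.hS, hc.hF, hc.ess⟩

theorem cnj_mem (hc : Ctx p F E) {g : ↥S} (hg : g ∈ normalizer (E : Set ↥S)) :
    cnj E hg ∈ aut F E := hc.toEss.cnj_mem hg

theorem centralizer_le (hc : Ctx p F E) : centralizer (E : Set ↥S) ≤ E := hc.toEss.centralizer_le

theorem inner_of_normal (hc : Ctx p F E) {M : Subgroup (MulAut ↥E)} (hM : M ≤ aut F E)
    (hn : ∀ β ∈ M, ∀ a ∈ aut F E, a * β * a⁻¹ ∈ M) (hp : IsPGroup p M) {β : MulAut ↥E}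
    (hβ : β ∈ M) : ∃ e ∈ E, ∀ v ∈ E, ev β v = e * v * e⁻¹ := hc.toEss.inner_of_normal hM hn hp hβ

theorem ne_top (hc : Ctx p F E) : E ≠ ⊤ := hc.toEss.ne_top

theorem lt_normalizer (hc : Ctx p F E) : E < normalizer (E : Set ↥S) := hc.toEss.lt_normalizer

theorem trivial_of_layers (hc : Ctx p F E) {W : Subgroup ↥S} (hW : phi E ≤ W) (hWE : W ≤ E)
    (hinv : ∀ β ∈ aut F E, ∀ v ∈ W, ev β v ∈ W) {β : MulAut ↥E} (hβ : β ∈ aut F E)
    (h1 : ∀ v ∈ W, v⁻¹ * ev β v ∈ phi E) (h2 : ∀ v ∈ E, v⁻¹ * ev β v ∈ W) {v : ↥S} (hv : v ∈ E) :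
    v⁻¹ * ev β v ∈ phi E := hc.toEss.trivial_of_layers hW hWE hinv hβ h1 h2 hv

theorem inner_of_trivial (hc : Ctx p F E) {β : MulAut ↥E} (hβ : β ∈ aut F E)
    (h : ∀ v ∈ E, v⁻¹ * ev β v ∈ phi E) : ∃ e ∈ E, ∀ v ∈ E, ev β v = e * v * e⁻¹ :=
  hc.toEss.inner_of_trivial hβ h

end Ctx

/-! ### The action on the Frattini quotient -/

/-- The quotient `E/Φ(E)`. -/
abbrev Vq (E : Subgroup ↥S) : Type _ := ↥E ⧸ (phi E).subgroupOf E

omit [Finite S] in
theorem phi_subgroupOf : (phi E).subgroupOf E = frattini ↥E :=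
  comap_map_eq_self_of_injective E.subtype_injective _

instance normal_phi_subgroupOf : ((phi E).subgroupOf E).Normal := by
  rw [phi_subgroupOf]; infer_instance

/-- The automiser acting on `E/Φ(E)`. -/
noncomputable def qE (F : FusionSystem S) (E : Subgroup ↥S) : aut F E →* MulAut (Vq E) :=
  sectHom le_rfl (aut F E) (fun _ _ _ hv => ev_mem _ hv) (fun β _ _ hv => ev_mem_phi β hv)

theorem qE_mk (β : aut F E) {v : ↥S} (hv : v ∈ E) :
    qE F E β (QuotientGroup.mk ⟨v, hv⟩) = QuotientGroup.mk ⟨ev (β : MulAut ↥E) v, ev_mem _ hv⟩ :=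
  rfl

theorem qE_eq_one_iff {β : aut F E} :
    qE F E β = 1 ↔ ∀ v ∈ E, v⁻¹ * ev (β : MulAut ↥E) v ∈ phi E := by
  constructor
  · intro h v hv
    have h1 : (QuotientGroup.mk ⟨v, hv⟩ : Vq E) = QuotientGroup.mk ⟨_, ev_mem (β : MulAut ↥E) hv⟩ := by
      rw [← qE_mk β hv, h, MulAut.one_apply]
    exact (QuotientGroup.eq (s := (phi E).subgroupOf E)).1 h1
  · intro h
    refine MulEquiv.ext fun q => ?_
    obtain ⟨⟨v, hv⟩, rfl⟩ := QuotientGroup.mk_surjective q
    rw [qE_mk β hv, MulAut.one_apply]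
    exact ((QuotientGroup.eq (s := (phi E).subgroupOf E) (a := ⟨v, hv⟩)
      (b := ⟨_, ev_mem (β : MulAut ↥E) hv⟩)).2 (h v hv)).symm

namespace Ctx

theorem vq_comm (hc : Ctx p F E) (u v : Vq E) : u * v = v * u := by
  obtain ⟨u, rfl⟩ := QuotientGroup.mk_surjective u
  obtain ⟨v, rfl⟩ := QuotientGroup.mk_surjective v
  refine commutatorElement_eq_one_iff_mul_comm.1 ?_
  rw [← QuotientGroup.mk'_apply, ← QuotientGroup.mk'_apply, ← map_commutatorElement]
  exact (QuotientGroup.eq_one_iff _).2 (comm_mem_phi hc.hS u.2 v.2)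

theorem vq_pow (hc : Ctx p F E) (v : Vq E) : v ^ p = 1 := by
  obtain ⟨v, rfl⟩ := QuotientGroup.mk_surjective v
  exact (QuotientGroup.eq_one_iff (v ^ p)).2 (pow_mem_phi hc.hS v.2)

theorem vq_card (hc : Ctx p F E) : Nat.card (Vq E) = p ^ 3 := by
  have h := ((phi E).subgroupOf E).card_mul_index
  rw [Nat.card_congr (subgroupOfEquivOfLe (phi_le E)).toEquiv, hc.idx, mul_comm (p ^ 3)] at h
  rw [← index_eq_card]
  exact Nat.eq_of_mul_eq_mul_left Nat.card_pos h

/-- The normaliser acting on `E/Φ(E)`. -/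
noncomputable def qN (hc : Ctx p F E) : ↥(normalizer (E : Set ↥S)) →* MulAut (Vq E) :=
  (qE F E).comp
    { toFun := fun g => ⟨cnj E g.2, hc.cnj_mem g.2⟩
      map_one' := Subtype.ext (map_one (normalizerMonoidHom E))
      map_mul' := fun g h => Subtype.ext (map_mul (normalizerMonoidHom E) g h) }

theorem qN_ker (hc : Ctx p F E) {g : ↥(normalizer (E : Set ↥S))} (h : hc.qN g = 1) :
    (g : ↥S) ∈ E := by
  have h1 := qE_eq_one_iff.1 h
  obtain ⟨e, he, hev⟩ := hc.inner_of_trivial (hc.cnj_mem g.2) h1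
  have hcen : e⁻¹ * (g : ↥S) ∈ centralizer (E : Set ↥S) := mem_centralizer_iff.2 fun v hv => by
    have h2 := hev v hv
    rw [ev_cnj g.2 hv] at h2
    calc v * (e⁻¹ * g) = e⁻¹ * (e * v * e⁻¹) * g := by group
      _ = e⁻¹ * g * v := by rw [← h2]; group
  have := mul_mem he (hc.centralizer_le hcen)
  rwa [mul_inv_cancel_left] at this

/-- `|N_S(E)| = p |E|`. -/
theorem card_normalizer (hc : Ctx p F E) :
    Nat.card ↥(normalizer (E : Set ↥S)) = p * Nat.card E := by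
  classical
  have hp := (Fact.out : p.Prime)
  refine le_antisymm ?_ (PGroup.mul_card_le_card hc.hS hc.lt_normalizer)
  set N := normalizer (E : Set ↥S)
  have hnE : Nm E N := Nm.of_le_normalizer le_rfl
  have hnΦ : Nm (phi E) N := nm_phi hc.hS hnE
  -- a chief series through `Φ(E)`
  obtain ⟨k, hk⟩ := PGroup.card_eq_pow hc.hS (phi E)
  have := hnΦ.normal_subgroupOf
  have := hnE.normal_subgroupOf
  have hNp : IsPGroup p N := hc.hS.to_subgroup N
  have hcΦ : Nat.card ((phi E).subgroupOf N) = p ^ k := by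
    rw [Nat.card_congr (subgroupOfEquivOfLe ((phi_le E).trans le_normalizer)).toEquiv, hk]
  have hcE : Nat.card (E.subgroupOf N) = p ^ (k + 3) := by
    rw [Nat.card_congr (subgroupOfEquivOfLe le_normalizer).toEquiv, hc.idx, hk]; ring
  obtain ⟨W', hW'n, hΦW', hW'E, hW'c⟩ := PGroup.exists_normal_card_between hNp
    ((phi E).subgroupOf N) (E.subgroupOf N) (comap_mono (phi_le E)) (k + 2)
    (hcΦ ▸ Nat.pow_le_pow_right hp.pos (by omega)) (hcE ▸ Nat.pow_le_pow_right hp.pos (by omega))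
  obtain ⟨Z', hZ'n, hΦZ', hZ'W, hZ'c⟩ := PGroup.exists_normal_card_between hNp
    ((phi E).subgroupOf N) W' hΦW' (k + 1)
    (hcΦ ▸ Nat.pow_le_pow_right hp.pos (by omega)) (hW'c ▸ Nat.pow_le_pow_right hp.pos (by omega))
  set W := W'.map N.subtype with hWdef
  set Z := Z'.map N.subtype with hZdef
  have hnW : Nm W N := by
    rintro g hg _ ⟨w, hw, rfl⟩
    exact ⟨⟨g, hg⟩ * w * ⟨g, hg⟩⁻¹, hW'n.conj_mem w hw _, rfl⟩
  have hnZ : Nm Z N := by
    rintro g hg _ ⟨w, hw, rfl⟩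
    exact ⟨⟨g, hg⟩ * w * ⟨g, hg⟩⁻¹, hZ'n.conj_mem w hw _, rfl⟩
  have hZW : Z ≤ W := map_mono hZ'W
  have hΦZ : phi E ≤ Z := fun v hv =>
    ⟨⟨v, le_normalizer (phi_le E hv)⟩, hΦZ' hv, rfl⟩
  have hWE : W ≤ E := by
    rintro _ ⟨w, hw, rfl⟩
    exact hW'E hw
  have hcZ : Nat.card Z = p ^ (k + 1) := by
    rw [hZdef, card_map_of_injective N.subtype_injective, hZ'c]
  have hcW : Nat.card W = p ^ (k + 2) := by
    rw [hWdef, card_map_of_injective N.subtype_injective, hW'c]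
  have hZcen : Com (phi E) Z N := com_of_card_le hc.hS ((hZW.trans hWE).trans le_normalizer) hnΦ hnZ
    hΦZ (by rw [hcZ, hk, pow_succ'])
  obtain ⟨z₀, hz₀, hz₀Φ⟩ := SetLike.not_le_iff_exists.1 (fun h : Z ≤ phi E => by
    have := Subgroup.card_le_of_le h
    rw [hcZ, hk] at this
    exact absurd ((Nat.pow_le_pow_iff_right hp.one_lt).1 this) (by omega))
  have hz₀E := hWE (hZW hz₀)
  -- the outer automiser
  obtain ⟨-, hfn, hI, Y, -, hYne, P, hY⟩ := hc.ess
  set A := F.autGroup (up E)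
  set I := (Inn ↥(up E)).subgroupOf A
  set κ := MulAut.congr (upEquiv E)
  let toInt : A →* aut F E :=
    { toFun := fun a => ⟨κ.symm a, mem_aut_symm a.2⟩
      map_one' := Subtype.ext (map_one κ.symm)
      map_mul' := fun a b => Subtype.ext (map_mul κ.symm _ _) }
  have hker : I = ((qE F E).comp toInt).ker := by
    refine le_antisymm ?_ ?_
    · rintro a ⟨e, he⟩
      refine MonoidHom.mem_ker.2 (qE_eq_one_iff.2 fun v hv => ?_)
      have h1 : ev ((κ.symm a : MulAut ↥E)) v = ((upEquiv E).symm e : ↥S) * v *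
          ((upEquiv E).symm e : ↥S)⁻¹ := by
        rw [ev_apply _ hv, show (a : MulAut ↥(up E)) = MulAut.conj e from he.symm]
        rfl
      show v⁻¹ * ev ((κ.symm a : MulAut ↥E)) v ∈ phi E
      rw [h1, show v⁻¹ * ((((upEquiv E).symm e : E) : ↥S) * v * (((upEquiv E).symm e : E) : ↥S)⁻¹) =
        ⁅v⁻¹, (((upEquiv E).symm e : E) : ↥S)⁆ by simp only [commutatorElement_def]; group]
      exact comm_mem_phi hc.hS (inv_mem hv) ((upEquiv E).symm e).2
    · intro a ha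
      obtain ⟨e, he, hev⟩ := hc.inner_of_trivial (mem_aut_symm a.2) (qE_eq_one_iff.1 ha)
      refine ⟨upEquiv E ⟨e, he⟩, MulEquiv.ext fun u => Subtype.ext ?_⟩
      have h1 := congrArg Subtype.val (hev ((upEquiv E).symm u) ((upEquiv E).symm u).2)
      rw [ev_apply _ ((upEquiv E).symm u).2] at h1
      exact h1.symm
  let ι : (A ⧸ I) →* MulAut (Vq E) := QuotientGroup.lift I ((qE F E).comp toInt) hker.le
  have hι : Function.Injective ι := by
    rw [injective_iff_map_eq_one]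
    intro q hq
    obtain ⟨a, rfl⟩ := QuotientGroup.mk_surjective q
    exact (QuotientGroup.eq_one_iff a).2 (hker.ge hq)
  have := finite_autGroup (F := F) hfn.1
  obtain ⟨-, R, hR⟩ := isFullyAutomized_of_fullyNormalized hc.hS hc.hF hfn
  have hπ : Function.Surjective (QuotientGroup.mk' I) := QuotientGroup.mk'_surjective _
  obtain ⟨y, hy⟩ := MulAction.exists_smul_eq (↥A ⧸ I) (R.mapSurjective hπ) P
  have hrange : ∀ r ∈ (R.mapSurjective hπ : Sylow p (↥A ⧸ I)).toSubgroup,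
      ∃ g : N, ι r = hc.qN g := by
    intro r hr
    rw [Sylow.coe_mapSurjective] at hr
    obtain ⟨a, ha, rfl⟩ := hr
    rw [SetLike.mem_coe, hR, mem_subgroupOf, mem_autInducedBy_iff] at ha
    obtain ⟨g, hgS, hg⟩ := ha
    have hgN : (⟨g, hgS⟩ : ↥S) ∈ N := by
      have h : g ∈ normalizerIn S (up E) := ⟨hgS, mem_normalizer_of_aut hg⟩
      rw [normalizerIn_up] at h
      exact mk_mem h
    refine ⟨⟨_, hgN⟩, ?_⟩
    show qE F E (toInt a) = qE F E _
    congr 1
    refine Subtype.ext (MulEquiv.ext fun u => Subtype.ext (Subtype.ext ?_))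
    exact hg (upEquiv E u)
  let WV : Subgroup (Vq E) := (W.subgroupOf E).map (QuotientGroup.mk' _)
  let zV : Vq E := QuotientGroup.mk ⟨z₀, hz₀E⟩
  have hzfix : ∀ g : N, hc.qN g zV = zV := fun g => by
    show qE F E _ (QuotientGroup.mk _) = _
    rw [qE_mk]
    refine (QuotientGroup.eq.2 ?_).symm
    show z₀⁻¹ * ev (cnj E g.2) z₀ ∈ phi E
    rw [ev_cnj g.2 hz₀E, show z₀⁻¹ * ((g : ↥S) * z₀ * (g : ↥S)⁻¹) = ⁅z₀⁻¹, (g : ↥S)⁆ by
      simp only [commutatorElement_def]; group]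
    exact hZcen _ (inv_mem hz₀) g g.2
  have hWfix : ∀ g : N, ∀ w ∈ WV, hc.qN g w ∈ WV := by
    rintro g _ ⟨w, hw, rfl⟩
    refine ⟨⟨ev (cnj E g.2) w, ev_mem _ w.2⟩, ?_, rfl⟩
    show ev (cnj E g.2) w ∈ W
    rw [ev_cnj g.2 w.2]
    exact hnW g g.2 w hw
  have hWVc : Nat.card WV = p ^ 2 := by
    have hle : (phi E).subgroupOf E ≤ W.subgroupOf E := comap_mono (hΦZ.trans hZW)
    have h := relIndex_mul_relIndex ⊥ ((phi E).subgroupOf E) (W.subgroupOf E) bot_le hle
    rw [relIndex_bot_left, relIndex_bot_left,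
      Nat.card_congr (subgroupOfEquivOfLe (phi_le E)).toEquiv,
      Nat.card_congr (subgroupOfEquivOfLe hWE).toEquiv, hk, hcW, pow_add] at h
    have h2 : Nat.card WV = ((phi E).subgroupOf E).relIndex (W.subgroupOf E) := by
      rw [← relIndex_ker, QuotientGroup.ker_mk']
    exact h2.trans (Nat.eq_of_mul_eq_mul_left (pow_pos hp.pos k) h)
  have hsrc : ∀ q ∈ (P : Subgroup _), ∃ g : N, ι q = ι y * hc.qN g * (ι y)⁻¹ := by
    intro q hq
    rw [← hy, Sylow.coe_subgroup_smul] at hq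
    obtain ⟨q', hq', rfl⟩ := Subgroup.mem_smul_pointwise_iff_exists _ _ _ |>.1 hq
    obtain ⟨g, hg⟩ := hrange q' hq'
    exact ⟨g, by rw [MulAut.smul_def, MulAut.conj_apply, map_mul, map_mul, map_inv, hg]⟩
  have hP : Nat.card (P : Subgroup (↥A ⧸ I)) ≤ p :=
    TransvectionGroups.card_le_of_stronglyEmbedded ι hι hc.vq_comm hc.vq_pow hc.vq_card P hY hYne
      (W := WV.map (ι y).toMonoidHom)
      (by rw [card_map_of_injective (ι y).injective, hWVc]) (z := ι y zV)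
      ⟨zV, ⟨⟨z₀, hz₀E⟩, hZW hz₀, rfl⟩, rfl⟩
      (fun h => hz₀Φ ((QuotientGroup.eq_one_iff (N := (phi E).subgroupOf E) ⟨z₀, hz₀E⟩).1
        ((ι y).injective (h.trans (map_one (ι y)).symm))))
      (fun q hq => by
        obtain ⟨g, hg⟩ := hsrc q hq
        rw [hg, MulAut.mul_apply, MulAut.mul_apply, MulAut.inv_apply_self, hzfix])
      (fun q hq => by
        rintro _ ⟨w, hw, rfl⟩
        obtain ⟨g, hg⟩ := hsrc q hq
        refine ⟨hc.qN g w, hWfix g w hw, ?_⟩
        show ι y (hc.qN g w) = ι q (ι y w)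
        rw [hg, MulAut.mul_apply, MulAut.mul_apply, MulAut.inv_apply_self])
  -- the image of the normaliser
  have : Finite (MulAut (Vq E)) :=
    Finite.of_injective (fun b : MulAut (Vq E) => (b : Vq E → Vq E)) DFunLike.coe_injective
  have hle : hc.qN.range ≤ (R.mapSurjective hπ).toSubgroup.map ι := by
    rintro _ ⟨g, rfl⟩
    have hmem : (⟨κ (cnj E g.2), mem_aut.1 (hc.cnj_mem g.2)⟩ : A) ∈ (R : Subgroup A) := by
      rw [hR, mem_subgroupOf, mem_autInducedBy_iff]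
      refine ⟨((g : ↥S) : Ω), (g : ↥S).2, fun u => ?_⟩
      rfl
    refine ⟨QuotientGroup.mk' I (⟨κ (cnj E g.2), mem_aut.1 (hc.cnj_mem g.2)⟩ : A), ?_, ?_⟩
    · rw [SetLike.mem_coe, Sylow.coe_mapSurjective]
      exact ⟨_, hmem, rfl⟩
    · show qE F E (toInt _) = qE F E _
      congr 1
  have hrc : Nat.card hc.qN.range ≤ p := by
    refine (Subgroup.card_le_of_le hle).trans ?_
    rw [card_map_of_injective hι, (R.mapSurjective hπ).card_eq_multiplicity,
      ← P.card_eq_multiplicity]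
    exact hP
  have h := hc.qN.ker.card_mul_index
  rw [index_ker] at h
  rw [← h, mul_comm p]
  refine Nat.mul_le_mul ?_ hrc
  refine (Nat.card_le_card_of_injective (fun g : hc.qN.ker => (⟨((g : N) : ↥S),
    hc.qN_ker g.2⟩ : E)) ?_)
  intro g h hgh
  exact Subtype.ext (Subtype.ext (congrArg (fun e : E => (e : ↥S)) hgh))

theorem pos (hc : Ctx p F E) : Pos p E (normalizer (E : Set ↥S)) :=
  ⟨hc.hS, hc.rank, hc.hp5, le_normalizer, Nm.of_le_normalizer le_rfl, hc.card_normalizer, hc.idx⟩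

/-- Some conjugate of the action of the normaliser is not induced by the normaliser. -/
theorem exists_moved (hc : Ctx p F E) {x : ↥S} (hx : x ∈ normalizer (E : Set ↥S)) (hxE : x ∉ E) :
    ∃ β : aut F E, qE F E (β * ⟨cnj E hx, hc.cnj_mem hx⟩ * β⁻¹) ∉
      zpowers (hc.qN ⟨x, hx⟩) := by
  by_contra hcon
  push Not at hcon
  set X := hc.qN ⟨x, hx⟩ with hX
  let M := (zpowers X).comap (qE F E)
  have hker : IsPGroup p (qE F E).ker := by
    rintro ⟨β, hβ⟩
    obtain ⟨e, he, hev⟩ := hc.inner_of_trivial β.2 (qE_eq_one_iff.1 hβ)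
    obtain ⟨k, hk⟩ := (hc.hS.to_subgroup E) ⟨e, he⟩
    refine ⟨k, Subtype.ext (Subtype.ext ?_)⟩
    show (β : MulAut ↥E) ^ p ^ k = 1
    rw [show (β : MulAut ↥E) = MulAut.conj ⟨e, he⟩ from MulEquiv.ext fun v => Subtype.ext (by
      rw [← ev_apply _ v.2, hev v v.2]; rfl), ← map_pow, hk, map_one]
  have hMp : IsPGroup p M := by
    refine IsPGroup.comap_of_ker_isPGroup ?_ _ hker
    rintro ⟨γ, hγ⟩
    obtain ⟨k, hk⟩ := (hc.hS.to_subgroup _) (⟨x, hx⟩ : normalizer (E : Set ↥S))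
    obtain ⟨i, rfl⟩ := mem_zpowers_iff.1 hγ
    refine ⟨k, Subtype.ext ?_⟩
    show (X ^ i) ^ p ^ k = 1
    rw [← zpow_natCast, ← zpow_mul, mul_comm, zpow_mul, zpow_natCast, hX, ← map_pow, hk, map_one,
      one_zpow]
  have hxM : (⟨cnj E hx, hc.cnj_mem hx⟩ : aut F E) ∈ M := mem_zpowers X
  have hnorm : ∀ a γ : aut F E, γ ∈ M → a * γ * a⁻¹ ∈ M := by
    intro a γ hγ
    obtain ⟨i, hi⟩ := mem_zpowers_iff.1 hγ
    have h1 := zpow_mem (hcon a) i
    show qE F E (a * γ * a⁻¹) ∈ zpowers X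
    rw [map_mul, map_mul, map_inv] at h1 ⊢
    rw [conj_zpow] at h1
    rwa [← hi]
  have hn' : ∀ β ∈ M.map (aut F E).subtype, ∀ a ∈ aut F E, a * β * a⁻¹ ∈ M.map (aut F E).subtype := by
    rintro _ ⟨γ, hγ, rfl⟩ a ha
    exact mem_map_of_mem (aut F E).subtype (hnorm ⟨a, ha⟩ γ hγ)
  have hxM' : cnj E hx ∈ M.map (aut F E).subtype := mem_map_of_mem (aut F E).subtype hxM
  obtain ⟨e, he, hev⟩ := hc.inner_of_normal (map_subtype_le M) hn' (hMp.map (aut F E).subtype) hxM' 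
  refine hxE (hc.qN_ker (g := ⟨x, hx⟩) (qE_eq_one_iff.2 fun v hv => ?_))
  show v⁻¹ * ev (cnj E hx) v ∈ phi E
  rw [show ev (cnj E hx) v = e * v * e⁻¹ from hev v hv,
    show v⁻¹ * (e * v * e⁻¹) = ⁅v⁻¹, e⁆ by simp only [commutatorElement_def]; group]
  exact comm_mem_phi hc.hS (inv_mem hv) he

end Ctx

end Cfsg.Agent.RankThreeNormal
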