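import Cfsg.Agent.Lib.RankThreeNormal.Basic

/-!
A conjugate configuration in which the normaliser acts on `E/Φ(E)` with a single Jordan block is
impossible: the power and commutator maps give two relations between the same exponents which differ
by a sign.
-/

set_option autoImplicit false

namespace Cfsg.Agent.RankThreeNormal

open Subgroup Cfsg.Agent
open Cfsg.Agent.Fusion.MaxClassRankThree (ev ev_apply ev_mem ev_mul ev_inv ev_comm ev_pow ev_zpow
  comm_zpow_right)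
open scoped commutatorElement

/-! ### Calculations -/

section Calc

variable {Q : Type*} [Group Q] {a b c d w x : Q}

theorem mul_pow_comm (hba : b * a = a * b * w) (hwa : Commute w a) (hwb : Commute w b) (n : ℕ) :
    (a * b) ^ n = a ^ n * b ^ n * w ^ n.choose 2 := by
  have key : ∀ m : ℕ, b ^ m * a = a * b ^ m * w ^ m := by
    intro m
    induction m with
    | zero => simp
    | succ m ih =>
      calc b ^ (m + 1) * a = b ^ m * (b * a) := by rw [pow_succ, mul_assoc]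
        _ = b ^ m * a * (b * w) := by rw [hba]; group
        _ = a * b ^ m * (w ^ m * b) * w := by rw [ih]; group
        _ = a * b ^ m * (b * w ^ m) * w := by rw [(hwb.pow_left m).eq]
        _ = a * b ^ (m + 1) * w ^ (m + 1) := by rw [pow_succ b, pow_succ w]; group
  induction n with
  | zero => simp
  | succ n ih =>
    rw [show (n + 1).choose 2 = n.choose 2 + n by
      rw [Nat.choose_succ_succ', Nat.choose_one_right, add_comm], pow_succ, ih]
    have hcomm : Commute (w ^ n.choose 2) a := hwa.pow_left _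
    calc a ^ n * b ^ n * w ^ n.choose 2 * (a * b)
        = a ^ n * (b ^ n * (w ^ n.choose 2 * a)) * b := by group
      _ = a ^ n * (b ^ n * a) * w ^ n.choose 2 * b := by rw [hcomm.eq]; group
      _ = a ^ n * a * b ^ n * (w ^ n * w ^ n.choose 2 * b) := by rw [key n]; group
      _ = a ^ n * a * b ^ n * (b * (w ^ n * w ^ n.choose 2)) := by
        rw [((hwb.pow_left n).mul_left (hwb.pow_left _)).eq]
      _ = a ^ (n + 1) * b ^ (n + 1) * w ^ (n.choose 2 + n) := by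
        rw [pow_succ, pow_succ, ← pow_add, add_comm n]; group

theorem conj_pow_eq (u v : Q) (m : ℕ) : u * v ^ m * u⁻¹ = (u * v * u⁻¹) ^ m := by
  rw [conj_pow]

/-- Powers of `a * x` when `x` acts on `a` by `a ↦ a b`, `b ↦ b c`. -/
theorem shift_pow (hxa : x * a * x⁻¹ = a * b) (hxb : x * b * x⁻¹ = b * c)
    (hxc : x * c * x⁻¹ = c) (hxw : x * w * x⁻¹ = w) (hba : b * a = a * b * w) (hwa : Commute w a)
    (hwb : Commute w b) (hwc : Commute w c) (hcb : Commute c b) (n : ℕ) :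
    (a * x) ^ n = a ^ n * b ^ n.choose 2 * c ^ n.choose 3 * w ^ n.choose 3 * x ^ n := by
  induction n with
  | zero => simp
  | succ n ih =>
    rw [show (n + 1).choose 3 = n.choose 2 + n.choose 3 from Nat.choose_succ_succ' n 2,
      show (n + 1).choose 2 = n + n.choose 2 by rw [Nat.choose_succ_succ', Nat.choose_one_right],
      pow_succ', ih]
    set B := n.choose 2
    set C := n.choose 3
    have e : a * x * (a ^ n * b ^ B * c ^ C * w ^ C * x ^ n) =
        a * ((x * a * x⁻¹) ^ n * (x * b * x⁻¹) ^ B * (x * c * x⁻¹) ^ C * (x * w * x⁻¹) ^ C) *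
          x ^ (n + 1) := by
      rw [conj_pow, conj_pow, conj_pow, conj_pow, pow_succ']
      group
    rw [e, hxa, hxb, hxc, hxw, mul_pow_comm hba hwa hwb, hcb.symm.mul_pow]
    have h1 : Commute (w ^ B) (b ^ B * c ^ B) :=
      ((hwb.pow_pow _ _).mul_right (hwc.pow_pow _ _))
    have h2 : Commute (w ^ B) (c ^ C) := hwc.pow_pow _ _
    calc a * (a ^ n * b ^ n * w ^ B * (b ^ B * c ^ B) * c ^ C * w ^ C) * x ^ (n + 1)
        = a * a ^ n * b ^ n * (w ^ B * (b ^ B * c ^ B)) * c ^ C * w ^ C * x ^ (n + 1) := by group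
      _ = a * a ^ n * b ^ n * (b ^ B * c ^ B) * (w ^ B * c ^ C) * w ^ C * x ^ (n + 1) := by
        rw [h1.eq]; group
      _ = a * a ^ n * b ^ n * (b ^ B * c ^ B) * (c ^ C * w ^ B) * w ^ C * x ^ (n + 1) := by
        rw [h2.eq]
      _ = _ := by rw [pow_succ' a, pow_add b, pow_add c, pow_add w]; group

/-- Iterated conjugates of `a`. -/
theorem shift_conj (hxa : x * a * x⁻¹ = a * b) (hxb : x * b * x⁻¹ = b * c)
    (hxc : x * c * x⁻¹ = c * d) (hxd : x * d * x⁻¹ = d) (hxw : x * w * x⁻¹ = w)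
    (hcb : c * b = b * c * w) (hdb : Commute d b) (hdc : Commute d c) (hdw : Commute d w)
    (hwb : Commute w b) (hwc : Commute w c) (n : ℕ) :
    x ^ n * a * (x ^ n)⁻¹ = a * b ^ n * c ^ n.choose 2 * (d * w) ^ n.choose 3 := by
  induction n with
  | zero => simp
  | succ n ih =>
    rw [show (n + 1).choose 3 = n.choose 2 + n.choose 3 from Nat.choose_succ_succ' n 2,
      show (n + 1).choose 2 = n + n.choose 2 by rw [Nat.choose_succ_succ', Nat.choose_one_right],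
      show x ^ (n + 1) * a * (x ^ (n + 1))⁻¹ = x * (x ^ n * a * (x ^ n)⁻¹) * x⁻¹ by
        rw [pow_succ']; group, ih]
    set B := n.choose 2
    set C := n.choose 3
    have e : x * (a * b ^ n * c ^ B * (d * w) ^ C) * x⁻¹ =
        (x * a * x⁻¹) * (x * b * x⁻¹) ^ n * (x * c * x⁻¹) ^ B *
          ((x * d * x⁻¹) * (x * w * x⁻¹)) ^ C := by
      rw [conj_pow, conj_pow, show x * d * x⁻¹ * (x * w * x⁻¹) = x * (d * w) * x⁻¹ by group,
        conj_pow]
      group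
    rw [e, hxa, hxb, hxc, hxd, hxw, mul_pow_comm hcb hwb hwc, hdc.symm.mul_pow,
      pow_add (d * w), hdw.mul_pow B, pow_add c, pow_add b]
    have h1 : Commute (w ^ B) (c ^ B * d ^ B) :=
      ((hwc.pow_pow _ _).mul_right (hdw.symm.pow_pow _ _))
    calc a * b * (b ^ n * c ^ n * w ^ B) * (c ^ B * d ^ B) * (d * w) ^ C
        = a * b * b ^ n * c ^ n * (w ^ B * (c ^ B * d ^ B)) * (d * w) ^ C := by group
      _ = a * b * b ^ n * c ^ n * ((c ^ B * d ^ B) * w ^ B) * (d * w) ^ C := by rw [h1.eq]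
      _ = _ := by rw [pow_succ' b]; group

end Calc

variable {G : Type*} [Group G] [Finite G] {p : ℕ} [Fact p.Prime]

omit [Finite G] in
theorem dvd_of_zpow_eq_one {Q : Type*} [Group Q] {q : Q} (hq : q ^ p = 1) (hq1 : q ≠ 1) {i : ℤ}
    (h : q ^ i = 1) : (p : ℤ) ∣ i := by
  have := orderOf_dvd_iff_zpow_eq_one.2 h
  rwa [orderOf_eq_prime hq hq1] at this

omit [Finite G] in
theorem pow_choose_eq_one (hp5 : 5 ≤ p) {Q : Type*} [Group Q] {q : Q} (hq : q ^ p = 1) {k : ℕ}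
    (hk0 : k ≠ 0) (hk : k < 5) : q ^ p.choose k = 1 := by
  obtain ⟨m, hm⟩ := (Fact.out : p.Prime).dvd_choose_self hk0 (hk.trans_le hp5)
  rw [hm, pow_mul, hq, one_pow]

/-- Subgroups between `Φ(E)` and `E` invariant under all automorphisms are trivial. -/
def CharIrr (E : Subgroup G) : Prop :=
  ∀ W : Subgroup G, phi E ≤ W → W ≤ E → (∀ β : MulAut ↥E, ∀ v ∈ W, ev β v ∈ W) →
    W = phi E ∨ W = E

/-- The first layer `Φ(E)[E, N]`. -/
def layer1 (E N : Subgroup G) : Subgroup G := phi E ⊔ ⁅E, N⁆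

/-- The second layer `Φ(E)[Φ(E)[E, N], N]`. -/
def layer2 (E N : Subgroup G) : Subgroup G := phi E ⊔ ⁅layer1 E N, N⁆

/-- The kernel `[Φ(E), E]Φ(Φ(E))`. -/
def phi2 (E : Subgroup G) : Subgroup G := ⁅phi E, E⁆ ⊔ phi (phi E)

namespace Pos

variable {E N : Subgroup G}

theorem commutator_le_self (h : Pos p E N) {H : Subgroup G} (hH : H ≤ N) (hn : Nm H N) :
    ⁅H, N⁆ ≤ H := commutator_le.2 fun u hu g hg => by
  have := mul_mem hu (hn g hg _ (inv_mem hu))
  have e : ⁅u, g⁆ = u * (g * u⁻¹ * g⁻¹) := by simp only [commutatorElement_def]; group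
  rw [e]
  exact this

theorem layer1_le (h : Pos p E N) : layer1 E N ≤ E :=
  sup_le (phi_le E) (h.commutator_le_self h.le h.nm)

theorem nm_layer1 (h : Pos p E N) : Nm (layer1 E N) N :=
  h.nmPhi.sup (h.nm.commutator (Nm.self N))

theorem layer2_le (h : Pos p E N) : layer2 E N ≤ layer1 E N :=
  sup_le_sup_left (commutator_mono h.layer1_le le_rfl) _

theorem nm_layer2 (h : Pos p E N) : Nm (layer2 E N) N :=
  h.nmPhi.sup (h.nm_layer1.commutator (Nm.self N))

theorem nm_phi2 (h : Pos p E N) : Nm (phi2 E) N :=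
  (h.nmPhi.commutator h.nm).sup (nm_phi h.hG h.nmPhi)

theorem phi2_le (h : Pos p E N) : phi2 E ≤ phi E :=
  sup_le (commutator_le.2 fun _ hu _ hv => comm_mem_phi h.hG (phi_le E hu) hv) (phi_le _)

theorem layers (h : Pos p E N) (hR2 : layer2 E N ≠ phi E) :
    Nat.card (layer2 E N) = p * Nat.card (phi E) ∧
      Nat.card (layer1 E N) = p ^ 2 * Nat.card (phi E) ∧
      Com (phi E) (layer2 E N) N := by
  have h1 : phi E < layer1 E N := lt_of_le_of_ne le_sup_left fun he => hR2 (by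
    rw [layer2, ← he, sup_eq_left.2 (h.commutator_le_self h.phiN h.nmPhi)])
  have hlt1 : layer1 E N < E := sup_commutator_lt h.hG h.le h.nmPhi h.nm
    (h1.trans_le h.layer1_le)
  have hlt2 : layer2 E N < layer1 E N :=
    sup_commutator_lt h.hG (h.layer1_le.trans h.le) h.nmPhi h.nm_layer1 h1
  have hlt3 := sup_commutator_lt h.hG (h.layer2_le.trans (h.layer1_le.trans h.le)) h.nmPhi
    h.nm_layer2 (lt_of_le_of_ne le_sup_left (Ne.symm hR2))
  set R3 := phi E ⊔ ⁅layer2 E N, N⁆ with hR3def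
  have c1 := PGroup.mul_card_le_card h.hG hlt1
  have c2 := PGroup.mul_card_le_card h.hG hlt2
  have c3 := PGroup.mul_card_le_card h.hG hlt3
  have c0 : Nat.card (phi E) ≤ Nat.card R3 := card_le_of_le le_sup_left
  rw [h.cardE] at c1
  have hp := (Fact.out : p.Prime).pos
  have c1' : Nat.card (layer1 E N) ≤ p ^ 2 * Nat.card (phi E) :=
    Nat.le_of_mul_le_mul_left (by rw [← mul_assoc, ← pow_succ']; exact c1) hp
  have c2' : Nat.card (layer2 E N) ≤ p * Nat.card (phi E) :=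
    Nat.le_of_mul_le_mul_left (c2.trans (c1'.trans (by rw [sq, mul_assoc]))) hp
  have c3' : Nat.card R3 ≤ Nat.card (phi E) := Nat.le_of_mul_le_mul_left (c3.trans c2') hp
  have e2 := le_antisymm c2' ((Nat.mul_le_mul_left p c0).trans c3)
  refine ⟨e2, le_antisymm c1' ?_, ?_⟩
  · rw [sq, mul_assoc, ← e2]
    exact c2
  · have he : phi E = R3 := eq_of_le_of_card_ge le_sup_left c3'
    intro u hu g hg
    rw [he]
    exact mem_sup_right (commutator_mem_commutator hu hg)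

end Pos

/-- A generator `a` of `E` modulo the first layer and `x` of `N` modulo `E`, for a single block. -/
structure Frame (p : ℕ) (E N : Subgroup G) (a x : G) : Prop where
  pos : Pos p E N
  ha : a ∈ E
  haT : a ∉ layer1 E N
  hx : x ∈ N
  hxE : x ∉ E
  block : layer2 E N ≠ phi E

namespace Frame

variable {E N : Subgroup G} {a x : G} (h : Frame p E N a x)
include h

theorem aN : a ∈ N := h.pos.le h.ha

theorem gen : E ⊔ zpowers x = N := h.pos.sup_zpowers h.hx h.hxE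

theorem sup_a : layer1 E N ⊔ zpowers a = E :=
  sup_eq_of_card_le h.pos.hG h.pos.layer1_le (by
    rw [h.pos.cardE, (h.pos.layers h.block).2.1, pow_succ', mul_assoc]) h.ha h.haT

/-- `b = a⁻¹ · x a x⁻¹`. -/
theorem bEq : ⁅a⁻¹, x⁆ = a⁻¹ * (x * a * x⁻¹) := by
  simp only [commutatorElement_def]; group

theorem b_mem : ⁅a⁻¹, x⁆ ∈ layer1 E N :=
  mem_sup_right (commutator_mem_commutator (inv_mem h.ha) h.hx)

theorem b_not : ⁅a⁻¹, x⁆ ∉ layer2 E N := by
  intro hb
  have hP := h.pos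
  have hn := hP.nm_layer2
  have h1 : Com (layer2 E N) (zpowers a⁻¹) (zpowers x) :=
    Com.zpowers_zpowers hn (inv_mem h.aN) h.hx hb
  rw [zpowers_inv] at h1
  have hTN : layer1 E N ≤ N := hP.layer1_le.trans hP.le
  have h2 : Com (layer2 E N) (layer1 E N) N :=
    fun u hu g hg => mem_sup_right (commutator_mem_commutator hu hg)
  have h3 : Com (layer2 E N) (zpowers x) E := by
    have := Com.sup_left hn hTN (zpowers_le.2 h.aN) (fun u hu g hg => h2 u hu g ((zpowers_le.2 h.hx) hg))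
      h1
    rw [h.sup_a] at this
    exact this.symm
  have h4 : Com (layer2 E N) E E := fun u hu v hv => mem_sup_left (comm_mem_phi hP.hG hu hv)
  have h5 := Com.sup_left hn hP.le (zpowers_le.2 h.hx) h4 h3
  rw [h.gen] at h5
  have hle : layer1 E N ≤ layer2 E N :=
    sup_le le_sup_left (commutator_le.2 fun u hu g hg => h5.symm u hu g hg)
  obtain ⟨hc2, hc1, -⟩ := hP.layers h.block
  have := card_le_of_le hle
  rw [hc1, hc2, sq, mul_assoc] at this
  have h6 := Nat.le_of_mul_le_mul_left (this.trans_eq (mul_one _).symm |>.trans_eq (mul_one _))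
    (Fact.out : p.Prime).pos
  nlinarith [(Fact.out : p.Prime).two_le, Nat.card_pos (α := phi E)]

theorem sup_b : layer2 E N ⊔ zpowers ⁅a⁻¹, x⁆ = layer1 E N :=
  sup_eq_of_card_le h.pos.hG h.pos.layer2_le (by
    rw [(h.pos.layers h.block).2.1, (h.pos.layers h.block).1, sq, mul_assoc]) h.b_mem h.b_not

theorem c_mem : ⁅⁅a⁻¹, x⁆⁻¹, x⁆ ∈ layer2 E N :=
  mem_sup_right (commutator_mem_commutator (inv_mem h.b_mem) h.hx)

theorem c_not : ⁅⁅a⁻¹, x⁆⁻¹, x⁆ ∉ phi E := by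
  intro hc
  have hP := h.pos
  set b := ⁅a⁻¹, x⁆
  have hbE : b ∈ E := hP.layer1_le h.b_mem
  have hn := hP.nmPhi
  have h1 : Com (phi E) (zpowers b⁻¹) (zpowers x) :=
    Com.zpowers_zpowers hn (inv_mem (hP.le hbE)) h.hx hc
  rw [zpowers_inv] at h1
  have h4 : Com (phi E) E (zpowers b) :=
    fun u hu v hv => comm_mem_phi hP.hG hu ((zpowers_le.2 hbE) hv)
  have h5 := Com.sup_left hn hP.le (zpowers_le.2 h.hx) h4 h1.symm
  rw [h.gen] at h5
  have h6 : Com (phi E) (layer1 E N) N := by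
    rw [← h.sup_b]
    exact Com.sup_left hn (hP.layer2_le.trans (hP.layer1_le.trans hP.le))
      (zpowers_le.2 (hP.le hbE)) (hP.layers h.block).2.2 h5.symm
  exact h.block (le_antisymm (sup_le le_rfl (commutator_le.2 h6)) le_sup_left)

theorem sup_c : phi E ⊔ zpowers ⁅⁅a⁻¹, x⁆⁻¹, x⁆ = layer2 E N :=
  sup_eq_of_card_le h.pos.hG le_sup_left (h.pos.layers h.block).1.le h.c_mem h.c_not

theorem gen1 : phi E ⊔ zpowers ⁅⁅a⁻¹, x⁆⁻¹, x⁆ ⊔ zpowers ⁅a⁻¹, x⁆ = layer1 E N := by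
  rw [h.sup_c, h.sup_b]

end Frame

/-! ### The contradiction -/

theorem false_of_block {E E₁ E₂ N : Subgroup G} (hP : Pos p E N) (hP₁ : Pos p E₁ N)
    (hP₂ : Pos p E₂ N) (h1 : E₁ ≠ E) (h2 : E₂ ≠ E) (h12 : E₂ ≠ E₁)
    (hR2 : layer2 E N ≠ phi E) (hirr : CharIrr E) : False := by
  have hp := (Fact.out : p.Prime)
  have hp5 := hP.hp5
  have hG := hP.hG
  obtain ⟨hcard2, hcard1, hR2Φ⟩ := hP.layers hR2
  set T := layer1 E N with hTdef
  have hTN : T ≤ N := hP.layer1_le.trans hP.le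
  have hT : ∀ E' : Subgroup G, Pos p E' N → E' ≠ E → T = E ⊓ E' := by
    intro E' hE' hne
    refine eq_of_le_of_card_ge (le_inf hP.layer1_le (sup_le (hE'.phi_le' hP.le)
      (commutator_le.2 fun u hu g hg => hE'.comm_mem (hP.le hu) hg))) ?_
    have := hP.card_inf hE' hne
    rw [hP.cardE] at this
    refine Nat.le_of_mul_le_mul_left ?_ hp.pos
    rw [this, hcard1, pow_succ', mul_assoc]
  -- generators
  obtain ⟨x₀, hx₀₁, hx₀E⟩ := hP.not_le hP₁ h1
  obtain ⟨y, hy₂, hyE⟩ := hP.not_le hP₂ h2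
  have hx₀N := hP₁.le hx₀₁
  obtain ⟨a, ha, i, hyeq⟩ := mem_sup_zpowers (hP.nm.le_normalizer hx₀N)
    (show y ∈ E ⊔ zpowers x₀ by rw [hP.sup_zpowers hx₀N hx₀E]; exact hP₂.le hy₂)
  set x := x₀ ^ i with hxdef
  have hx₁ : x ∈ E₁ := zpow_mem hx₀₁ i
  have hxN : x ∈ N := hP₁.le hx₁
  have hxE : x ∉ E := fun hx => hyE (hyeq ▸ mul_mem ha hx)
  have haT : a ∉ T := by
    intro haT
    have ha₁ : a ∈ E₁ := ((hT E₁ hP₁ h1).le haT).2
    have ha₂ : a ∈ E₂ := ((hT E₂ hP₂ h2).le haT).2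
    have hy₁ : y ∈ E₁ := hyeq ▸ mul_mem ha₁ hx₁
    have hne := hP₁.card_inf hP₂ h12
    have hle : T ≤ E₁ ⊓ E₂ := le_inf ((hT E₁ hP₁ h1).le.trans inf_le_right)
      ((hT E₂ hP₂ h2).le.trans inf_le_right)
    have heq : T = E₁ ⊓ E₂ := by
      refine eq_of_le_of_card_ge hle (Nat.le_of_mul_le_mul_left ?_ hp.pos)
      rw [hne, hP₁.cardE, hP.card_phi_eq hP₁, hcard1, pow_succ', mul_assoc]
    exact hyE (hP.layer1_le (heq.ge ⟨hy₁, hy₂⟩))
  have hF : Frame p E N a x := ⟨hP, ha, haT, hxN, hxE, hR2⟩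
  have hbT := hF.b_mem
  have hcR := hF.c_mem
  have hcΦ := hF.c_not
  have hgen := hF.gen1
  have hsupa := hF.sup_a
  set b := ⁅a⁻¹, x⁆ with hbdef
  set c := ⁅b⁻¹, x⁆ with hcdef
  set d := c⁻¹ * (x * c * x⁻¹) with hddef
  have hbe : x * a * x⁻¹ = a * b := by rw [hbdef, hF.bEq]; group
  have hce : x * b * x⁻¹ = b * c := by rw [hcdef]; simp only [commutatorElement_def]; group
  have haN := hF.aN
  have hcT : c ∈ T := hP.layer2_le hcR
  have hbN := hTN hbT
  have hcN := hTN hcT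
  have hbE := hP.layer1_le hbT
  have hcE := hP.layer1_le hcT
  have hb₁ : b ∈ E₁ := ((hT E₁ hP₁ h1).le hbT).2
  have hb₂ : b ∈ E₂ := ((hT E₂ hP₂ h2).le hbT).2
  have hc₁ : c ∈ phi E₁ := comm_mem_phi hG (inv_mem hb₁) hx₁
  -- the intersection of the Frattini subgroups
  set K := phi E ⊓ phi E₁ with hKdef
  have hΦK : Nat.card (phi E) ≤ p * Nat.card K := hP.card_inf_le hP₁ h1
  have hKlt : K < phi E := lt_of_le_of_ne inf_le_left fun he => hcΦ (by
    have := eq_of_le_of_card_ge (inf_eq_left.1 he) (hP.card_phi_eq hP₁).le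
    rw [this]; exact hc₁)
  have hcardΦ : Nat.card (phi E) = p * Nat.card K :=
    le_antisymm hΦK (PGroup.mul_card_le_card hG hKlt)
  have hT₂ : ∀ u ∈ T, u ∈ E ∧ u ∈ E₁ ∧ u ∈ E₂ := fun u hu =>
    ⟨hP.layer1_le hu, ((hT E₁ hP₁ h1).le hu).2, ((hT E₂ hP₂ h2).le hu).2⟩
  have hK₂ : K ≤ phi E₂ := by
    set K' := K ⊓ phi E₂
    have hK'T : K' ≤ T := fun v hv => mem_sup_left hv.1.1
    have hrk := hP.rank T K' hK'T
      (fun u hu v hv => ⟨⟨comm_mem_phi hG (hT₂ u hu).1 (hT₂ v hv).1,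
        comm_mem_phi hG (hT₂ u hu).2.1 (hT₂ v hv).2.1⟩, comm_mem_phi hG (hT₂ u hu).2.2 (hT₂ v hv).2.2⟩)
      (fun u hu => ⟨⟨pow_mem_phi hG (hT₂ u hu).1, pow_mem_phi hG (hT₂ u hu).2.1⟩,
        pow_mem_phi hG (hT₂ u hu).2.2⟩)
    rw [hcard1, hcardΦ] at hrk
    have he : K' = K := eq_of_le_of_card_ge inf_le_left (Nat.le_of_mul_le_mul_left
      (by rw [show p ^ 3 * Nat.card K = p ^ 2 * (p * Nat.card K) by ring]; exact hrk)
      (pow_pos hp.pos 3))
    exact fun v hv => (he.ge hv).2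
  have hnK : Nm K N := hP.nmPhi.inf hP₁.nmPhi
  have hKN : K ≤ N := inf_le_left.trans hP.phiN
  have hΦcen : Com K (phi E) N := com_of_card_le hG hP.phiN hnK hP.nmPhi inf_le_left hΦK
  have hΦ₁cen : Com K (phi E₁) N := com_of_card_le hG hP₁.phiN hnK hP₁.nmPhi inf_le_right
    (by rw [hP.card_phi_eq hP₁]; exact hΦK)
  have hTK : Com K T T := fun u hu v hv =>
    ⟨comm_mem_phi hG (hT₂ u hu).1 (hT₂ v hv).1, comm_mem_phi hG (hT₂ u hu).2.1 (hT₂ v hv).2.1⟩
  have hTKp : ∀ u ∈ T, u ^ p ∈ K := fun u hu =>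
    ⟨pow_mem_phi hG (hT₂ u hu).1, pow_mem_phi hG (hT₂ u hu).2.1⟩
  have hd : d ∈ K := by
    have e : d = ⁅c⁻¹, x⁆ := by simp only [hddef, commutatorElement_def]; group
    rw [e]
    exact hΦ₁cen _ (inv_mem hc₁) x hxN
  have hsupc : K ⊔ zpowers c = phi E₁ := sup_eq_of_card_le hG inf_le_right
    (by rw [hP.card_phi_eq hP₁]; exact hΦK) hc₁ (fun h => hcΦ h.1)
  -- `[Φ(E), E]Φ(Φ(E))`
  set P2 := phi2 E with hP2def
  have hnP2 : Nm P2 N := hP.nm_phi2
  have hP2K : P2 ≤ K := by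
    refine sup_le (commutator_le.2 fun u hu v hv => hΦcen u hu v (hP.le hv))
      (phi_le_of (p := p) (fun u hu v hv => hΦcen u hu v (hP.phiN hv)) fun u hu => ?_)
    exact hTKp u (mem_sup_left hu)
  have hP2cen : Com P2 (phi E) E := fun u hu v hv => mem_sup_left (commutator_mem_commutator hu hv)
  have hP2p : ∀ u ∈ phi E, u ^ p ∈ P2 := fun u hu => mem_sup_right (pow_mem_phi hG hu)
  have hP2inv : ∀ β : MulAut ↥E, ∀ v ∈ P2, ev β v ∈ P2 := by
    intro β
    let W : Subgroup G := (P2.comap (E.subtype.comp β.toMonoidHom)).map E.subtype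
    have hW : ∀ v ∈ E, ev β v ∈ P2 → v ∈ W := fun v hv hv' =>
      ⟨⟨v, hv⟩, by show ((β ⟨v, hv⟩ : E) : G) ∈ P2; rwa [← ev_apply β hv], rfl⟩
    have hle : P2 ≤ W := by
      refine sup_le (commutator_le.2 fun u hu v hv => hW _ (phi_le E (comm_mem_phi hG (phi_le E hu) hv)) ?_)
        (phi_le_of (p := p) (fun u hu v hv => hW _ (phi_le E (comm_mem_phi hG (phi_le E hu) (phi_le E hv))) ?_)
          fun u hu => hW _ (pow_mem (phi_le E hu) p) ?_)
      · rw [ev_comm β (phi_le E hu) hv]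
        exact hP2cen _ (ev_mem_phi β hu) _ (ev_mem β hv)
      · rw [ev_comm β (phi_le E hu) (phi_le E hv)]
        exact hP2cen _ (ev_mem_phi β hu) _ (ev_mem β (phi_le E hv))
      · rw [ev_apply β (pow_mem (phi_le E hu) p),
          show (⟨u ^ p, pow_mem (phi_le E hu) p⟩ : E) = ⟨u, phi_le E hu⟩ ^ p from rfl, map_pow,
          SubmonoidClass.coe_pow, ← ev_apply β (phi_le E hu)]
        exact hP2p _ (ev_mem_phi β hu)
    intro v hv
    obtain ⟨w, hw, rfl⟩ := hle hv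
    show ev β (w : G) ∈ P2
    rw [ev_apply β w.2]
    exact hw
  have hP2E : P2 ≤ E := hP.phi2_le.trans (phi_le E)
  -- the radical
  have hrad : ∀ u ∈ E, (∀ v ∈ E, ⁅u, v⁆ ∈ P2) → (∃ v ∈ E, v ^ p ∉ P2) ∨ u ∈ phi E := by
    intro u hu hcomm
    by_contra hcon
    push Not at hcon
    obtain ⟨hpow, huΦ⟩ := hcon
    have hn : Nm P2 E := hnP2.mono hP.le
    let R := cen P2 E E hn
    have hΦR : phi E ≤ R := fun v hv => ⟨phi_le E hv, hP2cen v hv⟩
    have hRinv : ∀ β : MulAut ↥E, ∀ v ∈ R, ev β v ∈ R := by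
      intro β v hv
      refine ⟨ev_mem β hv.1, fun w hw => ?_⟩
      obtain ⟨w', rfl⟩ : ∃ w' : E, ev β (w' : G) = w :=
        ⟨β.symm ⟨w, hw⟩, by rw [ev_apply β (β.symm ⟨w, hw⟩).2]; simp⟩
      rw [← ev_comm β hv.1 w'.2]
      exact hP2inv β _ (hv.2 w' w'.2)
    rcases hirr R hΦR (fun v hv => hv.1) hRinv with he | he
    · exact huΦ (he.le ⟨hu, hcomm⟩)
    · refine hKlt.not_ge ((phi_le_of (p := p) (fun v hv w hw => ?_) hpow).trans hP2K)
      exact (he.ge hv).2 w hw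
  -- the quotient modulo `P2`
  have hn2 := hnP2.normal_subgroupOf
  set f2 := QuotientGroup.mk' (P2.subgroupOf N) with hf2
  have hf2one : ∀ {v : G} (hv : v ∈ N), f2 ⟨v, hv⟩ = 1 ↔ v ∈ P2 := fun hv =>
    QuotientGroup.eq_one_iff _
  have hf2comm : ∀ {u v : G} (hu : u ∈ N) (hv : v ∈ N), ⁅u, v⁆ ∈ P2 →
      Commute (f2 ⟨u, hu⟩) (f2 ⟨v, hv⟩) := by
    intro u v hu hv huv
    refine commutatorElement_eq_one_iff_mul_comm.1 ?_
    rw [← map_commutatorElement]
    exact (hf2one _).2 huv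
  have hm : ∀ {u v : G}, (hu : u ∈ E) → (hv : v ∈ E) →
      f2 ((⟨u, hP.le hu⟩ * ⟨v, hP.le hv⟩) ^ p) =
        f2 (⟨u, hP.le hu⟩ ^ p) * f2 (⟨v, hP.le hv⟩ ^ p) := by
    intro u v hu hv
    set w := (u * v)⁻¹ * (v * u) with hw
    have hwΦ : w ∈ phi E := by
      have e : w = ⁅v⁻¹, u⁻¹⁆ := by simp only [hw, commutatorElement_def]; group
      rw [e]
      exact comm_mem_phi hG (inv_mem hv) (inv_mem hu)
    have hwN := hP.phiN hwΦ
    have hwp : f2 ⟨w, hwN⟩ ^ p = 1 := by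
      rw [← map_pow]
      exact (hf2one _).2 (hP2p w hwΦ)
    have heq : f2 ⟨v, hP.le hv⟩ * f2 ⟨u, hP.le hu⟩ =
        f2 ⟨u, hP.le hu⟩ * f2 ⟨v, hP.le hv⟩ * f2 ⟨w, hwN⟩ := by
      rw [← map_mul, ← map_mul, ← map_mul]
      exact congrArg f2 (Subtype.ext (show v * u = u * v * w by rw [hw]; group))
    rw [map_pow, map_mul, map_pow, map_pow,
      mul_pow_comm heq (hf2comm _ _ (hP2cen w hwΦ u hu)) (hf2comm _ _ (hP2cen w hwΦ v hv)),
      pow_choose_eq_one hp5 hwp two_ne_zero (by norm_num), mul_one]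
  have hpowadd : ∀ {u v : G}, u ∈ E → v ∈ E → u ^ p ∈ P2 → v ^ p ∈ P2 → (u * v) ^ p ∈ P2 := by
    intro u v hu hv hup hvp
    refine (hf2one (pow_mem (mul_mem (hP.le hu) (hP.le hv)) p)).1 ?_
    refine (hm hu hv).trans ?_
    rw [show f2 (⟨u, hP.le hu⟩ ^ p) = 1 from (hf2one _).2 hup,
      show f2 (⟨v, hP.le hv⟩ ^ p) = 1 from (hf2one _).2 hvp, mul_one]
  let Ker : Subgroup G :=
    { carrier := {u | u ∈ E ∧ u ^ p ∈ P2}
      one_mem' := ⟨one_mem _, by simp⟩
      mul_mem' := fun {u v} hu hv => ⟨mul_mem hu.1 hv.1, hpowadd hu.1 hv.1 hu.2 hv.2⟩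
      inv_mem' := fun {u} hu => ⟨inv_mem hu.1, by rw [inv_pow]; exact inv_mem hu.2⟩ }
  rcases hirr Ker (fun v hv => ⟨phi_le E hv, hP2p v hv⟩) (fun v hv => hv.1) (fun β v hv =>
      ⟨ev_mem β hv.1, by
        rw [ev_apply β hv.1, ← SubmonoidClass.coe_pow, ← map_pow, ← ev_apply β]
        exact hP2inv β _ hv.2⟩) with hker | hker
  · -- the power map is injective
    have hinj : ∀ u ∈ E, u ^ p ∈ P2 → u ∈ phi E := fun u hu h => hker.le ⟨hu, h⟩
    set C := c ^ p with hCdef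
    set P := P2 ⊔ zpowers C with hPdef
    have hCK : C ∈ K := hTKp c hcT
    have hPK : P ≤ K := sup_le hP2K (zpowers_le.2 hCK)
    have hnP : Nm P N := by
      refine Nm.of_map_le fun g hg => ?_
      rw [Subgroup.map_sup, MonoidHom.map_zpowers]
      refine sup_le ((hnP2.map_le hg).trans le_sup_left) (zpowers_le.2 ?_)
      show g * c ^ p * g⁻¹ ∈ P
      set k := ⁅c⁻¹, g⁆ with hk
      have hkΦ : k ∈ phi E := hR2Φ _ (inv_mem hcR) g hg
      have hkN := hP.phiN hkΦ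
      rw [conj_pow_eq, show g * c * g⁻¹ = c * k by rw [hk]; simp only [commutatorElement_def]; group]
      have h1 : f2 ⟨(c * k) ^ p, pow_mem (mul_mem hcN hkN) p⟩ = f2 ⟨C, pow_mem hcN p⟩ := by
        rw [show (⟨(c * k) ^ p, pow_mem (mul_mem hcN hkN) p⟩ : N) = (⟨c, hcN⟩ * ⟨k, hkN⟩) ^ p from rfl,
          map_pow, map_mul, ((hf2comm hkN hcN (hP2cen k hkΦ c hcE)).symm).mul_pow, ← map_pow,
          ← map_pow, show (⟨k, hkN⟩ : N) ^ p = ⟨k ^ p, pow_mem hkN p⟩ from rfl,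
          (hf2one _).2 (hP2p k hkΦ), mul_one]
        rfl
      have h2 : C⁻¹ * (c * k) ^ p ∈ P2 := (QuotientGroup.eq.1 h1.symm :)
      have := mul_mem (mem_sup_right (mem_zpowers C) : C ∈ P) (mem_sup_left h2 : C⁻¹ * (c * k) ^ p ∈ P)
      rwa [mul_inv_cancel_left] at this
    have hnP' := hnP.normal_subgroupOf
    -- independence
    have hcE' := hcE
    have hCP2 : C ∉ P2 := fun h => hcΦ (hinj c hcE h)
    have hBP : b ^ p ∉ P := by
      intro h
      obtain ⟨q, hq, i, hi⟩ := mem_sup_zpowers (hnP2.le_normalizer (pow_mem hcN p)) h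
      have hv : (b * (c ^ i)⁻¹) ^ p ∈ P2 := by
        have hci : (c ^ i)⁻¹ ∈ E := inv_mem (zpow_mem hcE i)
        have hciN := hP.le hci
        refine (hf2one (pow_mem (mul_mem hbN hciN) p)).1 ?_
        refine (hm hbE hci).trans ?_
        rw [← map_mul]
        refine (hf2one _).2 ?_
        show b ^ p * ((c ^ i)⁻¹) ^ p ∈ P2
        rw [hi, inv_pow, ← zpow_natCast (c ^ i) p, ← zpow_mul, mul_comm i, zpow_mul, zpow_natCast,
          mul_inv_cancel_right]
        exact hq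
      have h3 := hinj _ (mul_mem hbE (inv_mem (zpow_mem hcE i))) hv
      refine hF.b_not ?_
      have h4 := mul_mem (mem_sup_left h3 : b * (c ^ i)⁻¹ ∈ layer2 E N) (zpow_mem hcR i)
      rwa [inv_mul_cancel_right] at h4
    have hrk : Nat.card (phi E) ≤ p ^ 3 * Nat.card P2 :=
      hP.rank _ _ hP.phi2_le (fun u hu v hv => hP2cen u hu v (phi_le E hv)) hP2p
    have hKP : P ⊔ zpowers (b ^ p) = K := by
      refine eq_of_le_of_card_ge (sup_le hPK (zpowers_le.2 (hTKp b hbT))) ?_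
      rw [card_sup (p := p) (hnP.le_normalizer (pow_mem hbN p)) hBP
        (mem_sup_left (hP2p _ (pow_mem_phi hG hbE))), hPdef,
        card_sup (p := p) (hnP2.le_normalizer (pow_mem hcN p)) hCP2 (hP2p _ (pow_mem_phi hG hcE))]
      refine Nat.le_of_mul_le_mul_left ?_ hp.pos
      rw [← hcardΦ]
      exact hrk.trans_eq (by ring)
    have hAK : a ^ p ∉ K := by
      intro h
      rw [← hKP] at h
      obtain ⟨q, hq, i, hi⟩ := mem_sup_zpowers (hnP.le_normalizer (pow_mem hbN p)) h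
      obtain ⟨q', hq', j, hj⟩ := mem_sup_zpowers (hnP2.le_normalizer (pow_mem hcN p)) hq
      -- `a^p ≡ (c^j b^i)^p`
      have hu : c ^ j * b ^ i ∈ E := mul_mem (zpow_mem hcE j) (zpow_mem hbE i)
      have hv : (a * (c ^ j * b ^ i)⁻¹) ^ p ∈ P2 := by
        have huN := hP.le hu
        refine (hf2one (pow_mem (mul_mem haN (inv_mem huN)) p)).1 ?_
        refine (hm ha (inv_mem hu)).trans ?_
        rw [show (⟨(c ^ j * b ^ i)⁻¹, hP.le (inv_mem hu)⟩ : N) ^ p =
            ((⟨c ^ j, hP.le (zpow_mem hcE j)⟩ * ⟨b ^ i, hP.le (zpow_mem hbE i)⟩ : N) ^ p)⁻¹ from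
            Subtype.ext (inv_pow (c ^ j * b ^ i) p), map_inv, hm (zpow_mem hcE j) (zpow_mem hbE i),
          ← map_mul f2 ((⟨c ^ j, _⟩ : N) ^ p), ← map_inv, ← map_mul]
        refine (hf2one _).2 ?_
        show a ^ p * ((c ^ j) ^ p * (b ^ i) ^ p)⁻¹ ∈ P2
        rw [hi, hj, ← zpow_natCast (c ^ j) p, ← zpow_natCast (b ^ i) p, ← zpow_mul, ← zpow_mul,
          mul_comm j, mul_comm i, zpow_mul, zpow_mul, zpow_natCast, zpow_natCast]
        rw [show q' * (c ^ p) ^ j * (b ^ p) ^ i * ((c ^ p) ^ j * (b ^ p) ^ i)⁻¹ = q' by group]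
        exact hq'
      refine haT ?_
      have h3 := hinj _ (mul_mem ha (inv_mem hu)) hv
      have h4 := mul_mem (mem_sup_left h3 : a * (c ^ j * b ^ i)⁻¹ ∈ T)
        (mul_mem (zpow_mem hcT j) (zpow_mem hbT i))
      rwa [inv_mul_cancel_right] at h4
    -- the quotient modulo `K`
    have hnK' := hnK.normal_subgroupOf
    set g := QuotientGroup.mk' (K.subgroupOf N) with hg
    have hgone : ∀ {v : G} (hv : v ∈ N), g ⟨v, hv⟩ = 1 ↔ v ∈ K := fun hv =>
      QuotientGroup.eq_one_iff _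
    have hgcomm : ∀ {u v : G} (hu : u ∈ N) (hv : v ∈ N), ⁅u, v⁆ ∈ K →
        Commute (g ⟨u, hu⟩) (g ⟨v, hv⟩) := by
      intro u v hu hv huv
      refine commutatorElement_eq_one_iff_mul_comm.1 ?_
      rw [← map_commutatorElement]
      exact (hgone _).2 huv
    set w₁ := (a * b)⁻¹ * (b * a) with hw₁
    have hw₁Φ : w₁ ∈ phi E := by
      have e : w₁ = ⁅b⁻¹, a⁻¹⁆ := by simp only [hw₁, commutatorElement_def]; group
      rw [e]
      exact comm_mem_phi hG (inv_mem hbE) (inv_mem ha)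
    have hw₁N := hP.phiN hw₁Φ
    have hwC : ∀ {v : G} (hv : v ∈ N), Commute (g ⟨w₁, hw₁N⟩) (g ⟨v, hv⟩) :=
      fun hv => hgcomm _ _ (hΦcen w₁ hw₁Φ _ hv)
    have hcC : ∀ {v : G} (hv : v ∈ N), Commute (g ⟨c, hcN⟩) (g ⟨v, hv⟩) :=
      fun hv => hgcomm _ _ (hΦ₁cen c hc₁ _ hv)
    have hpw : ∀ {v : G} (hv : v ∈ T), g ⟨v, hTN hv⟩ ^ p = 1 := fun hv => by
      rw [← map_pow]
      exact (hgone _).2 (hTKp _ hv)
    have heq1 : g ((⟨a, haN⟩ * ⟨x, hxN⟩) ^ p) = g (⟨a, haN⟩ ^ p) * g (⟨x, hxN⟩ ^ p) := by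
      rw [map_pow, map_mul, map_pow, map_pow,
        shift_pow (b := g ⟨b, hbN⟩) (c := g ⟨c, hcN⟩) (w := g ⟨w₁, hw₁N⟩) ?_ ?_ ?_ ?_ ?_
          (hwC haN) (hwC hbN) (hwC hcN) (hcC hbN),
        pow_choose_eq_one hp5 (hpw hbT) two_ne_zero (by norm_num),
        pow_choose_eq_one hp5 (hpw hcT) three_ne_zero (by norm_num),
        pow_choose_eq_one hp5 (hpw (mem_sup_left hw₁Φ)) three_ne_zero (by norm_num),
        mul_one, mul_one, mul_one]
      · rw [← map_mul, ← map_inv, ← map_mul, ← map_mul]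
        exact congrArg g (Subtype.ext hbe)
      · rw [← map_mul, ← map_inv, ← map_mul, ← map_mul]
        exact congrArg g (Subtype.ext hce)
      · rw [← (hcC hxN).eq, mul_inv_cancel_right]
      · rw [← (hwC hxN).eq, mul_inv_cancel_right]
      · rw [← map_mul, ← map_mul, ← map_mul]
        exact congrArg g (Subtype.ext (show b * a = a * b * w₁ by rw [hw₁]; group))
    -- the exponents
    obtain ⟨f, hf, lam, hlam⟩ := mem_sup_zpowers (hnK.le_normalizer hcN)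
      (show x ^ p ∈ K ⊔ zpowers c by rw [hsupc]; exact pow_mem_phi hG hx₁)
    have hAΦ : a ^ p ∈ phi E := pow_mem_phi hG ha
    have hsupA : K ⊔ zpowers (a ^ p) = phi E := sup_eq_of_card_le hG inf_le_left hΦK hAΦ hAK
    obtain ⟨f', hf', β, hβ⟩ := mem_sup_zpowers (hnK.le_normalizer (pow_mem haN p))
      (show ⁅a, b⁆ ∈ K ⊔ zpowers (a ^ p) by rw [hsupA]; exact comm_mem_phi hG ha hbE)
    set A : _ := g (⟨a, haN⟩ ^ p) with hA
    set cq : _ := g ⟨c, hcN⟩ with hcq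
    have hA1 : A ≠ 1 := fun h => hAK ((hgone (pow_mem haN p)).1 h)
    have hc1 : cq ≠ 1 := fun h => hcΦ ((hgone hcN).1 h).1
    have hxp : g (⟨x, hxN⟩ ^ p) = cq ^ lam := by
      rw [← map_zpow, show (⟨x, hxN⟩ : N) ^ p = ⟨f, hKN hf⟩ * ⟨c, hcN⟩ ^ lam from Subtype.ext hlam,
        map_mul, (hgone (hKN hf)).2 hf, one_mul]
    have hab : g ⁅(⟨a, haN⟩ : N), ⟨b, hbN⟩⁆ = A ^ β := by
      rw [hA, ← map_zpow, show ⁅(⟨a, haN⟩ : N), ⟨b, hbN⟩⁆ = ⟨f', hKN hf'⟩ * (⟨a, haN⟩ ^ p) ^ β from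
        Subtype.ext hβ, map_mul, (hgone (hKN hf')).2 hf', one_mul]
    -- `(a x)^p` generates `Φ(E₂)` modulo `K`
    have hy : a * x ∈ E₂ := hyeq ▸ hy₂
    set t := (a * x) ^ p with ht
    have htΦ : t ∈ phi E₂ := pow_mem_phi hG hy
    have htN : t ∈ N := pow_mem (mul_mem haN hxN) p
    have htq : g ⟨t, htN⟩ = A * cq ^ lam := by
      rw [show (⟨t, htN⟩ : N) = (⟨a, haN⟩ * ⟨x, hxN⟩) ^ p from rfl, heq1, hxp]
    have hindep : ∀ i j : ℤ, A ^ i = cq ^ j → A ^ i = 1 ∧ cq ^ j = 1 := by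
      intro i j hij
      suffices hi : A ^ i = 1 from ⟨hi, hij ▸ hi⟩
      rw [hA, ← map_zpow] at hij ⊢
      rw [hcq, ← map_zpow] at hij
      have h3 : (((⟨a, haN⟩ : N) ^ p) ^ i)⁻¹ * (⟨c, hcN⟩ : N) ^ j ∈ K.subgroupOf N :=
        QuotientGroup.eq.1 hij
      refine (hgone (zpow_mem (pow_mem haN p) i)).2 ⟨zpow_mem hAΦ i, ?_⟩
      have h4 := mul_mem (zpow_mem hc₁ j) (inv_mem (h3.2 : ((a ^ p) ^ i)⁻¹ * c ^ j ∈ phi E₁))
      simpa using h4
    have htK : t ∉ K := fun h => by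
      have h3 : A ^ (1 : ℤ) = cq ^ (-lam) := by
        rw [zpow_one, zpow_neg, ← mul_eq_one_iff_eq_inv, ← htq]
        exact (hgone htN).2 h
      exact hA1 (by simpa using (hindep 1 (-lam) h3).1)
    have hsupt : K ⊔ zpowers t = phi E₂ := sup_eq_of_card_le hG hK₂
      (by rw [hP.card_phi_eq hP₂]; exact hΦK) htΦ htK
    obtain ⟨f'', hf'', k, hk⟩ := mem_sup_zpowers (hnK.le_normalizer htN)
      (show ⁅a * x, b⁆ ∈ K ⊔ zpowers t by rw [hsupt]; exact comm_mem_phi hG hy hb₂)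
    have heq2 : g ⁅(⟨a, haN⟩ : N) * ⟨x, hxN⟩, ⟨b, hbN⟩⁆ = cq * A ^ β := by
      rw [commutatorElement_mul_left_eq_conj_mul, map_mul, hab]
      congr 1
      rw [map_mul, map_mul, show g ⁅(⟨x, hxN⟩ : N), ⟨b, hbN⟩⁆ = cq from ?_, map_inv,
        ← (hcC haN).eq, mul_inv_cancel_right]
      rw [show ⁅(⟨x, hxN⟩ : N), ⟨b, hbN⟩⁆ = ⟨b, hbN⟩ * ⟨c, hcN⟩ * ⟨b, hbN⟩⁻¹ from
        Subtype.ext (show ⁅x, b⁆ = b * c * b⁻¹ by rw [← hce, commutatorElement_def]),
        map_mul, map_mul, map_inv, ← (hcC hbN).eq, mul_inv_cancel_right]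
    have hAc : Commute A cq := (hcC (pow_mem haN p)).symm
    have hcon1 : cq * A ^ β = A ^ k * cq ^ (lam * k) := by
      rw [← heq2, show ⁅(⟨a, haN⟩ : N) * ⟨x, hxN⟩, ⟨b, hbN⟩⁆ = ⟨f'', hKN hf''⟩ * ⟨t, htN⟩ ^ k from
        Subtype.ext hk, map_mul, (hgone (hKN hf'')).2 hf'', one_mul, map_zpow, htq,
        (hAc.zpow_right lam).mul_zpow, ← zpow_mul]
    obtain ⟨e1, e2⟩ := hindep (β - k) (lam * k - 1) (by
      rw [zpow_sub, zpow_sub, zpow_one]
      have h3 : A ^ β * cq = A ^ k * cq ^ (lam * k) := by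
        rw [(hAc.zpow_left β).eq]; exact hcon1
      calc A ^ β * (A ^ k)⁻¹ = (A ^ k)⁻¹ * (A ^ β * cq) * cq⁻¹ := by
            rw [((Commute.refl A).zpow_zpow β k).inv_right.eq]; group
        _ = _ := by rw [h3]; group)
    have hd1 : (p : ℤ) ∣ β - k := dvd_of_zpow_eq_one (by
      rw [hA, ← map_pow]
      exact (hgone _).2 (hTKp _ (mem_sup_left hAΦ))) hA1 e1
    have hd2 : (p : ℤ) ∣ lam * k - 1 := dvd_of_zpow_eq_one (hpw hcT) hc1 e2
    -- the quotient modulo `P`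
    set h' := QuotientGroup.mk' (P.subgroupOf N) with hh'
    have hhone : ∀ {v : G} (hv : v ∈ N), h' ⟨v, hv⟩ = 1 ↔ v ∈ P := fun hv =>
      QuotientGroup.eq_one_iff _
    set xq : _ := h' ⟨x, hxN⟩ with hxq
    set aq : _ := h' ⟨a, haN⟩ with haq
    set bq : _ := h' ⟨b, hbN⟩ with hbq
    set cr : _ := h' ⟨c, hcN⟩ with hcr
    set B : _ := h' (⟨b, hbN⟩ ^ p) with hB
    have hEcomm : ∀ {u v : G}, (hu : u ∈ phi E) → (hv : v ∈ E) →
        Commute (h' ⟨u, hP.phiN hu⟩) (h' ⟨v, hP.le hv⟩) := by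
      intro u v hu hv
      refine commutatorElement_eq_one_iff_mul_comm.1 ?_
      rw [← map_commutatorElement]
      exact (hhone _).2 (mem_sup_left (hP2cen u hu v hv))
    have hΦp : ∀ {u : G}, (hu : u ∈ phi E) → h' ⟨u, hP.phiN hu⟩ ^ p = 1 := by
      intro u hu
      rw [← map_pow]
      exact (hhone _).2 (mem_sup_left (hP2p u hu))
    have hxa : xq * aq * xq⁻¹ = aq * bq := by
      rw [hxq, haq, hbq, ← map_mul, ← map_inv, ← map_mul, ← map_mul]
      exact congrArg h' (Subtype.ext hbe)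
    have hxb : xq * bq * xq⁻¹ = bq * cr := by
      rw [hxq, hbq, hcr, ← map_mul, ← map_inv, ← map_mul, ← map_mul]
      exact congrArg h' (Subtype.ext hce)
    have hcrp : cr ^ p = 1 := by
      rw [hcr, ← map_pow]
      exact (hhone _).2 (mem_sup_right (mem_zpowers _))
    set w₂ := (b * c)⁻¹ * (c * b) with hw₂
    have hw₂K : w₂ ∈ K := by
      have e : w₂ = ⁅c⁻¹, b⁻¹⁆ := by simp only [hw₂, commutatorElement_def]; group
      rw [e]
      exact hTK _ (inv_mem hcT) _ (inv_mem hbT)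
    have hcb : cr * bq = bq * cr * h' ⟨w₂, hKN hw₂K⟩ := by
      rw [hcr, hbq, ← map_mul, ← map_mul, ← map_mul]
      exact congrArg h' (Subtype.ext (show c * b = b * c * w₂ by rw [hw₂]; group))
    have hBfix : xq * B * xq⁻¹ = B := by
      rw [hB, map_pow, ← hbq, ← conj_pow, hxb,
        mul_pow_comm hcb (hEcomm hw₂K.1 hbE) (hEcomm hw₂K.1 hcE), hcrp,
        pow_choose_eq_one hp5 (hΦp hw₂K.1) two_ne_zero (by norm_num), mul_one, mul_one]
    have hKB : ∀ {v : G} (hv : v ∈ K), ∃ i : ℤ, h' ⟨v, hKN hv⟩ = B ^ i := by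
      intro v hv
      obtain ⟨q, hq, i, rfl⟩ := mem_sup_zpowers (hnP.le_normalizer (pow_mem hbN p))
        (hKP.ge hv)
      refine ⟨i, ?_⟩
      rw [hB, ← map_zpow, show (⟨q * (b ^ p) ^ i, hKN hv⟩ : N) = ⟨q, hKN (hPK hq)⟩ *
        (⟨b, hbN⟩ ^ p) ^ i from rfl, map_mul, (hhone _).2 hq, one_mul]
    have hKfix : ∀ {v : G} (hv : v ∈ K), xq * h' ⟨v, hKN hv⟩ * xq⁻¹ = h' ⟨v, hKN hv⟩ := by
      intro v hv
      obtain ⟨i, hi⟩ := hKB hv
      rw [hi, ← conj_zpow, hBfix]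
    -- commutators with `c`
    have hcomK : ∀ {u v : G}, (hu : u ∈ N) → (hv : v ∈ N) → (huv : ⁅u, v⁆ ∈ K) →
        xq * ⁅h' ⟨u, hu⟩, h' ⟨v, hv⟩⁆ * xq⁻¹ = ⁅h' ⟨u, hu⟩, h' ⟨v, hv⟩⁆ := by
      intro u v hu hv huv
      rw [← map_commutatorElement]
      exact hKfix huv
    have hconj : ∀ u v : (↥N ⧸ P.subgroupOf N),
        xq * ⁅u, v⁆ * xq⁻¹ = ⁅xq * u * xq⁻¹, xq * v * xq⁻¹⁆ := fun u v => by
      simp only [commutatorElement_def]; group
    have hxc : xq * cr * xq⁻¹ = cr * h' ⟨d, hKN hd⟩ := by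
      rw [hxq, hcr, ← map_mul, ← map_inv, ← map_mul, ← map_mul]
      exact congrArg h' (Subtype.ext (show x * c * x⁻¹ = c * d by rw [hddef]; group))
    have hdE : ∀ {v : G} (hv : v ∈ E), Commute (h' ⟨d, hKN hd⟩) (h' ⟨v, hP.le hv⟩) :=
      fun hv => hEcomm hd.1 hv
    have hacK : ⁅a, c⁆ ∈ K := by
      rw [← commutatorElement_inv]
      exact inv_mem (hΦ₁cen c hc₁ a haN)
    have hbcΦ : ⁅b, c⁆ ∈ phi E := comm_mem_phi hG hbE hcE
    have hbcfix : Commute ⁅bq, cr⁆ aq := by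
      rw [hbq, hcr, ← map_commutatorElement]
      exact hEcomm hbcΦ ha
    have habc : ⁅aq * bq, cr⁆ = ⁅bq, cr⁆ * ⁅aq, cr⁆ := by
      rw [commutatorElement_mul_left_eq_conj_mul, ← hbcfix.eq, mul_inv_cancel_right]
    have hbc1 : ⁅bq, cr⁆ = 1 := by
      have h3 := hcomK haN hcN hacK
      rw [hconj, hxa, hxc, commutatorElement_mul_right_eq_mul_conj, habc,
        commutatorElement_eq_one_iff_mul_comm.2
          (((hdE ha).mul_right (hdE hbE)).symm :), mul_one, mul_inv_cancel_right] at h3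
      exact mul_eq_right.1 h3
    have hac : ⁅aq, cr⁆ = B ^ β := by
      obtain ⟨i, hi⟩ := hKB hf'
      have hsplit : ⁅aq, bq⁆ = B ^ i * h' (⟨a, haN⟩ ^ p) ^ β := by
        rw [haq, hbq, ← map_commutatorElement, ← hi, ← map_zpow, ← map_mul]
        exact congrArg h' (Subtype.ext hβ)
      have h3 : xq * ⁅aq, bq⁆ * xq⁻¹ = ⁅aq, bq⁆ * ⁅aq, cr⁆ := by
        have hc4 : Commute ⁅aq, cr⁆ bq := by
          rw [haq, hcr, ← map_commutatorElement]
          exact hEcomm hacK.1 hbE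
        rw [hconj, hxa, hxb, commutatorElement_mul_right_eq_mul_conj, habc, hbc1, one_mul,
          commutatorElement_mul_left_eq_conj_mul, commutatorElement_self, mul_one, mul_inv_cancel,
          one_mul, mul_assoc ⁅aq, bq⁆ bq, ← hc4.eq, ← mul_assoc, mul_inv_cancel_right]
      have hAB : xq * h' (⟨a, haN⟩ ^ p) * xq⁻¹ = h' (⟨a, haN⟩ ^ p) * B := by
        have hba2 : bq * aq = aq * bq * h' ⟨w₁, hw₁N⟩ := by
          rw [hbq, haq, ← map_mul, ← map_mul, ← map_mul]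
          exact congrArg h' (Subtype.ext (show b * a = a * b * w₁ by rw [hw₁]; group))
        rw [map_pow, ← haq, ← conj_pow, hxa, mul_pow_comm hba2 (hEcomm hw₁Φ ha) (hEcomm hw₁Φ hbE),
          pow_choose_eq_one hp5 (hΦp hw₁Φ) two_ne_zero (by norm_num), mul_one, hB, map_pow]
      have hAB' : Commute (h' (⟨a, haN⟩ ^ p)) B :=
        hEcomm hAΦ (pow_mem hbE p)
      rw [hsplit] at h3
      have h4 : xq * (B ^ i * h' (⟨a, haN⟩ ^ p) ^ β) * xq⁻¹ =
          B ^ i * h' (⟨a, haN⟩ ^ p) ^ β * B ^ β := by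
        rw [show xq * (B ^ i * h' (⟨a, haN⟩ ^ p) ^ β) * xq⁻¹ =
          (xq * B * xq⁻¹) ^ i * (xq * h' (⟨a, haN⟩ ^ p) * xq⁻¹) ^ β by
            rw [conj_zpow, conj_zpow]; group, hBfix, hAB, hAB'.mul_zpow, mul_assoc]
      exact mul_left_cancel (h3.symm.trans h4)
    have hkey : aq * B = (B ^ (β * lam))⁻¹ * aq := by
      have h3 : xq ^ p * aq * (xq ^ p)⁻¹ = aq * B := by
        rw [shift_conj hxa hxb hxc (hKfix hd) (hKfix hw₂K) hcb (hdE hbE) (hdE hcE)
          (hEcomm hd.1 (phi_le E hw₂K.1)) (hEcomm hw₂K.1 hbE) (hEcomm hw₂K.1 hcE),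
          pow_choose_eq_one hp5 hcrp two_ne_zero (by norm_num),
          pow_choose_eq_one hp5 ?_ three_ne_zero (by norm_num), mul_one, mul_one, hB, map_pow]
        rw [(hdE (phi_le E hw₂K.1)).mul_pow, hΦp hd.1, hΦp hw₂K.1, mul_one]
      rw [← h3]
      have h5 : xq ^ p = h' ⟨f, hKN hf⟩ * cr ^ lam := by
        rw [hxq, hcr, ← map_pow, ← map_zpow, ← map_mul]
        exact congrArg h' (Subtype.ext hlam)
      have hac' : Commute ⁅aq, cr⁆ cr := by
        rw [haq, hcr, ← map_commutatorElement]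
        exact hEcomm hacK.1 hcE
      have h6 : cr ^ lam * aq * (cr ^ lam)⁻¹ = (B ^ (β * lam))⁻¹ * aq := by
        rw [zpow_mul, ← hac, ← comm_zpow_right hac' lam]
        simp only [commutatorElement_def]; group
      rw [h5, show h' ⟨f, hKN hf⟩ * cr ^ lam * aq * (h' ⟨f, hKN hf⟩ * cr ^ lam)⁻¹ =
        h' ⟨f, hKN hf⟩ * (cr ^ lam * aq * (cr ^ lam)⁻¹) * (h' ⟨f, hKN hf⟩)⁻¹ by group, h6]
      have hfB : Commute (h' ⟨f, hKN hf⟩) B := hEcomm hf.1 (pow_mem hbE p)
      rw [(((hfB.zpow_right (β * lam)).inv_right).mul_right (hEcomm hf.1 ha)).eq, mul_inv_cancel_right]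
    have hBa : Commute B aq := hEcomm (pow_mem_phi hG hbE) ha
    have hfin : B ^ (1 + β * lam) = 1 := by
      rw [← hBa.eq] at hkey
      have h7 := mul_right_cancel hkey
      rw [add_comm, zpow_add, zpow_one]
      exact eq_inv_iff_mul_eq_one.1 h7 |> fun h8 => ((Commute.refl B).zpow_left (β * lam)).eq.trans h8
    have hd3 : (p : ℤ) ∣ 1 + β * lam :=
      dvd_of_zpow_eq_one (hΦp (pow_mem_phi hG hbE)) (fun h => hBP ((hhone (pow_mem hbN p)).1 h)) hfin
    have hd4 : (p : ℤ) ∣ 2 := by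
      have := (hd3.sub (hd1.mul_right lam)).sub hd2
      rw [show (1 + β * lam - (β - k) * lam) - (lam * k - 1) = 2 by ring] at this
      exact this
    exact Fusion.MaxClassRankThree.not_dvd_two hp5 hd4
  · -- all `p`-th powers lie in `P2`
    have hpow : ∀ u ∈ E, u ^ p ∈ P2 := fun u hu => (hker.ge hu).2
    set w := ⁅b, c⁆ with hwdef
    have hwK : w ∈ K := hTK b hbT c hcT
    set U := P2 ⊔ zpowers w with hUdef
    have hUK : U ≤ K := sup_le hP2K (zpowers_le.2 hwK)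
    have hnU : Nm U E := fun g hg v hv => by
      have h3 : ⁅g, v⁆ ∈ U := mem_sup_left (hP2cen.symm g hg v (hUK hv).1)
      have := mul_mem h3 hv
      simpa [commutatorElement_def] using this
    have hTE : T ≤ E := hP.layer1_le
    have hcb : Com U (zpowers c) (zpowers b) := Com.zpowers_zpowers hnU hcE hbE (by
      rw [← commutatorElement_inv]
      exact inv_mem (mem_sup_right (mem_zpowers w)))
    have hTb : Com U T (zpowers b) := by
      rw [show T = _ from hgen.symm]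
      refine Com.sup_left hnU (sup_le (phi_le E) (zpowers_le.2 hcE)) (zpowers_le.2 hbE)
        (Com.sup_left hnU (phi_le E) (zpowers_le.2 hcE)
          (fun u hu v hv => mem_sup_left (hP2cen u hu v ((zpowers_le.2 hbE) hv))) hcb) ?_
      exact Com.zpowers_zpowers hnU hbE hbE (by simp [commutatorElement_self])
    have hTc : Com U T (zpowers c) := by
      rw [show T = _ from hgen.symm]
      refine Com.sup_left hnU (sup_le (phi_le E) (zpowers_le.2 hcE)) (zpowers_le.2 hbE)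
        (Com.sup_left hnU (phi_le E) (zpowers_le.2 hcE)
          (fun u hu v hv => mem_sup_left (hP2cen u hu v ((zpowers_le.2 hcE) hv)))
          (Com.zpowers_zpowers hnU hcE hcE (by simp [commutatorElement_self]))) hcb.symm
    have hTU : Com U T T := by
      have h3 : Com U (phi E ⊔ zpowers c ⊔ zpowers b) T :=
        Com.sup_left hnU (sup_le (phi_le E) (zpowers_le.2 hcE)) (zpowers_le.2 hbE)
          (Com.sup_left hnU (phi_le E) (zpowers_le.2 hcE)
            (fun u hu v hv => mem_sup_left (hP2cen u hu v (hTE hv))) hTc.symm) hTb.symm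
      rwa [hgen] at h3
    have hrk := hP.rank T U (hUK.trans (inf_le_left.trans le_sup_left)) hTU
      (fun u hu => mem_sup_left (hpow u (hTE hu)))
    rw [hcard1, hcardΦ] at hrk
    have hUeq : U = K := eq_of_le_of_card_ge hUK (Nat.le_of_mul_le_mul_left
      (by rw [show p ^ 3 * Nat.card K = p ^ 2 * (p * Nat.card K) by ring]; exact hrk)
      (pow_pos hp.pos 3))
    have hacK : ⁅a, c⁆ ∈ K := by
      rw [← commutatorElement_inv]
      exact inv_mem (hΦ₁cen c hc₁ a haN)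
    obtain ⟨q, hq, i, hi⟩ := mem_sup_zpowers ((hnP2.mono hP.le).le_normalizer (phi_le E hwK.1))
      (hUeq.ge hacK)
    set xq : _ := f2 ⟨x, hxN⟩ with hxq
    set aq : _ := f2 ⟨a, haN⟩ with haq
    set bq : _ := f2 ⟨b, hbN⟩ with hbq
    set cr : _ := f2 ⟨c, hcN⟩ with hcr
    set dq : _ := f2 ⟨d, hKN hd⟩ with hdq
    set wq : _ := ⁅bq, cr⁆ with hwq
    have hEcomm : ∀ {u v : G}, (hu : u ∈ phi E) → (hv : v ∈ E) →
        Commute (f2 ⟨u, hP.phiN hu⟩) (f2 ⟨v, hP.le hv⟩) :=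
      fun hu hv => hf2comm _ _ (hP2cen _ hu _ hv)
    have hconj : ∀ u v : (↥N ⧸ P2.subgroupOf N),
        xq * ⁅u, v⁆ * xq⁻¹ = ⁅xq * u * xq⁻¹, xq * v * xq⁻¹⁆ := fun u v => by
      simp only [commutatorElement_def]; group
    have hxa : xq * aq * xq⁻¹ = aq * bq := by
      rw [hxq, haq, hbq, ← map_mul, ← map_inv, ← map_mul, ← map_mul]
      exact congrArg f2 (Subtype.ext hbe)
    have hxb : xq * bq * xq⁻¹ = bq * cr := by
      rw [hxq, hbq, hcr, ← map_mul, ← map_inv, ← map_mul, ← map_mul]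
      exact congrArg f2 (Subtype.ext hce)
    have hxc : xq * cr * xq⁻¹ = cr * dq := by
      rw [hxq, hcr, hdq, ← map_mul, ← map_inv, ← map_mul, ← map_mul]
      exact congrArg f2 (Subtype.ext (show x * c * x⁻¹ = c * d by rw [hddef]; group))
    have hwa : Commute wq aq := by
      rw [hwq, hbq, hcr, ← map_commutatorElement]
      exact hEcomm hwK.1 ha
    have hac : ⁅aq, cr⁆ = wq ^ i := by
      rw [hwq, haq, hbq, hcr, ← map_commutatorElement, ← map_commutatorElement, ← map_zpow,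
        show ⁅(⟨a, haN⟩ : N), ⟨c, hcN⟩⁆ = ⟨q, hKN (hP2K hq)⟩ * ⁅(⟨b, hbN⟩ : N), ⟨c, hcN⟩⁆ ^ i from
          Subtype.ext hi, map_mul, (hf2one _).2 hq, one_mul]
    have hd1 : ∀ {v : G} (hv : v ∈ E), ⁅f2 ⟨v, hP.le hv⟩, dq⁆ = 1 := fun hv =>
      commutatorElement_eq_one_iff_mul_comm.2 (hEcomm hd.1 hv).symm
    have hw1 : wq = 1 := by
      have h3 : xq * ⁅aq, cr⁆ * xq⁻¹ = wq * ⁅aq, cr⁆ := by
        rw [hconj, hxa, hxc, commutatorElement_mul_right_eq_mul_conj,
          show ⁅aq * bq, dq⁆ = 1 by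
            rw [haq, hbq, ← map_mul]; exact hd1 (mul_mem ha hbE), mul_one, mul_inv_cancel_right,
          commutatorElement_mul_left_eq_conj_mul, ← hwa.eq, mul_inv_cancel_right]
      have h4 : xq * wq * xq⁻¹ = wq := by
        have hbc : ⁅bq, cr⁆ = wq := hwq.symm
        rw [hwq, hconj, hxb, hxc, commutatorElement_mul_right_eq_mul_conj,
          show ⁅bq * cr, dq⁆ = 1 by
            rw [hbq, hcr, ← map_mul]; exact hd1 (mul_mem hbE hcE), mul_one, mul_inv_cancel_right,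
          commutatorElement_mul_left_eq_conj_mul, commutatorElement_self, mul_one, mul_inv_cancel,
          one_mul]
      rw [hac, ← conj_zpow, h4] at h3
      exact mul_eq_right.1 h3.symm
    have hwP2 : w ∈ P2 := by
      refine (hf2one (hKN hwK)).1 ?_
      rw [hwq, hbq, hcr, ← map_commutatorElement] at hw1
      exact hw1
    have hacP2 : ⁅a, c⁆ ∈ P2 := by
      rw [hi]
      exact mul_mem hq (zpow_mem hwP2 i)
    have hn : Nm P2 E := hnP2.mono hP.le
    have hTc2 : Com P2 T (zpowers c) := by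
      rw [show T = _ from hgen.symm]
      exact Com.sup_left hn (sup_le (phi_le E) (zpowers_le.2 hcE)) (zpowers_le.2 hbE)
        (Com.sup_left hn (phi_le E) (zpowers_le.2 hcE)
          (fun u hu v hv => hP2cen u hu v ((zpowers_le.2 hcE) hv))
          (Com.zpowers_zpowers hn hcE hcE (by simp [commutatorElement_self])))
        (Com.zpowers_zpowers hn hbE hcE hwP2)
    have hEc : Com P2 E (zpowers c) := by
      have h3 := Com.sup_left hn hTE (zpowers_le.2 ha) hTc2 (Com.zpowers_zpowers hn ha hcE hacP2)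
      rwa [hsupa] at h3
    rcases hrad c hcE (fun v hv => hEc.symm c (mem_zpowers c) v hv) with ⟨v, hv, hv'⟩ | hc
    · exact hv' (hpow v hv)
    · exact hcΦ hc

end Cfsg.Agent.RankThreeNormal
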