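import Cfsg.Agent.Lib.RankThreeNormal.Jordan

/-!
Elements of order `p` of a single-block `E` lie in every other subgroup in the same position.
-/

set_option autoImplicit false
set_option maxHeartbeats 1000000

namespace Cfsg.Agent.RankThreeNormal

open Subgroup Cfsg.Agent
open Cfsg.Agent.Fusion.MaxClassRankThree (ev ev_apply ev_mem ev_mul ev_inv ev_comm ev_pow ev_zpow
  comm_zpow_right)
open scoped commutatorElement

variable {G : Type*} [Group G] [Finite G] {p : ℕ} [Fact p.Prime]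

theorem mem_of_block {E E₁ N : Subgroup G} (hP : Pos p E N) (hP₁ : Pos p E₁ N) (h1 : E₁ ≠ E)
    (hR2 : layer2 E N ≠ phi E) (hirr : CharIrr E) : ∀ u ∈ E, u ^ p = 1 → u ∈ E₁ := by
  have hp := (Fact.out : p.Prime)
  have hp5 := hP.hp5
  have hG := hP.hG
  obtain ⟨hcard2, hcard1, hR2Φ⟩ := hP.layers hR2
  set T := layer1 E N with hTdef
  have hTN : T ≤ N := hP.layer1_le.trans hP.le
  have hT : ∀ E' : Subgroup G, Pos p E' N → E' ≠ E → T = E ⊓ E' := by
    intro E' hE' hne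
    refine eq_of_le_of_card_ge (le_inf hP.layer1_le (sup_le (hE'.phi_le' hP.le)
      (commutator_le.2 fun u hu g hg => hE'.comm_mem (hP.le hu) hg))) ?_
    have := hP.card_inf hE' hne
    rw [hP.cardE] at this
    refine Nat.le_of_mul_le_mul_left ?_ hp.pos
    rw [this, hcard1, pow_succ', mul_assoc]
  -- generators
  obtain ⟨x, hx₁, hxE⟩ := hP.not_le hP₁ h1
  have hxN : x ∈ N := hP₁.le hx₁
  obtain ⟨a, ha, haT⟩ := SetLike.not_le_iff_exists.1 (fun hle : E ≤ T => by
    have h2 := Subgroup.card_le_of_le hle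
    rw [hP.cardE, hcard1] at h2
    have h3 := Nat.le_of_mul_le_mul_right h2 Nat.card_pos
    have h4 : p ^ 2 < p ^ 3 := Nat.pow_lt_pow_right hp.one_lt (by norm_num)
    omega)
  have hF : Frame p E N a x := ⟨hP, ha, haT, hxN, hxE, hR2⟩
  have hbT := hF.b_mem
  have hcR := hF.c_mem
  have hcΦ := hF.c_not
  have hgen := hF.gen1
  have hsupa := hF.sup_a
  set b := ⁅a⁻¹, x⁆ with hbdef
  set c := ⁅b⁻¹, x⁆ with hcdef
  set d := c⁻¹ * (x * c * x⁻¹) with hddef
  have hbe : x * a * x⁻¹ = a * b := by rw [hbdef, hF.bEq]; group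
  have hce : x * b * x⁻¹ = b * c := by rw [hcdef]; simp only [commutatorElement_def]; group
  have haN := hF.aN
  have hcT : c ∈ T := hP.layer2_le hcR
  have hbN := hTN hbT
  have hcN := hTN hcT
  have hbE := hP.layer1_le hbT
  have hcE := hP.layer1_le hcT
  have hb₁ : b ∈ E₁ := ((hT E₁ hP₁ h1).le hbT).2
  have hc₁ : c ∈ phi E₁ := comm_mem_phi hG (inv_mem hb₁) hx₁
  -- the intersection of the Frattini subgroups
  set K := phi E ⊓ phi E₁ with hKdef
  have hΦK : Nat.card (phi E) ≤ p * Nat.card K := hP.card_inf_le hP₁ h1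
  have hKlt : K < phi E := lt_of_le_of_ne inf_le_left fun he => hcΦ (by
    have := eq_of_le_of_card_ge (inf_eq_left.1 he) (hP.card_phi_eq hP₁).le
    rw [this]; exact hc₁)
  have hcardΦ : Nat.card (phi E) = p * Nat.card K :=
    le_antisymm hΦK (PGroup.mul_card_le_card hG hKlt)
  have hT₂ : ∀ u ∈ T, u ∈ E ∧ u ∈ E₁ := fun u hu =>
    ⟨hP.layer1_le hu, ((hT E₁ hP₁ h1).le hu).2⟩
  have hnK : Nm K N := hP.nmPhi.inf hP₁.nmPhi
  have hKN : K ≤ N := inf_le_left.trans hP.phiN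
  have hΦcen : Com K (phi E) N := com_of_card_le hG hP.phiN hnK hP.nmPhi inf_le_left hΦK
  have hΦ₁cen : Com K (phi E₁) N := com_of_card_le hG hP₁.phiN hnK hP₁.nmPhi inf_le_right
    (by rw [hP.card_phi_eq hP₁]; exact hΦK)
  have hTK : Com K T T := fun u hu v hv =>
    ⟨comm_mem_phi hG (hT₂ u hu).1 (hT₂ v hv).1, comm_mem_phi hG (hT₂ u hu).2 (hT₂ v hv).2⟩
  have hTKp : ∀ u ∈ T, u ^ p ∈ K := fun u hu =>
    ⟨pow_mem_phi hG (hT₂ u hu).1, pow_mem_phi hG (hT₂ u hu).2⟩
  have hd : d ∈ K := by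
    have e : d = ⁅c⁻¹, x⁆ := by simp only [hddef, commutatorElement_def]; group
    rw [e]
    exact hΦ₁cen _ (inv_mem hc₁) x hxN
  have hsupc : K ⊔ zpowers c = phi E₁ := sup_eq_of_card_le hG inf_le_right
    (by rw [hP.card_phi_eq hP₁]; exact hΦK) hc₁ (fun h => hcΦ h.1)
  -- `[Φ(E), E]Φ(Φ(E))`
  set P2 := phi2 E with hP2def
  have hnP2 : Nm P2 N := hP.nm_phi2
  have hP2K : P2 ≤ K := by
    refine sup_le (commutator_le.2 fun u hu v hv => hΦcen u hu v (hP.le hv))
      (phi_le_of (p := p) (fun u hu v hv => hΦcen u hu v (hP.phiN hv)) fun u hu => ?_)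
    exact hTKp u (mem_sup_left hu)
  have hP2cen : Com P2 (phi E) E := fun u hu v hv => mem_sup_left (commutator_mem_commutator hu hv)
  have hP2p : ∀ u ∈ phi E, u ^ p ∈ P2 := fun u hu => mem_sup_right (pow_mem_phi hG hu)
  have hP2inv : ∀ β : MulAut ↥E, ∀ v ∈ P2, ev β v ∈ P2 := by
    intro β
    let W : Subgroup G := (P2.comap (E.subtype.comp β.toMonoidHom)).map E.subtype
    have hW : ∀ v ∈ E, ev β v ∈ P2 → v ∈ W := fun v hv hv' =>
      ⟨⟨v, hv⟩, by show ((β ⟨v, hv⟩ : E) : G) ∈ P2; rwa [← ev_apply β hv], rfl⟩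
    have hle : P2 ≤ W := by
      refine sup_le (commutator_le.2 fun u hu v hv => hW _ (phi_le E (comm_mem_phi hG (phi_le E hu) hv)) ?_)
        (phi_le_of (p := p) (fun u hu v hv => hW _ (phi_le E (comm_mem_phi hG (phi_le E hu) (phi_le E hv))) ?_)
          fun u hu => hW _ (pow_mem (phi_le E hu) p) ?_)
      · rw [ev_comm β (phi_le E hu) hv]
        exact hP2cen _ (ev_mem_phi β hu) _ (ev_mem β hv)
      · rw [ev_comm β (phi_le E hu) (phi_le E hv)]
        exact hP2cen _ (ev_mem_phi β hu) _ (ev_mem β (phi_le E hv))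
      · rw [ev_apply β (pow_mem (phi_le E hu) p),
          show (⟨u ^ p, pow_mem (phi_le E hu) p⟩ : E) = ⟨u, phi_le E hu⟩ ^ p from rfl, map_pow,
          SubmonoidClass.coe_pow, ← ev_apply β (phi_le E hu)]
        exact hP2p _ (ev_mem_phi β hu)
    intro v hv
    obtain ⟨w, hw, rfl⟩ := hle hv
    show ev β (w : G) ∈ P2
    rw [ev_apply β w.2]
    exact hw
  have hP2E : P2 ≤ E := hP.phi2_le.trans (phi_le E)
  -- the radical
  have hrad : ∀ u ∈ E, (∀ v ∈ E, ⁅u, v⁆ ∈ P2) → (∃ v ∈ E, v ^ p ∉ P2) ∨ u ∈ phi E := by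
    intro u hu hcomm
    by_contra hcon
    push Not at hcon
    obtain ⟨hpow, huΦ⟩ := hcon
    have hn : Nm P2 E := hnP2.mono hP.le
    let R := cen P2 E E hn
    have hΦR : phi E ≤ R := fun v hv => ⟨phi_le E hv, hP2cen v hv⟩
    have hRinv : ∀ β : MulAut ↥E, ∀ v ∈ R, ev β v ∈ R := by
      intro β v hv
      refine ⟨ev_mem β hv.1, fun w hw => ?_⟩
      obtain ⟨w', rfl⟩ : ∃ w' : E, ev β (w' : G) = w :=
        ⟨β.symm ⟨w, hw⟩, by rw [ev_apply β (β.symm ⟨w, hw⟩).2]; simp⟩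
      rw [← ev_comm β hv.1 w'.2]
      exact hP2inv β _ (hv.2 w' w'.2)
    rcases hirr R hΦR (fun v hv => hv.1) hRinv with he | he
    · exact huΦ (he.le ⟨hu, hcomm⟩)
    · refine hKlt.not_ge ((phi_le_of (p := p) (fun v hv w hw => ?_) hpow).trans hP2K)
      exact (he.ge hv).2 w hw
  -- the quotient modulo `P2`
  have hn2 := hnP2.normal_subgroupOf
  set f2 := QuotientGroup.mk' (P2.subgroupOf N) with hf2
  have hf2one : ∀ {v : G} (hv : v ∈ N), f2 ⟨v, hv⟩ = 1 ↔ v ∈ P2 := fun hv =>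
    QuotientGroup.eq_one_iff _
  have hf2comm : ∀ {u v : G} (hu : u ∈ N) (hv : v ∈ N), ⁅u, v⁆ ∈ P2 →
      Commute (f2 ⟨u, hu⟩) (f2 ⟨v, hv⟩) := by
    intro u v hu hv huv
    refine commutatorElement_eq_one_iff_mul_comm.1 ?_
    rw [← map_commutatorElement]
    exact (hf2one _).2 huv
  have hm : ∀ {u v : G}, (hu : u ∈ E) → (hv : v ∈ E) →
      f2 ((⟨u, hP.le hu⟩ * ⟨v, hP.le hv⟩) ^ p) =
        f2 (⟨u, hP.le hu⟩ ^ p) * f2 (⟨v, hP.le hv⟩ ^ p) := by
    intro u v hu hv
    set w := (u * v)⁻¹ * (v * u) with hw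
    have hwΦ : w ∈ phi E := by
      have e : w = ⁅v⁻¹, u⁻¹⁆ := by simp only [hw, commutatorElement_def]; group
      rw [e]
      exact comm_mem_phi hG (inv_mem hv) (inv_mem hu)
    have hwN := hP.phiN hwΦ
    have hwp : f2 ⟨w, hwN⟩ ^ p = 1 := by
      rw [← map_pow]
      exact (hf2one _).2 (hP2p w hwΦ)
    have heq : f2 ⟨v, hP.le hv⟩ * f2 ⟨u, hP.le hu⟩ =
        f2 ⟨u, hP.le hu⟩ * f2 ⟨v, hP.le hv⟩ * f2 ⟨w, hwN⟩ := by
      rw [← map_mul, ← map_mul, ← map_mul]
      exact congrArg f2 (Subtype.ext (show v * u = u * v * w by rw [hw]; group))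
    rw [map_pow, map_mul, map_pow, map_pow,
      mul_pow_comm heq (hf2comm _ _ (hP2cen w hwΦ u hu)) (hf2comm _ _ (hP2cen w hwΦ v hv)),
      pow_choose_eq_one hp5 hwp two_ne_zero (by norm_num), mul_one]
  have hpowadd : ∀ {u v : G}, u ∈ E → v ∈ E → u ^ p ∈ P2 → v ^ p ∈ P2 → (u * v) ^ p ∈ P2 := by
    intro u v hu hv hup hvp
    refine (hf2one (pow_mem (mul_mem (hP.le hu) (hP.le hv)) p)).1 ?_
    refine (hm hu hv).trans ?_
    rw [show f2 (⟨u, hP.le hu⟩ ^ p) = 1 from (hf2one _).2 hup,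
      show f2 (⟨v, hP.le hv⟩ ^ p) = 1 from (hf2one _).2 hvp, mul_one]
  let Ker : Subgroup G :=
    { carrier := {u | u ∈ E ∧ u ^ p ∈ P2}
      one_mem' := ⟨one_mem _, by simp⟩
      mul_mem' := fun {u v} hu hv => ⟨mul_mem hu.1 hv.1, hpowadd hu.1 hv.1 hu.2 hv.2⟩
      inv_mem' := fun {u} hu => ⟨inv_mem hu.1, by rw [inv_pow]; exact inv_mem hu.2⟩ }
  rcases hirr Ker (fun v hv => ⟨phi_le E hv, hP2p v hv⟩) (fun v hv => hv.1) (fun β v hv =>
      ⟨ev_mem β hv.1, by
        rw [ev_apply β hv.1, ← SubmonoidClass.coe_pow, ← map_pow, ← ev_apply β]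
        exact hP2inv β _ hv.2⟩) with hker | hker
  · -- the power map is injective
    intro u hu hup
    exact hP₁.phi_le' hP.le (hker.le ⟨hu, by rw [hup]; exact one_mem _⟩)
  · -- all `p`-th powers lie in `P2`
    exfalso
    have hpow : ∀ u ∈ E, u ^ p ∈ P2 := fun u hu => (hker.ge hu).2
    set w := ⁅b, c⁆ with hwdef
    have hwK : w ∈ K := hTK b hbT c hcT
    set U := P2 ⊔ zpowers w with hUdef
    have hUK : U ≤ K := sup_le hP2K (zpowers_le.2 hwK)
    have hnU : Nm U E := fun g hg v hv => by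
      have h3 : ⁅g, v⁆ ∈ U := mem_sup_left (hP2cen.symm g hg v (hUK hv).1)
      have := mul_mem h3 hv
      simpa [commutatorElement_def] using this
    have hTE : T ≤ E := hP.layer1_le
    have hcb : Com U (zpowers c) (zpowers b) := Com.zpowers_zpowers hnU hcE hbE (by
      rw [← commutatorElement_inv]
      exact inv_mem (mem_sup_right (mem_zpowers w)))
    have hTb : Com U T (zpowers b) := by
      rw [show T = _ from hgen.symm]
      refine Com.sup_left hnU (sup_le (phi_le E) (zpowers_le.2 hcE)) (zpowers_le.2 hbE)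
        (Com.sup_left hnU (phi_le E) (zpowers_le.2 hcE)
          (fun u hu v hv => mem_sup_left (hP2cen u hu v ((zpowers_le.2 hbE) hv))) hcb) ?_
      exact Com.zpowers_zpowers hnU hbE hbE (by simp [commutatorElement_self])
    have hTc : Com U T (zpowers c) := by
      rw [show T = _ from hgen.symm]
      refine Com.sup_left hnU (sup_le (phi_le E) (zpowers_le.2 hcE)) (zpowers_le.2 hbE)
        (Com.sup_left hnU (phi_le E) (zpowers_le.2 hcE)
          (fun u hu v hv => mem_sup_left (hP2cen u hu v ((zpowers_le.2 hcE) hv)))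
          (Com.zpowers_zpowers hnU hcE hcE (by simp [commutatorElement_self]))) hcb.symm
    have hTU : Com U T T := by
      have h3 : Com U (phi E ⊔ zpowers c ⊔ zpowers b) T :=
        Com.sup_left hnU (sup_le (phi_le E) (zpowers_le.2 hcE)) (zpowers_le.2 hbE)
          (Com.sup_left hnU (phi_le E) (zpowers_le.2 hcE)
            (fun u hu v hv => mem_sup_left (hP2cen u hu v (hTE hv))) hTc.symm) hTb.symm
      rwa [hgen] at h3
    have hrk := hP.rank T U (hUK.trans (inf_le_left.trans le_sup_left)) hTU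
      (fun u hu => mem_sup_left (hpow u (hTE hu)))
    rw [hcard1, hcardΦ] at hrk
    have hUeq : U = K := eq_of_le_of_card_ge hUK (Nat.le_of_mul_le_mul_left
      (by rw [show p ^ 3 * Nat.card K = p ^ 2 * (p * Nat.card K) by ring]; exact hrk)
      (pow_pos hp.pos 3))
    have hacK : ⁅a, c⁆ ∈ K := by
      rw [← commutatorElement_inv]
      exact inv_mem (hΦ₁cen c hc₁ a haN)
    obtain ⟨q, hq, i, hi⟩ := mem_sup_zpowers ((hnP2.mono hP.le).le_normalizer (phi_le E hwK.1))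
      (hUeq.ge hacK)
    set xq : _ := f2 ⟨x, hxN⟩ with hxq
    set aq : _ := f2 ⟨a, haN⟩ with haq
    set bq : _ := f2 ⟨b, hbN⟩ with hbq
    set cr : _ := f2 ⟨c, hcN⟩ with hcr
    set dq : _ := f2 ⟨d, hKN hd⟩ with hdq
    set wq : _ := ⁅bq, cr⁆ with hwq
    have hEcomm : ∀ {u v : G}, (hu : u ∈ phi E) → (hv : v ∈ E) →
        Commute (f2 ⟨u, hP.phiN hu⟩) (f2 ⟨v, hP.le hv⟩) :=
      fun hu hv => hf2comm _ _ (hP2cen _ hu _ hv)
    have hconj : ∀ u v : (↥N ⧸ P2.subgroupOf N),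
        xq * ⁅u, v⁆ * xq⁻¹ = ⁅xq * u * xq⁻¹, xq * v * xq⁻¹⁆ := fun u v => by
      simp only [commutatorElement_def]; group
    have hxa : xq * aq * xq⁻¹ = aq * bq := by
      rw [hxq, haq, hbq, ← map_mul, ← map_inv, ← map_mul, ← map_mul]
      exact congrArg f2 (Subtype.ext hbe)
    have hxb : xq * bq * xq⁻¹ = bq * cr := by
      rw [hxq, hbq, hcr, ← map_mul, ← map_inv, ← map_mul, ← map_mul]
      exact congrArg f2 (Subtype.ext hce)
    have hxc : xq * cr * xq⁻¹ = cr * dq := by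
      rw [hxq, hcr, hdq, ← map_mul, ← map_inv, ← map_mul, ← map_mul]
      exact congrArg f2 (Subtype.ext (show x * c * x⁻¹ = c * d by rw [hddef]; group))
    have hwa : Commute wq aq := by
      rw [hwq, hbq, hcr, ← map_commutatorElement]
      exact hEcomm hwK.1 ha
    have hac : ⁅aq, cr⁆ = wq ^ i := by
      rw [hwq, haq, hbq, hcr, ← map_commutatorElement, ← map_commutatorElement, ← map_zpow,
        show ⁅(⟨a, haN⟩ : N), ⟨c, hcN⟩⁆ = ⟨q, hKN (hP2K hq)⟩ * ⁅(⟨b, hbN⟩ : N), ⟨c, hcN⟩⁆ ^ i from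
          Subtype.ext hi, map_mul, (hf2one _).2 hq, one_mul]
    have hd1 : ∀ {v : G} (hv : v ∈ E), ⁅f2 ⟨v, hP.le hv⟩, dq⁆ = 1 := fun hv =>
      commutatorElement_eq_one_iff_mul_comm.2 (hEcomm hd.1 hv).symm
    have hw1 : wq = 1 := by
      have h3 : xq * ⁅aq, cr⁆ * xq⁻¹ = wq * ⁅aq, cr⁆ := by
        rw [hconj, hxa, hxc, commutatorElement_mul_right_eq_mul_conj,
          show ⁅aq * bq, dq⁆ = 1 by
            rw [haq, hbq, ← map_mul]; exact hd1 (mul_mem ha hbE), mul_one, mul_inv_cancel_right,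
          commutatorElement_mul_left_eq_conj_mul, ← hwa.eq, mul_inv_cancel_right]
      have h4 : xq * wq * xq⁻¹ = wq := by
        have hbc : ⁅bq, cr⁆ = wq := hwq.symm
        rw [hwq, hconj, hxb, hxc, commutatorElement_mul_right_eq_mul_conj,
          show ⁅bq * cr, dq⁆ = 1 by
            rw [hbq, hcr, ← map_mul]; exact hd1 (mul_mem hbE hcE), mul_one, mul_inv_cancel_right,
          commutatorElement_mul_left_eq_conj_mul, commutatorElement_self, mul_one, mul_inv_cancel,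
          one_mul]
      rw [hac, ← conj_zpow, h4] at h3
      exact mul_eq_right.1 h3.symm
    have hwP2 : w ∈ P2 := by
      refine (hf2one (hKN hwK)).1 ?_
      rw [hwq, hbq, hcr, ← map_commutatorElement] at hw1
      exact hw1
    have hacP2 : ⁅a, c⁆ ∈ P2 := by
      rw [hi]
      exact mul_mem hq (zpow_mem hwP2 i)
    have hn : Nm P2 E := hnP2.mono hP.le
    have hTc2 : Com P2 T (zpowers c) := by
      rw [show T = _ from hgen.symm]
      exact Com.sup_left hn (sup_le (phi_le E) (zpowers_le.2 hcE)) (zpowers_le.2 hbE)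
        (Com.sup_left hn (phi_le E) (zpowers_le.2 hcE)
          (fun u hu v hv => hP2cen u hu v ((zpowers_le.2 hcE) hv))
          (Com.zpowers_zpowers hn hcE hcE (by simp [commutatorElement_self])))
        (Com.zpowers_zpowers hn hbE hcE hwP2)
    have hEc : Com P2 E (zpowers c) := by
      have h3 := Com.sup_left hn hTE (zpowers_le.2 ha) hTc2 (Com.zpowers_zpowers hn ha hcE hacP2)
      rwa [hsupa] at h3
    rcases hrad c hcE (fun v hv => hEc.symm c (mem_zpowers c) v hv) with ⟨v, hv, hv'⟩ | hc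
    · exact hv' (hpow v hv)
    · exact hcΦ hc

end Cfsg.Agent.RankThreeNormal
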