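import Cfsg.Agent.Lib.RankThreeNormal.Essential
import Cfsg.Agent.Lib.RankThreeNormal.TwoBlock
import Cfsg.Agent.Lib.RankThreeNormal.BadPair
import Cfsg.Agent.Lib.RankThreeNormal.AbelianPair
import Cfsg.Agent.Lib.Fusion.NormalCriteria

/-!
A saturated fusion system in sectional rank three with trivial core has a pearl.
-/

set_option autoImplicit false
set_option maxHeartbeats 800000

namespace Cfsg.Agent.RankThreeNormal

open Subgroup Cfsg Cfsg.FusionSystem Cfsg.Agent
open Cfsg.Agent.Fusion Cfsg.Agent.Fusion.Internal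
open Cfsg.Agent.Fusion.MaxClassRankThree (ev ev_apply ev_mem ev_mul ev_inv ev_comm ev_pow ev_zpow)
open scoped commutatorElement

/-! ### Images under automorphisms -/

section Image

variable {G : Type*} [Group G] [Finite G] {p : ℕ} [Fact p.Prime]

omit [Finite G] in
theorem map_top_aut (α : MulAut G) : (⊤ : Subgroup G).map α.toMonoidHom = ⊤ :=
  map_top_of_surjective _ α.surjective

omit [Finite G] in
theorem card_map_aut (α : MulAut G) (H : Subgroup G) :
    Nat.card (H.map α.toMonoidHom) = Nat.card H :=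
  card_map_of_injective (f := α.toMonoidHom) α.injective

theorem map_phi_aut (hG : IsPGroup p G) (α : MulAut G) (H : Subgroup G) :
    (phi H).map α.toMonoidHom = phi (H.map α.toMonoidHom) := by
  refine le_antisymm (RankTwo.map_phi_le hG _ H) ?_
  refine phi_le_of (p := p) ?_ ?_
  · rintro _ ⟨x, hx, rfl⟩ _ ⟨y, hy, rfl⟩
    exact ⟨_, comm_mem_phi hG hx hy, map_commutatorElement _ _ _⟩
  · rintro _ ⟨x, hx, rfl⟩
    exact ⟨_, pow_mem_phi hG hx, map_pow _ _ _⟩

theorem Pos.map {R : Subgroup G} (h : Pos p R ⊤) (α : MulAut G) :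
    Pos p (R.map α.toMonoidHom) ⊤ := by
  refine ⟨h.hG, h.rank, h.hp5, le_top, ?_, by rw [card_map_aut]; exact h.cardN,
    by rw [← map_phi_aut h.hG, card_map_aut, card_map_aut]; exact h.cardE⟩
  rintro g - _ ⟨v, hv, rfl⟩
  obtain ⟨g, rfl⟩ := α.surjective g
  refine ⟨g * v * g⁻¹, h.nm g (mem_top g) v hv, ?_⟩
  show α (g * v * g⁻¹) = α g * α v * (α g)⁻¹
  rw [map_mul, map_mul, map_inv]

end Image

variable {Ω : Type*} [Group Ω] {S : Subgroup Ω} [Finite S] {p : ℕ} [Fact p.Prime]
  {F : FusionSystem S} {E R : Subgroup ↥S}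

/-- The exceptional two-generator essential subgroup, inside its normaliser. -/
theorem Ess.badIn (h : Ess p F E) (hidx : Nat.card E = p ^ 2 * Nat.card (phi E)) {x : ↥S}
    (hx : x ∈ normalizer (E : Set ↥S)) (hxE : x ∉ E) (hb : RankTwo.Bad p ↥E (cnj E hx)) :
    BadIn p E (normalizer (E : Set ↥S)) := by
  have hD : (commutator ↥E).map E.subtype = ⁅E, E⁆ := by
    rw [commutator_def, map_commutator, ← MonoidHom.range_eq_map, range_subtype]
  have hZ : (RankTwo.G3 ↥E).map E.subtype = ⁅⁅E, E⁆, E⁆ := by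
    show ⁅commutator ↥E, (⊤ : Subgroup ↥E)⁆.map E.subtype = _
    rw [map_commutator, hD, ← MonoidHom.range_eq_map, range_subtype]
  have hphi : phi E = ⁅E, E⁆ := by rw [phi, hb.frat, hD]
  refine ⟨h.hS, le_normalizer, Nm.of_le_normalizer le_rfl, h.card_normalizer_two hidx, hb.card,
    ?_, ?_, ?_, ?_, ?_, ?_⟩
  · rw [← hD, card_map_of_injective E.subtype_injective, hb.cardD]
  · rw [← hZ, card_map_of_injective E.subtype_injective, hb.cardG]
  · rw [← hZ]
    rintro _ ⟨z, hz, rfl⟩ e he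
    exact congrArg Subtype.val (mem_center_iff.1 (hb.central hz) ⟨e, he⟩).symm
  · rw [← hZ, ← hD]
    rintro _ ⟨w, hw, rfl⟩ hwZ e he hc
    exact ⟨⟨e, he⟩, hb.frat.le (hb.inj w hw (fun h' => hwZ (mem_map_of_mem _ h')) ⟨e, he⟩
      (Subtype.ext hc.eq)), rfl⟩
  · obtain ⟨v, hv, hmv⟩ := hb.moved
    refine ⟨v, hZ.le (mem_map_of_mem _ hv), x, hx, fun hc => hmv (Subtype.ext ?_)⟩
    show x * v * x⁻¹ = (v : ↥S)
    rw [← hc.eq, mul_inv_cancel_right]
  · intro hcom
    refine hxE (h.mem_of_trivial hx fun v hv => ?_)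
    rw [hphi]
    exact hcom _ (inv_mem hv) x hx

/-- The normaliser of the exceptional subgroup is everything. -/
theorem normalizer_eq_top_of_bad (hS : IsPGroup p S)
    (hb : BadIn p E (normalizer (E : Set ↥S))) : normalizer (E : Set ↥S) = ⊤ := by
  by_contra hne
  obtain ⟨g, hg, hgN⟩ := SetLike.exists_of_lt (PGroup.lt_normalizer hS hne)
  have hN : (normalizer (E : Set ↥S)).map (MulAut.conj g).toMonoidHom = normalizer (E : Set ↥S) :=
    eq_of_le_of_card_ge ((Nm.of_le_normalizer le_rfl).map_le hg) (card_map_aut _ _).ge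
  have he := hb.unique (hb.map (MulAut.conj g) hN)
  exact hgN (mem_normalizer_of_mapsTo fun v hv => he ▸ mem_map_of_mem (MulAut.conj g).toMonoidHom hv)

theorem Ctx.pos_top (hc : Ctx p F R) : Pos p R ⊤ := by
  have h := hc.pos
  rwa [hc.normalizer_eq_top] at h

theorem Ctx.charIrr_top (hc : Ctx p F R) (h : layer2 R ⊤ ≠ phi R) : CharIrr R := by
  refine hc.charIrr ?_
  rwa [hc.normalizer_eq_top]

/-- A flat subgroup of rank three has a transvection and a small power map. -/
theorem Ctx.exists_tv_top (hc : Ctx p F R) (h : layer2 R ⊤ = phi R) :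
    (∃ a x, Tv p R ⊤ a x) ∧ ∀ w : ↥S, w ^ p ∈ phi R := by
  have htop := hc.normalizer_eq_top
  obtain ⟨x₀, hx₀, hx₀E⟩ := SetLike.exists_of_lt hc.lt_normalizer
  have hR1 : layer1 R (normalizer (R : Set ↥S)) ≠ phi R := fun he =>
    hx₀E (hc.toEss.mem_of_trivial hx₀ fun v hv =>
      he.le (mem_sup_right (commutator_mem_commutator (inv_mem hv) hx₀)))
  obtain ⟨a₀, hT₀⟩ := hc.pos.exists_tv hx₀ hx₀E (by rw [htop]; exact h) hR1
  have hexp := hc.pow_mem_phi_normalizer hT₀
  rw [htop] at hT₀ hexp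
  exact ⟨⟨a₀, x₀, hT₀⟩, fun w => hexp w (mem_top w)⟩

/-- No essential subgroup of rank three lies beside the exceptional subgroup. -/
theorem false_of_bad_ctx (hb : BadIn p E ⊤) (hc : Ctx p F R) (hne : R ≠ E) : False := by
  have hp := (Fact.out : p.Prime)
  have hR := hc.pos_top
  by_cases hblock : layer2 R ⊤ = phi R
  swap
  · exact hb.false_of_charIrr hR hne (hc.charIrr_top hblock)
  obtain ⟨⟨a, x, hT⟩, -⟩ := hc.exists_tv_top hblock
  have hΦc : Nat.card (phi R) = p ^ 2 := by
    have hRE : Nat.card R = Nat.card E :=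
      Nat.eq_of_mul_eq_mul_left hp.pos (hR.cardN.symm.trans hb.cardN)
    have h1 := hR.cardE
    rw [hRE, hb.cardE, show p ^ 5 = p ^ 3 * p ^ 2 by ring] at h1
    exact (Nat.eq_of_mul_eq_mul_left (pow_pos hp.pos 3) h1).symm
  have heq : ⁅E, E⁆ = layer1 R ⊤ := eq_of_le_of_card_ge
    (commutator_le.2 fun u _ v _ => hT.comm_le_layer1 u (mem_top u) v (mem_top v))
    (by rw [hT.card_layer1, hΦc, hb.cardD]; exact le_of_eq (by ring))
  exact hb.outer fun u _ g _ => heq.ge (hT.comm_le_layer1 u (mem_top u) g (mem_top g))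

/-- The invariant subgroup of a family of rank three essential subgroups. -/
theorem exists_invariant (hctx : ∀ R : Subgroup ↥S, Ess p F R → Ctx p F R) {R₀ : Subgroup ↥S}
    (h₀ : Ess p F R₀) (hcore : ∀ Q : Subgroup ↥S,
      (∀ α ∈ F.autGroup S, Q.map α.toMonoidHom = Q) →
      (∀ R : Subgroup ↥S, Ess p F R → Q ≤ R ∧ ∀ β ∈ aut F R, ∀ v ∈ Q, ev β v ∈ Q) → Q = ⊥)
    (hna : F.core = ⊥) : False := by
  have hp := (Fact.out : p.Prime)
  have hS := h₀.hS
  have hc₀ := hctx R₀ h₀
  by_cases hblocks : ∃ R, Ess p F R ∧ layer2 R ⊤ ≠ phi R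
  · -- the elements of order `p`
    obtain ⟨R₁, h₁, hb₁⟩ := hblocks
    have hc₁ := hctx R₁ h₁
    have hall : ∀ R, Ess p F R → layer2 R ⊤ ≠ phi R := by
      intro R hR hflat
      have hc := hctx R hR
      obtain ⟨⟨a, x, hT⟩, hexp⟩ := hc.exists_tv_top hflat
      obtain ⟨-, hcard1, -⟩ := hc₁.pos_top.layers hb₁
      have hle : layer1 R₁ ⊤ ≤ layer1 R ⊤ := sup_le
        (phi_le_of (p := p) (fun u _ v _ => hT.comm_le_layer1 u (mem_top u) v (mem_top v))
          fun u _ => mem_sup_left (hexp u))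
        (commutator_le.2 fun u _ v _ => hT.comm_le_layer1 u (mem_top u) v (mem_top v))
      have h1 := Subgroup.card_le_of_le hle
      rw [hcard1, hT.card_layer1, hc.pos_top.card_phi_eq hc₁.pos_top] at h1
      have h2 := Nat.le_of_mul_le_mul_right h1 Nat.card_pos
      have := hp.two_le
      nlinarith
    set X : Set ↥S := {u | u ^ p = 1 ∧ ∀ R, Ess p F R → ∀ α ∈ F.autGroup S,
      u ∈ R.map α.toMonoidHom} with hX
    have hΩ : ∀ R, Ess p F R → ∀ u ∈ R, u ^ p = 1 → u ∈ X := by
      intro R hR u hu hup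
      refine ⟨hup, fun R' hR' α _ => ?_⟩
      have hc := hctx R hR
      by_cases he : R'.map α.toMonoidHom = R
      · rw [he]; exact hu
      exact mem_of_block hc.pos_top ((hctx R' hR').pos_top.map α) he (hall R hR)
        (hc.charIrr_top (hall R hR)) u hu hup
    have hXR : ∀ R, Ess p F R → X ⊆ R := fun R hR u hu => by
      have := hu.2 R hR 1 (one_mem _)
      rwa [show ((1 : MulAut ↥S).toMonoidHom : ↥S →* ↥S) = MonoidHom.id _ from rfl, map_id] at this
    have hQ := hcore (closure X) (fun α hα => by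
      refine eq_of_le_of_card_ge ?_ (card_map_aut _ _).ge
      rw [map_le_iff_le_comap, closure_le]
      rintro u ⟨hup, hu⟩
      refine subset_closure ⟨?_, fun R hR γ hγ => ?_⟩
      · show α u ^ p = 1
        rw [← map_pow, hup, map_one]
      · obtain ⟨v, hv, hvu⟩ := hu R hR (α⁻¹ * γ) (mul_mem (inv_mem hα) hγ)
        refine ⟨v, hv, ?_⟩
        show γ v = α u
        rw [← hvu]
        show γ v = α ((α⁻¹ * γ) v)
        rw [MulAut.mul_apply, MulAut.apply_inv_self])
      fun R hR => ⟨(closure_le _).2 (hXR R hR), fun β _ v hv => by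
        have hle : closure X ≤ ((closure X).comap (R.subtype.comp β.toMonoidHom)).map R.subtype := by
          rw [closure_le]
          intro u hu
          have huR := hXR R hR hu
          refine ⟨⟨u, huR⟩, subset_closure (hΩ R hR _ (β ⟨u, huR⟩).2 ?_), rfl⟩
          show ((β ⟨u, huR⟩ : R) : ↥S) ^ p = 1
          rw [← Subgroup.coe_pow, ← map_pow,
            show (⟨u, huR⟩ : R) ^ p = 1 from Subtype.ext hu.1, map_one]
          rfl
        obtain ⟨w, hw, rfl⟩ := hle hv
        show ev β (w : ↥S) ∈ _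
        rw [ev_apply β w.2]
        exact hw⟩
    have hnt : Nontrivial ↥R₀ := by
      have h1 := hc₀.idx
      have := Nat.one_lt_pow (n := 3) (by norm_num) hp.one_lt
      have : 0 < Nat.card (phi R₀) := Nat.card_pos
      exact Finite.one_lt_card_iff_nontrivial.1 (by nlinarith)
    obtain ⟨k, hk0, hk⟩ := IsPGroup.nontrivial_iff_card (hS.to_subgroup R₀) |>.1 hnt
    obtain ⟨u, hu⟩ := exists_prime_orderOf_dvd_card' p (hk ▸ dvd_pow_self p hk0.ne')
    have hu1 : (u : ↥S) ∈ closure X := subset_closure (hΩ R₀ h₀ u u.2 (by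
      rw [← Subgroup.coe_pow, ← hu, pow_orderOf_eq_one]; rfl))
    rw [hQ, Subgroup.mem_bot] at hu1
    rw [show u = 1 from Subtype.ext hu1, orderOf_one] at hu
    exact hp.one_lt.ne hu
  · -- all flat
    push Not at hblocks
    have hphi : ∀ R R', Ess p F R → Ess p F R' → ∀ α : MulAut ↥S,
        phi (R'.map α.toMonoidHom) = phi R := by
      intro R R' hR hR' α
      have hc := hctx R hR
      have hc' := hctx R' hR'
      obtain ⟨⟨a, x, hT⟩, hexp⟩ := hc.exists_tv_top (hblocks R hR)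
      obtain ⟨-, hexp'⟩ := hc'.exists_tv_top (hblocks R' hR')
      by_cases he : R'.map α.toMonoidHom = R
      · rw [he]
      refine phi_eq_of_flat hT (hc'.pos_top.map α) he (fun w _ => hexp w) fun w _ => ?_
      obtain ⟨w, rfl⟩ := α.surjective w
      rw [← map_phi_aut hS]
      exact ⟨w ^ p, hexp' w, map_pow _ _ _⟩
    have hΦ := hcore (phi R₀) (fun α _ => by rw [map_phi_aut hS]; exact hphi R₀ R₀ h₀ h₀ α)
      fun R hR => by
        have he : phi R₀ = phi R := by
          rw [← hphi R R₀ hR h₀ 1]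
          exact congrArg phi (map_id R₀).symm
        rw [he]
        exact ⟨phi_le R, fun β _ v hv => ev_mem_phi β hv⟩
    have habel : ∀ R, Ess p F R → ∀ α : MulAut ↥S, IsMulCommutative ↥(up (R.map α.toMonoidHom)) := by
      intro R hR α
      have h0 : phi (R.map α.toMonoidHom) = ⊥ := (hphi R₀ R h₀ hR α).trans hΦ
      refine ⟨⟨fun u v => ?_⟩⟩
      obtain ⟨_, u, hu, rfl⟩ := u
      obtain ⟨_, v, hv, rfl⟩ := v
      have h1 : u * v = v * u := commutatorElement_eq_one_iff_mul_comm.1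
        (Subgroup.mem_bot.1 (h0 ▸ comm_mem_phi hS hu hv))
      exact Subtype.ext (congrArg Subtype.val h1 :)
    have hidx : ∀ R : Subgroup ↥S, Pos p R ⊤ → ((up R).subgroupOf S).index = p := by
      intro R hR
      have h1 : (up R).subgroupOf S = R := comap_map_eq_self_of_injective S.subtype_injective R
      rw [h1]
      have h2 := R.card_mul_index
      rw [← card_top (G := ↥S), hR.cardN, mul_comm p] at h2
      exact Nat.eq_of_mul_eq_mul_left Nat.card_pos h2
    have hna' : ¬ IsMulCommutative ↥S := fun hab => by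
      refine h₀.ne_top (eq_top_iff.2 fun g _ => h₀.centralizer_le (mem_centralizer_iff.2 fun v _ => ?_))
      exact hab.is_comm.comm v g
    obtain ⟨R₁, h₁, α, hne⟩ : ∃ R₁, Ess p F R₁ ∧ ∃ α : MulAut ↥S, R₁.map α.toMonoidHom ≠ R₀ := by
      by_contra hcon
      push Not at hcon
      have hR0 := hcore R₀ (fun α _ => hcon R₀ h₀ α) fun R hR => by
        have he := hcon R hR 1
        rw [show ((1 : MulAut ↥S).toMonoidHom : ↥S →* ↥S) = MonoidHom.id _ from rfl, map_id] at he
        subst he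
        exact ⟨le_rfl, fun β _ v hv => ev_mem β hv⟩
      have h1 := hc₀.idx
      rw [hR0, card_bot] at h1
      have := Nat.one_lt_pow (n := 3) (by norm_num) hp.one_lt
      have : 0 < Nat.card (phi (⊥ : Subgroup ↥S)) := Nat.card_pos
      nlinarith
    set R' := R₁.map α.toMonoidHom
    have hP' : Pos p R' ⊤ := (hctx R₁ h₁).pos_top.map α
    have hab₀ : IsMulCommutative ↥(up R₀) := by
      have := habel R₀ h₀ 1
      rwa [show ((1 : MulAut ↥S).toMonoidHom : ↥S →* ↥S) = MonoidHom.id _ from rfl, map_id] at this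
    refine false_of_two_abelian hS h₀.hF (by have := hc₀.hp5; omega) hna' (up_le R₀) hab₀
      (hidx R₀ hc₀.pos_top) (up_le R') (habel R₁ h₁ α) (hidx R' hP')
      (fun he => hne (map_injective S.subtype_injective he)) hna ?_
    rw [← map_inf _ _ _ S.subtype_injective, card_map_of_injective S.subtype_injective]
    have h1 := hc₀.pos_top.card_inf hP' hne
    rw [hc₀.pos_top.cardE, hΦ, card_bot, mul_one] at h1
    have : p * p < p * Nat.card ↥(R₀ ⊓ R') := by
      rw [h1]
      calc p * p = p ^ 2 := (sq p).symm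
        _ < p ^ 3 := Nat.pow_lt_pow_right hp.one_lt (by norm_num)
    exact Nat.lt_of_mul_lt_mul_left this

/-- Some essential subgroup is a pearl. -/
theorem exists_pearl (hS : IsPGroup p S) (hF : F.IsSaturated p) (hp5 : 5 ≤ p) (hr : RankThree p ↥S)
    (hnt : (⊤ : Subgroup ↥S) ≠ ⊥) (hO : F.core = ⊥) : ∃ E : Subgroup ↥S, Ess p F E ∧
      (((∀ u v : ↥E, u * v = v * u) ∧ (∀ v : ↥E, v ^ p = 1) ∧ Nat.card E = p ^ 2) ∨
        (Cfsg.IsExtraspecial p ↥E ∧ Nat.card E = p ^ 3 ∧ ∀ v : ↥E, v ^ p = 1)) := by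
  by_contra hcon
  have hcore : ∀ Q : Subgroup ↥S, (∀ α ∈ F.autGroup S, Q.map α.toMonoidHom = Q) →
      (∀ R : Subgroup ↥S, Ess p F R → Q ≤ R ∧ ∀ β ∈ aut F R, ∀ v ∈ Q, ev β v ∈ Q) → Q = ⊥ := by
    intro Q hA hE
    refine map_injective S.subtype_injective (Eq.trans ?_ (Subgroup.map_bot _).symm)
    refine eq_bot_iff.2 (hO ▸ le_sSup (α := Subgroup Ω) ?_)
    refine (isNormal_iff_essential hS hF).2 fun P hP => ?_
    rcases hP with rfl | hP
    · refine ⟨up_le Q, fun α hα => ?_⟩
      rw [show (up Q).subgroupOf P = Q from comap_map_eq_self_of_injective P.subtype_injective Q]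
      exact hA α hα
    obtain ⟨R, rfl⟩ : ∃ R : Subgroup ↥S, P = up R :=
      ⟨P.subgroupOf S, by rw [up, subgroupOf_map_subtype, inf_eq_left.2 hP.1.1]⟩
    obtain ⟨hQR, hinv⟩ := hE R ⟨hS, hF, hP⟩
    have := finite_of_le (Ω := Ω) (up_le R)
    refine ⟨map_mono hQR, fun α hα => eq_of_le_of_card_ge ?_
      (card_map_of_injective (f := α.toMonoidHom) α.injective).ge⟩
    rintro _ ⟨y, hy, rfl⟩
    have h1 := hinv _ (mem_aut_symm hα) _ (mk_mem hy)
    erw [ev_apply _ (mk_mem y.2)] at h1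
    exact coe_mem_up.2 h1
  have hcases : ∀ R : Subgroup ↥S, Ess p F R → Ctx p F R ∨ BadIn p R ⊤ := by
    intro R hR
    rcases hR.cases hp5 hr with hc | hidx
    · exact Or.inl hc
    rcases hR.two_generated hidx hp5 hr with h1 | h1 | ⟨x, hx, hxR, hb⟩
    · exact absurd ⟨R, hR, Or.inl h1⟩ hcon
    · exact absurd ⟨R, hR, Or.inr h1⟩ hcon
    · have h2 := hR.badIn hidx hx hxR hb
      rw [normalizer_eq_top_of_bad hS h2] at h2
      exact Or.inr h2
  by_cases hbad : ∃ E : Subgroup ↥S, Ess p F E ∧ BadIn p E ⊤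
  · obtain ⟨E, -, hb⟩ := hbad
    have huniq : ∀ R, Ess p F R → R = E := fun R hR => by
      by_contra hne
      rcases hcases R hR with hc | hb'
      · exact false_of_bad_ctx hb hc hne
      · exact hne (hb.unique hb')
    have hE := hcore E (fun α _ => hb.unique (hb.map α (map_top_aut α))) fun R hR => by
      rw [huniq R hR]
      exact ⟨le_rfl, fun β _ v hv => ev_mem β hv⟩
    have h1 := hb.cardE
    rw [hE, card_bot] at h1
    exact absurd h1 (Nat.one_lt_pow (by norm_num) (Fact.out : p.Prime).one_lt).ne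
  have hctx : ∀ R, Ess p F R → Ctx p F R := fun R hR =>
    (hcases R hR).resolve_right fun hb => hbad ⟨R, hR, hb⟩
  by_cases hex : ∃ R, Ess p F R
  · obtain ⟨R₀, h₀⟩ := hex
    exact exists_invariant hctx h₀ hcore hO
  · exact hnt (hcore ⊤ (fun α _ => map_top_aut α) fun R hR => absurd ⟨R, hR⟩ hex)

end Cfsg.Agent.RankThreeNormal
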