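import Cfsg.Agent.Lib.RankThreeNormal.Jordan

/-!
A two-generator `p`-group (`p ≥ 5`) of sectional rank three without characteristic subgroups over
the Frattini subgroup, and with an automorphism acting as a transvection whose `p`-th power is
inner, is elementary abelian, extraspecial, or of order `p⁵` and class three.
-/

set_option autoImplicit false
set_option maxHeartbeats 800000

namespace Cfsg.Agent.RankThreeNormal.RankTwo

open Subgroup Cfsg.Agent Cfsg.Agent.RankThreeNormal
open scoped commutatorElement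

/-! ### Calculations -/

theorem iterate_apply {Q : Type*} [Group Q] {T : MulAut Q} {a b c d e w : Q} (ha : T a = a * b)
    (hb : T b = b * c) (hc : T c = c * d) (hd : T d = d * e) (he : T e = e) (hw : T w = w)
    (hcb : c * b = b * c * w) (hcd : ∀ q, Commute d q) (hce : ∀ q, Commute e q)
    (hcw : ∀ q, Commute w q) (n : ℕ) :
    (T ^ n) a = a * b ^ n * c ^ n.choose 2 * (d * w) ^ n.choose 3 * e ^ n.choose 4 := by
  induction n with
  | zero => simp
  | succ n ih =>
    rw [show (n + 1).choose 4 = n.choose 3 + n.choose 4 from Nat.choose_succ_succ' n 3,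
      show (n + 1).choose 3 = n.choose 2 + n.choose 3 from Nat.choose_succ_succ' n 2,
      show (n + 1).choose 2 = n + n.choose 2 by rw [Nat.choose_succ_succ', Nat.choose_one_right],
      pow_succ' T, MulAut.mul_apply, ih]
    set B := n.choose 2
    set C := n.choose 3
    set D := n.choose 4
    rw [map_mul, map_mul, map_mul, map_mul, map_pow, map_pow, map_pow, map_pow, map_mul, ha, hb, hc,
      hd, he, hw, mul_pow_comm hcb (hcw b) (hcw c), (hcd c).symm.mul_pow,
      show d * e * w = d * w * e by rw [mul_assoc d e w, (hce w).eq, ← mul_assoc],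
      (hce (d * w)).symm.mul_pow, pow_add (d * w), (hcw d).symm.mul_pow B, pow_succ' b, pow_add c,
      pow_add e]
    have h1 : Commute (w ^ B) (c ^ B * d ^ B) := (hcw _).pow_left B
    calc a * b * (b ^ n * c ^ n * w ^ B) * (c ^ B * d ^ B) * ((d * w) ^ C * e ^ C) * e ^ D
        = a * b * b ^ n * c ^ n * (w ^ B * (c ^ B * d ^ B)) * (d * w) ^ C * e ^ C * e ^ D := by group
      _ = a * b * b ^ n * c ^ n * ((c ^ B * d ^ B) * w ^ B) * (d * w) ^ C * e ^ C * e ^ D := by
        rw [h1.eq]
      _ = _ := by group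

/-- The cardinality of the preimage. -/
theorem card_comap {G H : Type*} [Group G] [Group H] [Finite G] {f : G →* H}
    (hf : Function.Surjective f) (L : Subgroup H) :
    Nat.card (L.comap f) = Nat.card f.ker * Nat.card L := by
  have h1 := (L.comap f).card_mul_index
  rw [index_comap_of_surjective L hf, ← f.ker.card_mul_index, index_ker,
    f.range_eq_top.2 hf, card_top, ← L.card_mul_index, ← mul_assoc] at h1
  have : Finite H := Finite.of_surjective f hf
  exact Nat.eq_of_mul_eq_mul_right (Nat.pos_of_ne_zero index_ne_zero_of_finite) h1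

/-- Homomorphisms map Frattini subgroups of subgroups into those of the images. -/
theorem map_phi_le {G H : Type*} [Group G] [Finite G] [Group H] [Finite H] {p : ℕ} [Fact p.Prime]
    (hH : IsPGroup p H) (f : G →* H) (K : Subgroup G) : (phi K).map f ≤ phi (K.map f) := by
  rw [map_le_iff_le_comap]
  refine phi_le_of (p := p) (fun x hx y hy => ?_) fun x hx => ?_
  · rw [mem_comap, map_commutatorElement]
    exact comm_mem_phi hH ⟨x, hx, rfl⟩ ⟨y, hy, rfl⟩
  · rw [mem_comap, map_pow]
    exact pow_mem_phi hH ⟨x, hx, rfl⟩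

/-! ### The configuration -/

variable {E : Type*} [Group E] [Finite E] {p : ℕ} [Fact p.Prime] {θ : MulAut E} {y : E}

/-- A two-generator group with an automorphism acting as a transvection. -/
structure Two (p : ℕ) (E : Type*) [Group E] (θ : MulAut E) (y : E) : Prop where
  hE : IsPGroup p E
  hp5 : 5 ≤ p
  card : Nat.card E = p ^ 2 * Nat.card (frattini E)
  rank : RankThree p E
  irr : ∀ W : Subgroup E, frattini E ≤ W → (∀ β : MulAut E, ∀ v ∈ W, β v ∈ W) →
    W = frattini E ∨ W = ⊤
  moved : ∃ a, a⁻¹ * θ a ∉ frattini E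
  flat : ∀ v, (v⁻¹ * θ v)⁻¹ * θ (v⁻¹ * θ v) ∈ frattini E
  fixy : θ y = y
  pow : ∀ v, (θ ^ p) v = y * v * y⁻¹

/-- `[[E, E], E]`. -/
abbrev G3 (E : Type*) [Group E] : Subgroup E := ⁅commutator E, (⊤ : Subgroup E)⁆

/-- `[[[E, E], E], E]`. -/
abbrev G4 (E : Type*) [Group E] : Subgroup E := ⁅G3 E, (⊤ : Subgroup E)⁆

theorem apply_mem {K : Subgroup E} [hK : K.Characteristic] (β : MulAut E) {v : E} (hv : v ∈ K) :
    β v ∈ K :=
  (characteristic_iff_map_eq.1 hK β).le ⟨v, hv, rfl⟩

/-- A commutator in a normal subgroup bounds the derived subgroup of a two-generator group. -/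
theorem commutator_le_of_gen {N : Subgroup E} [N.Normal] {a b : E}
    (hgen : closure {a, b} = (⊤ : Subgroup E)) (h : ⁅b, a⁆ ∈ N) : commutator E ≤ N := by
  set f := QuotientGroup.mk' N
  have hba : Commute (f b) (f a) := by
    refine commutatorElement_eq_one_iff_mul_comm.1 ?_
    rw [← map_commutatorElement]
    exact (QuotientGroup.eq_one_iff _).2 h
  have hcomm : ∀ u v : E, Commute (f u) (f v) := by
    intro u v
    have hu : u ∈ closure ({a, b} : Set E) := hgen.ge (mem_top u)
    induction hu using closure_induction with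
    | mem u hu =>
      have hv : v ∈ closure ({a, b} : Set E) := hgen.ge (mem_top v)
      induction hv using closure_induction with
      | mem v hv =>
        rcases hu with rfl | rfl <;> rcases hv with rfl | rfl
        exacts [Commute.refl _, hba.symm, hba, Commute.refl _]
      | one => rw [map_one]; exact Commute.one_right _
      | mul v v' _ _ h h' => rw [map_mul]; exact h.mul_right h'
      | inv v _ h => rw [map_inv]; exact h.inv_right
    | one => rw [map_one]; exact Commute.one_left _
    | mul u u' _ _ h h' => rw [map_mul]; exact h.mul_left h'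
    | inv u _ h => rw [map_inv]; exact h.inv_left
  rw [commutator_def, commutator_le]
  intro u _ v _
  refine (QuotientGroup.eq_one_iff _).1 ?_
  show f ⁅u, v⁆ = 1
  rw [map_commutatorElement]
  exact commutatorElement_eq_one_iff_mul_comm.2 (hcomm u v).eq

namespace Two

variable (h : Two p E θ y)
include h

/-- Passing to a quotient by a characteristic subgroup inside `Φ(E)`. -/
theorem quot (K : Subgroup E) [hK : K.Characteristic] (hKΦ : K ≤ frattini E) :
    Two p (E ⧸ K) (QuotientGroup.congr K K θ (characteristic_iff_map_eq.1 hK θ))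
      (QuotientGroup.mk y) := by
  set f := QuotientGroup.mk' K
  have hf : Function.Surjective f := QuotientGroup.mk'_surjective K
  set θq : MulAut (E ⧸ K) := QuotientGroup.congr K K θ (characteristic_iff_map_eq.1 hK θ)
  have hθ : ∀ v, θq (f v) = f (θ v) := fun v => rfl
  have hΦ : (frattini E).map f = frattini (E ⧸ K) := PGroup.map_frattini h.hE f hf
  have hker : f.ker = K := QuotientGroup.ker_mk' K
  have hcom : (frattini (E ⧸ K)).comap f = frattini E := by
    rw [← hΦ, comap_map_eq, hker, sup_eq_left.2 hKΦ]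
  refine ⟨h.hE.to_quotient K, h.hp5, ?_, ?_, ?_, ?_, ?_, ?_, ?_⟩
  · have h1 := card_comap hf (frattini (E ⧸ K))
    rw [hcom, hker] at h1
    have h2 := h.card
    rw [h1, card_eq_card_quotient_mul_card_subgroup K] at h2
    refine Nat.eq_of_mul_eq_mul_right (Nat.card_pos (α := K)) (h2.trans ?_)
    ring
  · intro H L hLH hc hpow
    have h1 := h.rank (H.comap f) (L.comap f) (comap_mono hLH)
      (fun u hu v hv => by
        rw [mem_comap, map_commutatorElement]
        exact hc _ hu _ hv)
      (fun u hu => by rw [mem_comap, map_pow]; exact hpow _ hu)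
    rw [card_comap hf, card_comap hf, ← mul_assoc, mul_comm (p ^ 3), mul_assoc] at h1
    exact Nat.le_of_mul_le_mul_left h1 Nat.card_pos
  · intro W hW hinv
    rcases h.irr (W.comap f) (hcom ▸ comap_mono hW) (fun β v hv => by
      have h1 := hinv (QuotientGroup.congr K K β (characteristic_iff_map_eq.1 hK β)) (f v) hv
      exact h1) with he | he
    · left
      rw [← map_comap_eq_self_of_surjective hf W, he, hΦ]
    · right
      rw [← map_comap_eq_self_of_surjective hf W, he, map_top_of_surjective f hf]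
  · obtain ⟨a, ha⟩ := h.moved
    refine ⟨f a, fun hm => ha ?_⟩
    rw [hθ, ← map_inv, ← map_mul] at hm
    exact hcom.le hm
  · intro q
    obtain ⟨v, rfl⟩ := hf q
    rw [hθ, ← map_inv f, ← map_mul, hθ, ← map_inv, ← map_mul, ← hΦ]
    exact mem_map_of_mem f (h.flat v)
  · show θq (f y) = f y
    rw [hθ, h.fixy]
  · intro q
    obtain ⟨v, rfl⟩ := hf q
    have hpw : ∀ (n : ℕ) (u : E), (θq ^ n) (f u) = f ((θ ^ n) u) := by
      intro n
      induction n with
      | zero => exact fun u => rfl
      | succ n ih => intro u; rw [pow_succ', pow_succ', MulAut.mul_apply, ih, hθ, MulAut.mul_apply]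
    rw [hpw, h.pow, map_mul, map_mul, map_inv]
    rfl

/-- Generators `a`, `a⁻¹θ(a)`. -/
theorem exists_gen : ∃ a b : E, θ a = a * b ∧ b ∉ frattini E ∧ b⁻¹ * θ b ∈ frattini E ∧
    closure {a, b} = (⊤ : Subgroup E) := by
  have hp := (Fact.out : p.Prime)
  obtain ⟨a, ha⟩ := h.moved
  set b := a⁻¹ * θ a with hb
  refine ⟨a, b, by rw [hb, mul_inv_cancel_left], ha, h.flat a, frattini_nongenerating ?_⟩
  have hθΦ : ∀ v ∈ frattini E, θ v ∈ frattini E := fun v hv => apply_mem θ hv
  set M := frattini E ⊔ zpowers b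
  have hMn : M.Normal := ⟨fun v hv g => by
    have h1 : ⁅g, v⁆ ∈ M :=
      mem_sup_left (PGroup.commutator_le_frattini h.hE (commutator_mem_commutator (mem_top g) (mem_top v)))
    have h2 := mul_mem h1 hv
    rwa [commutatorElement_def, inv_mul_cancel_right] at h2⟩
  have haM : a ∉ M := by
    intro haM
    obtain ⟨φ, hφ, i, hi⟩ := mem_sup_zpowers (normalizer_eq_top (H := frattini E) ▸ mem_top b) haM
    refine ha ?_
    let f := QuotientGroup.mk' (frattini E)
    refine (QuotientGroup.eq_one_iff _).1 (?_ : f b = 1)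
    have hb1 : f (θ b) = f b := ((QuotientGroup.eq (s := frattini E)).2 (h.flat a)).symm
    have hφ1 : f φ = 1 := (QuotientGroup.eq_one_iff _).2 hφ
    have hφ2 : f (θ φ) = 1 := (QuotientGroup.eq_one_iff _).2 (hθΦ φ hφ)
    conv_lhs => rw [hb, hi]
    rw [map_mul, map_inv, map_mul θ, map_zpow θ, map_mul, map_mul, map_zpow f, map_zpow f, hφ1, hφ2,
      hb1, one_mul, inv_mul_cancel]
  have hc1 : Nat.card M = Nat.card (frattini E) * p :=
    PGroup.card_sup_zpowers (frattini E) ha (PGroup.pow_mem_frattini h.hE b)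
  have hc2 : Nat.card ↥(M ⊔ zpowers a) = Nat.card M * p :=
    PGroup.card_sup_zpowers M haM (mem_sup_left (PGroup.pow_mem_frattini h.hE a))
  refine eq_top_iff.2 (le_trans (le_of_eq (eq_top_of_le_card (M ⊔ zpowers a) ?_).symm) ?_)
  · rw [hc2, hc1, h.card, mul_comm, sq, mul_assoc]
  · refine sup_le (sup_le le_sup_right ?_) ?_
    · exact (zpowers_le.2 (subset_closure (by simp))).trans le_sup_left
    · exact (zpowers_le.2 (subset_closure (by simp))).trans le_sup_left

/-- A commutative such group has `Φ(E) = 1` when `Φ(E)` has exponent `p`. -/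
theorem frattini_eq_bot_of_comm (hcomm : ∀ u v : E, u * v = v * u)
    (hexp : ∀ v ∈ frattini E, v ^ p = 1) : frattini E = ⊥ := by
  have hp := (Fact.out : p.Prime)
  obtain ⟨a, b, hab, hb, hc, hgen⟩ := h.exists_gen
  set c := b⁻¹ * θ b with hc'
  let P : E →* E := ⟨⟨fun v => v ^ p, one_pow p⟩, fun u v => Commute.mul_pow (hcomm u v) p⟩
  have hΦP : frattini E ≤ P.range := PGroup.frattini_le (p := p)
    (by
      rw [commutator_def, commutator_le]
      intro u _ v _
      rw [commutatorElement_eq_one_iff_mul_comm.2 (hcomm u v)]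
      exact one_mem _)
    fun v => ⟨v, rfl⟩
  obtain ⟨u, hu⟩ := hΦP hc
  set r := u⁻¹ * θ u with hr
  set d := c⁻¹ * θ c with hd
  have hdr : d = r ^ p := by
    rw [hd, hr, ← hu]
    show (u ^ p)⁻¹ * θ (u ^ p) = _
    rw [map_pow, Commute.mul_pow (hcomm _ _), inv_pow]
  have hθd : θ d = d := by
    rw [hdr, map_pow]
    set φ := r⁻¹ * θ r with hφ
    rw [show θ r = r * φ by rw [hφ, mul_inv_cancel_left], Commute.mul_pow (hcomm _ _),
      hexp φ (h.flat u), mul_one]
  have hcm : ∀ q q' : E, Commute q q' := hcomm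
  have h1 := iterate_apply (T := θ) (a := a) (b := b) (c := c) (d := d) (e := 1) (w := 1) hab
    (by rw [hc', mul_inv_cancel_left]) (by rw [hd, mul_inv_cancel_left]) (by rw [hθd, mul_one])
    (map_one θ) (map_one θ) (by rw [mul_one]; exact hcomm c b) (hcm d) (hcm 1) (hcm 1) p
  have hdp : d ^ p = 1 := by
    have h2 : d ∈ frattini E := mul_mem (inv_mem hc) (apply_mem θ hc)
    exact hexp d h2
  rw [h.pow, hcomm y a, mul_inv_cancel_right, one_pow, mul_one, mul_one,
    pow_choose_eq_one h.hp5 (hexp c hc) two_ne_zero (by norm_num),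
    pow_choose_eq_one h.hp5 hdp three_ne_zero (by norm_num), mul_one, mul_one, left_eq_mul] at h1
  rcases h.irr P.ker (fun v hv => hexp v hv)
    (fun β v hv => by
      show β v ^ p = 1
      rw [← map_pow, show v ^ p = 1 from hv, map_one]) with he | he
  · exact absurd (he.le (show b ∈ P.ker from h1)) hb
  · exact eq_bot_iff.2 (PGroup.frattini_le (p := p)
      (by
        rw [commutator_def, commutator_le]
        intro u _ v _
        rw [Subgroup.mem_bot]
        exact commutatorElement_eq_one_iff_mul_comm.2 (hcomm u v))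
      fun v => Subgroup.mem_bot.2 (he.ge (mem_top v)))

/-- `Φ(E) = [E, E]`. -/
theorem frattini_eq : frattini E = commutator E := by
  refine le_antisymm ?_ (PGroup.commutator_le_frattini h.hE)
  set D := commutator E with hD
  set Φ2 : Subgroup E := phi (frattini E)
  have hΦ2 : Φ2.Characteristic := characteristic_iff_map_le.2 fun β => by
    refine (map_phi_le h.hE β.toMonoidHom (frattini E)).trans (le_of_eq ?_)
    rw [characteristic_iff_map_eq.1 (inferInstance : (frattini E).Characteristic) β]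
  have : (D ⊔ Φ2).Characteristic := by
    refine characteristic_iff_map_eq.2 fun β => ?_
    rw [Subgroup.map_sup, characteristic_iff_map_eq.1 (inferInstance : D.Characteristic),
      characteristic_iff_map_eq.1 hΦ2]
  set K := D ⊔ Φ2
  have hKΦ : K ≤ frattini E := sup_le (PGroup.commutator_le_frattini h.hE) (map_subtype_le _)
  set f := QuotientGroup.mk' K
  have hΦ := PGroup.map_frattini h.hE f (QuotientGroup.mk'_surjective K)
  have h1 := (h.quot K hKΦ).frattini_eq_bot_of_comm (fun u v => by
      obtain ⟨u, rfl⟩ := QuotientGroup.mk'_surjective K u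
      obtain ⟨v, rfl⟩ := QuotientGroup.mk'_surjective K v
      refine commutatorElement_eq_one_iff_mul_comm.1 ?_
      rw [← map_commutatorElement]
      exact (QuotientGroup.eq_one_iff _).2 (mem_sup_left (commutator_mem_commutator (mem_top u) (mem_top v))))
    (fun q hq => by
      rw [← hΦ] at hq
      obtain ⟨v, hv, rfl⟩ := hq
      rw [← map_pow]
      exact (QuotientGroup.eq_one_iff _).2 (mem_sup_right (pow_mem_phi h.hE hv)))
  have h2 : frattini E ≤ K := by
    rw [← hΦ, Subgroup.map_eq_bot_iff, QuotientGroup.ker_mk'] at h1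
    exact h1
  intro v hv
  have h3 : D.subgroupOf (frattini E) ⊔ frattini ↥(frattini E) = ⊤ := by
    refine map_injective (frattini E).subtype_injective ?_
    rw [Subgroup.map_sup, subgroupOf_map_subtype, inf_eq_left.2 (PGroup.commutator_le_frattini h.hE),
      ← MonoidHom.range_eq_map, Subgroup.range_subtype]
    exact le_antisymm hKΦ h2
  exact (frattini_nongenerating h3).ge (mem_top ⟨v, hv⟩)

end Two

/-! ### Class at most three -/

theorem le_center_of_commutator_eq_bot {H : Subgroup E} (hH : ⁅H, (⊤ : Subgroup E)⁆ = ⊥) :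
    H ≤ center E := fun v hv => mem_center_iff.2 fun g =>
  (commutatorElement_eq_one_iff_mul_comm.1 (Subgroup.mem_bot.1
    (hH.le (commutator_mem_commutator hv (mem_top g))))).symm

theorem commutator_eq_bot_of_le_center {H : Subgroup E} (hH : H ≤ center E) :
    ⁅H, (⊤ : Subgroup E)⁆ = ⊥ := eq_bot_iff.2 (commutator_le.2 fun v hv g _ =>
  Subgroup.mem_bot.2 (commutatorElement_eq_one_iff_mul_comm.2 (mem_center_iff.1 (hH hv) g).symm))

theorem eq_bot_of_le_commutator (hE : IsPGroup p E) {H : Subgroup E} [H.Normal]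
    (hH : H ≤ ⁅H, (⊤ : Subgroup E)⁆) : H = ⊥ := by
  by_contra hne
  exact (PGroup.commutator_top_lt hE H hne).not_ge hH

/-- With the derived subgroup abelian, `p`-th powers central and class at most four, the derived
subgroup has exponent `p`. -/
theorem commutator_exp (hp5 : 5 ≤ p) (hD : ∀ u ∈ commutator E, ∀ v ∈ commutator E, Commute u v)
    (hpc : ∀ u : E, u ^ p ∈ center E) (hG4 : G4 E ≤ center E) :
    ∀ d ∈ commutator E, d ^ p = 1 := by
  have key : ∀ g₁ g₂ : E, ⁅g₁, g₂⁆ ^ p = 1 := by
    intro g₁ g₂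
    set T : MulAut E := MulAut.conj g₂ with hT
    have hTp : ∀ q, (T ^ p) q = q := fun q => by
      rw [hT, ← map_pow, MulAut.conj_apply, ← mem_center_iff.1 (hpc g₂) q, mul_inv_cancel_right]
    set b := ⁅g₁, g₂⁆ with hb
    set c := b⁻¹ * T b with hc
    set d := c⁻¹ * T c with hd
    have hbD : b ∈ commutator E := commutator_mem_commutator (mem_top _) (mem_top _)
    have hstep : ∀ (H : Subgroup E) v, v ∈ H → v⁻¹ * T v ∈ ⁅H, (⊤ : Subgroup E)⁆ := fun H v hv => by
      rw [show v⁻¹ * T v = ⁅v⁻¹, g₂⁆ by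
        rw [hT, MulAut.conj_apply, commutatorElement_def]; group]
      exact commutator_mem_commutator (inv_mem hv) (mem_top _)
    have hc3 : c ∈ G3 E := hstep _ b hbD
    have hd4 : d ∈ G4 E := hstep _ c hc3
    have hcD : c ∈ commutator E := commutator_le_left _ _ hc3
    have hdc : ∀ q, Commute d q := fun q => (mem_center_iff.1 (hG4 hd4) q).symm
    have hTa : T g₁⁻¹ = g₁⁻¹ * b := by
      rw [hT, MulAut.conj_apply, hb, commutatorElement_def]; group
    have hTb : T b = b * c := by rw [hc, mul_inv_cancel_left]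
    have hTc : T c = c * d := by rw [hd, mul_inv_cancel_left]
    have hTd : T d = d := by
      rw [hT, MulAut.conj_apply, ← (hdc g₂).eq, mul_inv_cancel_right]
    have h1 : ∀ q : E, Commute (1 : E) q := fun q => Commute.one_left q
    have e1 := iterate_apply (T := T) (a := c) (b := d) (c := 1) (d := 1) (e := 1) (w := 1) hTc
      (by rw [hTd, mul_one]) (by simp) (by simp) (map_one T) (map_one T) (by simp) h1 h1 h1 p
    rw [hTp] at e1
    simp only [one_pow, mul_one, left_eq_mul] at e1
    have e2 := iterate_apply (T := T) (a := b) (b := c) (c := d) (d := 1) (e := 1) (w := 1) hTb hTc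
      (by rw [hTd, mul_one]) (by simp) (map_one T) (map_one T)
      (by rw [mul_one]; exact (hdc c).eq) h1 h1 h1 p
    rw [hTp, pow_choose_eq_one hp5 e1 two_ne_zero (by norm_num)] at e2
    simp only [one_pow, mul_one, left_eq_mul] at e2
    have e3 := iterate_apply (T := T) (a := g₁⁻¹) (b := b) (c := c) (d := d) (e := 1) (w := 1) hTa hTb
      hTc (by rw [hTd, mul_one]) (map_one T) (map_one T)
      (by rw [mul_one]; exact (hD c hcD b hbD).eq) hdc h1 h1 p
    rw [hTp, pow_choose_eq_one hp5 e2 two_ne_zero (by norm_num), mul_one d,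
      pow_choose_eq_one hp5 e1 three_ne_zero (by norm_num)] at e3
    simp only [one_pow, mul_one, left_eq_mul] at e3
    exact e3
  intro d hd
  have hd' : d ∈ closure {g : E | ∃ g₁ ∈ (⊤ : Subgroup E), ∃ g₂ ∈ (⊤ : Subgroup E), ⁅g₁, g₂⁆ = g} := hd
  clear hd
  induction hd' using closure_induction with
  | mem u hu => obtain ⟨g₁, -, g₂, -, rfl⟩ := hu; exact key g₁ g₂
  | one => exact one_pow p
  | mul u v hu hv h h' => rw [(hD u hu v hv).mul_pow, h, h', one_mul]
  | inv u _ h => rw [inv_pow, h, inv_one]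

theorem map_commutator_top {H : Type*} [Group H] (f : E →* H) (hf : Function.Surjective f) :
    (commutator E).map f = commutator H := by
  show Subgroup.map f ⁅(⊤ : Subgroup E), (⊤ : Subgroup E)⁆ = ⁅(⊤ : Subgroup H), (⊤ : Subgroup H)⁆
  rw [Subgroup.map_commutator, map_top_of_surjective f hf]

theorem map_G3 {H : Type*} [Group H] (f : E →* H) (hf : Function.Surjective f) :
    (G3 E).map f = G3 H := by
  show Subgroup.map f ⁅commutator E, (⊤ : Subgroup E)⁆ = ⁅commutator H, (⊤ : Subgroup H)⁆
  rw [Subgroup.map_commutator, map_commutator_top f hf, map_top_of_surjective f hf]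

theorem map_G4 {H : Type*} [Group H] (f : E →* H) (hf : Function.Surjective f) :
    (G4 E).map f = G4 H := by
  show Subgroup.map f ⁅G3 E, (⊤ : Subgroup E)⁆ = ⁅G3 H, (⊤ : Subgroup H)⁆
  rw [Subgroup.map_commutator, map_G3 f hf, map_top_of_surjective f hf]

/-- The remaining configuration: order `p⁵`, class three, exponent `p`. -/
structure Bad (p : ℕ) (E : Type*) [Group E] (θ : MulAut E) : Prop where
  exp : ∀ v : E, v ^ p = 1
  frat : frattini E = commutator E
  card : Nat.card E = p ^ 5
  cardD : Nat.card (commutator E) = p ^ 3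
  cardG : Nat.card (G3 E) = p ^ 2
  central : G3 E ≤ center E
  commD : ∀ u ∈ commutator E, ∀ v ∈ commutator E, Commute u v
  inj : ∀ w ∈ commutator E, w ∉ G3 E → ∀ e, Commute e w → e ∈ frattini E
  moved : ∃ v ∈ G3 E, θ v ≠ v

namespace Two

variable (h : Two p E θ y)
include h

theorem index_frattini : (frattini E).index = p ^ 2 := by
  have h1 := (frattini E).card_mul_index
  rw [h.card, mul_comm (p ^ 2)] at h1
  exact Nat.eq_of_mul_eq_mul_left Nat.card_pos h1

/-- Class two. -/
theorem class_two (hD : commutator E ≤ center E) :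
    Nat.card (commutator E) ≤ p ∧ ∀ v : E, v ^ p = 1 := by
  have hp := (Fact.out : p.Prime)
  have hp2 : p ≠ 2 := by have := h.hp5; omega
  obtain ⟨a, b, hab, hb, hc, hgen⟩ := h.exists_gen
  have hΦ := h.frattini_eq
  set w := ⁅b, a⁆
  have hwD : w ∈ commutator E := commutator_mem_commutator (mem_top _) (mem_top _)
  have : (zpowers w).Normal := ⟨fun v hv g => by
    rw [mem_center_iff.1 (zpowers_le.2 (hD hwD) hv) g, mul_inv_cancel_right]; exact hv⟩
  have hwp : w ^ p = 1 := by
    rw [← PGroup.commutator_pow_left (hD hwD)]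
    exact commutatorElement_eq_one_iff_mul_comm.2
      (mem_center_iff.1 (hD (hΦ ▸ PGroup.pow_mem_frattini h.hE b)) a).symm
  have hle : commutator E ≤ zpowers w := commutator_le_of_gen hgen (mem_zpowers w)
  have hcard : Nat.card (commutator E) ≤ p := by
    refine (Subgroup.card_le_of_le hle).trans ?_
    rw [Nat.card_zpowers]
    exact Nat.le_of_dvd hp.pos (orderOf_dvd_of_pow_eq_one hwp)
  refine ⟨hcard, ?_⟩
  have hDp : ∀ d ∈ commutator E, d ^ p = 1 := fun d hd => by
    obtain ⟨i, rfl⟩ := mem_zpowers_iff.1 (hle hd)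
    rw [← zpow_natCast, ← zpow_mul, mul_comm, zpow_mul, zpow_natCast, hwp, one_zpow]
  let P : E →* E := ⟨⟨fun v => v ^ p, one_pow p⟩, fun u v =>
    PGroup.mul_pow_prime hp hp2 (hD (commutator_mem_commutator (mem_top _) (mem_top _)))
      (hDp _ (commutator_mem_commutator (mem_top _) (mem_top _)))⟩
  rcases h.irr P.ker (fun v hv => hDp v (hΦ.le hv))
    (fun β v hv => by
      show β v ^ p = 1
      rw [← map_pow, show v ^ p = 1 from hv, map_one]) with he | he
  · exfalso
    have h1 : P.ker.index ≤ p := by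
      rw [index_ker]
      refine (Subgroup.card_le_of_le (?_ : P.range ≤ commutator E)).trans hcard
      rintro _ ⟨v, rfl⟩
      exact hΦ.le (PGroup.pow_mem_frattini h.hE v)
    rw [he, h.index_frattini, sq] at h1
    have := hp.two_le
    nlinarith
  · exact fun v => he.ge (mem_top v)

/-- Class three. -/
theorem class_three (hG : G3 E ≤ center E) (hne : G3 E ≠ ⊥) : Bad p E θ := by
  have hp := (Fact.out : p.Prime)
  have hp5 := h.hp5
  obtain ⟨a, b, hab, hb, hc, hgen⟩ := h.exists_gen
  have hΦ := h.frattini_eq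
  set D := commutator E with hDdef
  have hG3D : G3 E ≤ D := commutator_le_left _ _
  -- modulo the last term
  set f := QuotientGroup.mk' (G3 E) with hf
  have hfs : Function.Surjective f := QuotientGroup.mk'_surjective _
  have hfone : ∀ {v : E}, f v = 1 ↔ v ∈ G3 E := fun {v} => QuotientGroup.eq_one_iff v
  have hmapD : D.map f = commutator (E ⧸ G3 E) := map_commutator_top f hfs
  have hDc : commutator (E ⧸ G3 E) ≤ center (E ⧸ G3 E) := le_center_of_commutator_eq_bot (by
    rw [← hmapD, ← map_top_of_surjective f hfs, ← Subgroup.map_commutator, QuotientGroup.map_mk'_self])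
  obtain ⟨hq1, hq2⟩ := (h.quot (G3 E) (hΦ ▸ hG3D)).class_two hDc
  have hpow3 : ∀ v : E, v ^ p ∈ G3 E := fun v => hfone.1 (by rw [map_pow]; exact hq2 (f v))
  have hcardle : Nat.card D ≤ p * Nat.card (G3 E) := by
    have h1 := card_comap hfs (commutator (E ⧸ G3 E))
    rw [← hmapD, comap_map_eq, QuotientGroup.ker_mk', sup_eq_left.2 hG3D, hmapD] at h1
    rw [h1, mul_comm]
    exact Nat.mul_le_mul_right _ hq1
  have hGc : ∀ g ∈ G3 E, ∀ q, Commute g q := fun g hg q => (mem_center_iff.1 (hG hg) q).symm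
  set w := ⁅b, a⁆ with hw
  have hwD : w ∈ D := commutator_mem_commutator (mem_top _) (mem_top _)
  set N := G3 E ⊔ zpowers w
  have hND : N ≤ D := sup_le hG3D (zpowers_le.2 hwD)
  have : N.Normal := ⟨fun v hv g => by
    have h1 : ⁅g, v⁆ ∈ N := by
      rw [← commutatorElement_inv]
      exact inv_mem (mem_sup_left (commutator_mem_commutator (hND hv) (mem_top g)))
    have h2 := mul_mem h1 hv
    rwa [commutatorElement_def, inv_mul_cancel_right] at h2⟩
  have hDN : D ≤ N := commutator_le_of_gen hgen (mem_sup_right (mem_zpowers w))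
  have hDform : ∀ v ∈ D, ∃ g ∈ G3 E, ∃ i : ℤ, v = g * w ^ i := fun v hv =>
    mem_sup_zpowers (normalizer_eq_top (H := G3 E) ▸ mem_top w) (hDN hv)
  have hDcomm : ∀ u ∈ D, ∀ v ∈ D, Commute u v := by
    intro u hu v hv
    obtain ⟨g, hg, i, rfl⟩ := hDform u hu
    obtain ⟨g', hg', j, rfl⟩ := hDform v hv
    exact (hGc g hg _).mul_left (((hGc g' hg' _).symm).mul_right ((Commute.refl w).zpow_zpow i j))
  have hG4 : G4 E ≤ center E := (commutator_le_left _ _).trans hG
  have hDp : ∀ d ∈ D, d ^ p = 1 := commutator_exp hp5 hDcomm (fun u => hG (hpow3 u)) hG4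
  -- commutation with `w`
  have hmemG : ∀ v : E, ⁅v, w⁆ ∈ G3 E := fun v => by
    rw [← commutatorElement_inv]
    exact inv_mem (commutator_mem_commutator hwD (mem_top v))
  let ψ : E →* E := ⟨⟨fun v => ⁅v, w⁆, commutatorElement_one_left w⟩,
    fun u v => PGroup.commutator_mul_left (hG (hmemG v))⟩
  have hψ : ψ.range = G3 E := by
    refine le_antisymm (by rintro _ ⟨v, rfl⟩; exact hmemG v) (commutator_le.2 fun v hv e _ => ?_)
    obtain ⟨g, hg, i, rfl⟩ := hDform v hv
    rw [commutatorElement_mul_left_eq_conj_mul,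
      commutatorElement_eq_one_iff_mul_comm.2 (hGc g hg e).eq, mul_one,
      (hGc g hg _).eq, mul_inv_cancel_right,
      PGroup.commutator_zpow_left (hG (commutator_mem_commutator hwD (mem_top e)))]
    refine zpow_mem ?_ i
    rw [← commutatorElement_inv]
    exact inv_mem ⟨e, rfl⟩
  have hker : ∀ v, v ∈ ψ.ker ↔ ∀ d ∈ D, Commute v d := fun v => by
    refine ⟨fun hv d hd => ?_, fun hv => commutatorElement_eq_one_iff_mul_comm.2 (hv w hwD).eq⟩
    obtain ⟨g, hg, i, rfl⟩ := hDform d hd
    exact ((hGc g hg v).symm).mul_right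
      ((show Commute v w from commutatorElement_eq_one_iff_mul_comm.1 hv).zpow_right i)
  have hkerΦ : ψ.ker = frattini E := by
    rcases h.irr ψ.ker (fun v hv => (hker v).2 (hDcomm v (hΦ.le hv)))
      (fun β v hv => (hker _).2 fun d hd => by
        have := ((hker v).1 hv (β.symm d) (apply_mem (β.symm : MulAut E) hd)).map β
        rwa [MulEquiv.apply_symm_apply] at this) with he | he
    · exact he
    · refine absurd ?_ hne
      rw [← hψ]
      rw [MonoidHom.range_eq_map, Subgroup.map_eq_bot_iff, he]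
  have hcardG : Nat.card (G3 E) = p ^ 2 := by
    rw [← hψ, ← index_ker, hkerΦ, h.index_frattini]
  have hlt : G3 E < D := lt_of_le_of_ne hG3D fun he =>
    hne (he ▸ eq_bot_of_le_commutator h.hE (H := D) he.ge)
  have hcardD : Nat.card D = p ^ 3 := by
    have h1 := PGroup.mul_card_le_card h.hE hlt
    have h2 := le_antisymm hcardle h1
    rw [h2, hcardG]; ring
  have hinj : ∀ v ∈ D, v ∉ G3 E → ∀ q, Commute q v → q ∈ frattini E := by
    intro v hv hvG q hq
    obtain ⟨g, hg, i, rfl⟩ := hDform v hv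
    have hi : ¬ (p : ℤ) ∣ i := fun ⟨m, hm⟩ => hvG (by
      rw [hm, zpow_mul, zpow_natCast, hDp w hwD, one_zpow, mul_one]; exact hg)
    have h1 : Commute q (w ^ i) := by
      have := ((hGc g hg q).inv_left.symm).mul_right hq
      rwa [inv_mul_cancel_left] at this
    obtain ⟨u, v', huv⟩ : IsCoprime i (p : ℤ) :=
      (((Nat.prime_iff_prime_int.1 hp).coprime_iff_not_dvd).2 hi).symm
    have h2 : Commute q ((w ^ i) ^ u * (w ^ (p : ℤ)) ^ v') := by
      rw [zpow_natCast, hDp w hwD, one_zpow, mul_one]; exact h1.zpow_right u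
    rw [← zpow_mul, ← zpow_mul, ← zpow_add, mul_comm i, mul_comm (p : ℤ), huv, zpow_one] at h2
    exact hkerΦ.le (commutatorElement_eq_one_iff_mul_comm.2 h2.eq)
  have hψD : ∀ v ∈ D, ψ v = 1 := fun v hv => hkerΦ.ge (hΦ.ge hv)
  -- the automorphism on the derived subgroup
  obtain ⟨c, hcdef⟩ : ∃ c, c = b⁻¹ * θ b := ⟨_, rfl⟩
  rw [← hcdef] at hc
  have hcD : c ∈ D := hΦ.le hc
  have hθb : θ b = b * c := by rw [hcdef, mul_inv_cancel_left]
  have hθw : w⁻¹ * θ w ∈ G3 E := by
    refine (QuotientGroup.eq (s := G3 E)).1 (?_ : f w = f (θ w))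
    have hcz : ∀ q, Commute (f c) q := fun q =>
      (mem_center_iff.1 (hDc (hmapD.le (mem_map_of_mem f hcD))) q).symm
    rw [hw, map_commutatorElement θ, hab, hθb, map_commutatorElement, map_commutatorElement, map_mul,
      map_mul, commutatorElement_mul_left_eq_conj_mul,
      commutatorElement_eq_one_iff_mul_comm.2 (hcz _).eq, mul_one, mul_inv_cancel, one_mul,
      commutatorElement_mul_right_eq_mul_conj, commutatorElement_self, mul_one, mul_inv_cancel_right]
  have hθD : ∀ v ∈ D, v⁻¹ * θ v ∈ G3 E := by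
    intro v hv
    obtain ⟨g, hg, i, rfl⟩ := hDform v hv
    refine (QuotientGroup.eq (s := G3 E)).1 (?_ : f (g * w ^ i) = f (θ (g * w ^ i)))
    have h1 : f (θ w) = f w := ((QuotientGroup.eq (s := G3 E)).2 hθw).symm
    rw [map_mul, map_zpow, map_mul θ, map_zpow θ, map_mul, map_zpow, hfone.2 hg,
      hfone.2 (apply_mem θ hg), h1]
  have hθψ : ∀ v, θ (ψ v) = ψ (θ v) := fun v => by
    show θ ⁅v, w⁆ = ⁅θ v, w⁆
    rw [map_commutatorElement, show θ w = w * (w⁻¹ * θ w) by rw [mul_inv_cancel_left],
      commutatorElement_mul_right_eq_mul_conj,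
      commutatorElement_eq_one_iff_mul_comm.2 (hGc _ hθw _).symm.eq, mul_one, mul_inv_cancel_right]
  obtain ⟨d, hddef⟩ : ∃ d, d = c⁻¹ * θ c := ⟨_, rfl⟩
  have hd3 : d ∈ G3 E := hddef ▸ hθD c hcD
  obtain ⟨r₀, hr₀⟩ := hψ.ge hd3
  set r := r₀⁻¹ * θ r₀ with hr
  set e := ψ r with he
  have he3 : e ∈ G3 E := hψ.le ⟨r, rfl⟩
  have hθd : θ d = d * e := by
    rw [← hr₀, hθψ, he, ← map_mul, hr, mul_inv_cancel_left]
  have hθe : θ e = e := by
    rw [he, hθψ, show θ r = r * (r⁻¹ * θ r) by rw [mul_inv_cancel_left], map_mul ψ,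
      hψD _ (hΦ.le (h.flat r₀)), mul_one]
  set w₀ := (b * c)⁻¹ * (c * b) with hw₀
  have hw₀3 : w₀ ∈ G3 E := by
    rw [show w₀ = ⁅c⁻¹, b⁻¹⁆ by simp only [hw₀, commutatorElement_def]; group]
    exact commutator_mem_commutator (inv_mem hcD) (mem_top _)
  have hcb : c * b = b * c * w₀ := by rw [hw₀, mul_inv_cancel_left]
  have hθw₀ : θ w₀ = w₀ := by
    have hdc : ∀ q, Commute d q := hGc d hd3
    calc θ w₀ = (b * c * (c * d))⁻¹ * (c * d * (b * c)) := by
          rw [hw₀, map_mul, map_inv, map_mul, map_mul, hθb, show θ c = c * d by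
            rw [hddef, mul_inv_cancel_left]]
      _ = d⁻¹ * (c⁻¹ * (c⁻¹ * b⁻¹ * (c * b)) * c) * d := by
          rw [show c * d * (b * c) = c * (b * c) * d by rw [mul_assoc, (hdc (b * c)).eq, ← mul_assoc]]
          group
      _ = w₀ := by
          rw [show c⁻¹ * b⁻¹ * (c * b) = w₀ by rw [hw₀]; group, (hGc w₀ hw₀3 c).symm.inv_left.eq,
            inv_mul_cancel_right, (hdc w₀).inv_left.eq, inv_mul_cancel_right]
  have hcp := hDp c hcD
  have hbp3 := hpow3 b
  have hθp : (θ ^ p) a = a * b ^ p := by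
    rw [iterate_apply hab hθb (show θ c = c * d by rw [hddef, mul_inv_cancel_left]) hθd hθe hθw₀ hcb
      (hGc d hd3) (hGc e he3) (hGc w₀ hw₀3) p, pow_choose_eq_one hp5 hcp two_ne_zero (by norm_num),
      pow_choose_eq_one hp5 (hDp _ (mul_mem (hG3D hd3) (hG3D hw₀3))) three_ne_zero (by norm_num),
      pow_choose_eq_one hp5 (hDp e (hG3D he3)) (by norm_num) (by norm_num), mul_one, mul_one, mul_one]
  have hya : ⁅a⁻¹, y⁆ = b ^ p := by
    rw [h.pow] at hθp
    rw [commutatorElement_def, inv_inv, show a⁻¹ * y * a * y⁻¹ = a⁻¹ * (y * a * y⁻¹) by group, hθp,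
      inv_mul_cancel_left]
  -- `y` lies in `Φ(E)`
  have hyΦ : y ∈ frattini E := by
    set F' := QuotientGroup.mk' (frattini E) with hF
    have hFc : ∀ u v : E, Commute (F' u) (F' v) := fun u v => by
      refine commutatorElement_eq_one_iff_mul_comm.1 ?_
      rw [← map_commutatorElement]
      exact (QuotientGroup.eq_one_iff _).2 (hΦ.ge (commutator_mem_commutator (mem_top u) (mem_top v)))
    have hFp : ∀ u : E, F' u ^ p = 1 := fun u => by
      rw [← map_pow]; exact (QuotientGroup.eq_one_iff _).2 (PGroup.pow_mem_frattini h.hE u)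
    have hcomb : ∀ v : E, ∃ i j : ℤ, F' v = F' a ^ i * F' b ^ j := by
      intro v
      have hv : v ∈ closure ({a, b} : Set E) := hgen.ge (mem_top v)
      induction hv using closure_induction with
      | mem v hv =>
        rcases hv with rfl | rfl
        exacts [⟨1, 0, by simp⟩, ⟨0, 1, by simp⟩]
      | one => exact ⟨0, 0, by simp⟩
      | mul u v _ _ hu hv =>
        obtain ⟨i, j, hu⟩ := hu
        obtain ⟨i', j', hv⟩ := hv
        refine ⟨i + i', j + j', ?_⟩
        rw [map_mul, hu, hv, zpow_add, zpow_add]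
        exact ((hFc b a).zpow_zpow j i').mul_mul_mul_comm _ _
      | inv u _ hu =>
        obtain ⟨i, j, hu⟩ := hu
        exact ⟨-i, -j, by rw [map_inv, hu, ((hFc a b).zpow_zpow i j).eq, mul_inv_rev, zpow_neg, zpow_neg]⟩
    obtain ⟨i, j, hij⟩ := hcomb y
    have hθF : ∀ u v : E, F' u = F' v → F' (θ u) = F' (θ v) := fun u v huv => by
      have h1 : u⁻¹ * v ∈ frattini E := (QuotientGroup.eq (s := frattini E)).1 huv
      refine (QuotientGroup.eq (s := frattini E)).2 ?_
      rw [← map_inv, ← map_mul]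
      exact apply_mem θ h1
    have h1 := hθF y (a ^ i * b ^ j) (by rw [hij, map_mul, map_zpow, map_zpow])
    rw [h.fixy, hij, map_mul θ, map_zpow θ, map_zpow θ, hab, hθb, map_mul, map_zpow, map_zpow, map_mul,
      map_mul, show F' c = 1 from (QuotientGroup.eq_one_iff _).2 hc, mul_one, (hFc a b).mul_zpow,
      mul_assoc, mul_right_inj, right_eq_mul] at h1
    have hb1 : F' b ≠ 1 := fun h' => hb ((QuotientGroup.eq_one_iff _).1 h')
    obtain ⟨m, hm⟩ := dvd_of_zpow_eq_one (hFp b) hb1 h1
    have hy' : F' y = F' b ^ j := by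
      rw [hij, hm, zpow_mul, zpow_natCast, hFp, one_zpow, one_mul]
    have hφ : (b ^ j)⁻¹ * y ∈ D := hΦ.le ((QuotientGroup.eq (s := frattini E)).1
      ((map_zpow F' b j).trans hy'.symm))
    have hbj : (⁅a⁻¹, b⁆) ^ j ∈ G3 E := by
      have hcen := hDc
      have h2 : f ⁅a⁻¹, y⁆ = 1 := by rw [hya]; exact hfone.2 hbp3
      have hz : ∀ q, Commute (f ((b ^ j)⁻¹ * y)) q := fun q =>
        (mem_center_iff.1 (hDc (hmapD.le (mem_map_of_mem f hφ))) q).symm
      rw [show y = b ^ j * ((b ^ j)⁻¹ * y) by rw [mul_inv_cancel_left], map_commutatorElement, map_mul f,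
        commutatorElement_mul_right_eq_mul_conj,
        commutatorElement_eq_one_iff_mul_comm.2 (hz _).symm.eq, mul_one, mul_inv_cancel_right,
        map_zpow] at h2
      refine hfone.1 ?_
      have hzc : ∀ q, Commute ⁅f a⁻¹, f b⁆ q := fun q =>
        (mem_center_iff.1 (hDc (commutator_mem_commutator (mem_top _) (mem_top _))) q).symm
      have h3 := Cfsg.Agent.Fusion.MaxClassRankThree.comm_zpow_right (hzc (f b)) j
      rw [map_zpow, map_commutatorElement, ← h3]
      exact h2
    have hu1 : ⁅a⁻¹, b⁆ ∉ G3 E := fun h' => by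
      have h2 : w ∈ G3 E := by
        have := (inferInstance : (G3 E).Normal).conj_mem _ h' a
        rw [show a * ⁅a⁻¹, b⁆ * a⁻¹ = w by simp only [hw, commutatorElement_def]; group] at this
        exact this
      exact hlt.not_ge (commutator_le_of_gen hgen h2)
    have hj : (p : ℤ) ∣ j := dvd_of_zpow_eq_one (q := f ⁅a⁻¹, b⁆)
      (by rw [← map_pow, hDp _ (commutator_mem_commutator (mem_top _) (mem_top _)), map_one])
      (fun h' => hu1 (hfone.1 h')) (by rw [← map_zpow]; exact hfone.2 hbj)
    obtain ⟨m', rfl⟩ := hj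
    refine (QuotientGroup.eq_one_iff _).1 (?_ : F' y = 1)
    rw [hy', zpow_mul, zpow_natCast, hFp, one_zpow]
  have hyG : y ∈ G3 E := by
    by_contra hyG
    refine hb (inv_mem_iff.1 (hinj y (hΦ.le hyΦ) hyG b⁻¹ ?_))
    have h1 : θ (b ^ p) = b ^ p := by
      rw [map_pow, hθb, mul_pow_comm hcb (hGc w₀ hw₀3 b) (hGc w₀ hw₀3 c), hcp,
        pow_choose_eq_one hp5 (hDp _ (hG3D hw₀3)) two_ne_zero (by norm_num), mul_one, mul_one]
    rw [← hya, map_commutatorElement, map_inv, hab, h.fixy, mul_inv_rev,
      commutatorElement_mul_left_eq_conj_mul, ← (hGc _ (hya ▸ hbp3) b⁻¹).eq, mul_inv_cancel_right,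
      mul_eq_left] at h1
    exact commutatorElement_eq_one_iff_mul_comm.1 h1
  have hbp : b ^ p = 1 := by
    rw [← hya]
    exact commutatorElement_eq_one_iff_mul_comm.2 (hGc y hyG a⁻¹).symm.eq
  have hmul : ∀ u v : E, (u * v) ^ p = u ^ p * v ^ p := by
    intro u v
    set b' := u⁻¹ * (v * u * v⁻¹) with hb'
    have hb'D : b' ∈ D := by
      rw [show b' = ⁅u⁻¹, v⁆ by simp only [hb', commutatorElement_def]; group]
      exact commutator_mem_commutator (mem_top _) (mem_top _)
    set c' := b'⁻¹ * (v * b' * v⁻¹) with hc'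
    have hc'3 : c' ∈ G3 E := by
      rw [show c' = ⁅b'⁻¹, v⁆ by simp only [hc', commutatorElement_def]; group]
      exact commutator_mem_commutator (inv_mem hb'D) (mem_top _)
    set w' := (u * b')⁻¹ * (b' * u) with hw'
    have hw'3 : w' ∈ G3 E := by
      rw [show w' = ⁅b'⁻¹, u⁻¹⁆ by simp only [hw', commutatorElement_def]; group]
      exact commutator_mem_commutator (inv_mem hb'D) (mem_top _)
    rw [shift_pow (x := v) (a := u) (b := b') (c := c') (w := w') (by rw [hb', mul_inv_cancel_left])
      (by rw [hc', mul_inv_cancel_left]) (by rw [← (hGc c' hc'3 v).eq, mul_inv_cancel_right])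
      (by rw [← (hGc w' hw'3 v).eq, mul_inv_cancel_right]) (by rw [hw', mul_inv_cancel_left])
      (hGc w' hw'3 u) (hGc w' hw'3 b') (hGc w' hw'3 c') (hGc c' hc'3 b') p,
      pow_choose_eq_one hp5 (hDp b' hb'D) two_ne_zero (by norm_num),
      pow_choose_eq_one hp5 (hDp c' (hG3D hc'3)) three_ne_zero (by norm_num),
      pow_choose_eq_one hp5 (hDp w' (hG3D hw'3)) three_ne_zero (by norm_num), mul_one, mul_one, mul_one]
  let P : E →* E := ⟨⟨fun v => v ^ p, one_pow p⟩, hmul⟩
  have hexp : ∀ v : E, v ^ p = 1 := by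
    rcases h.irr P.ker (fun v hv => hDp v (hΦ.le hv))
      (fun β v hv => by
        show β v ^ p = 1
        rw [← map_pow, show v ^ p = 1 from hv, map_one]) with he | he
    · exact absurd (he.le (show b ∈ P.ker from hbp)) hb
    · exact fun v => he.ge (mem_top v)
  refine ⟨hexp, hΦ, by rw [h.card, hΦ, hcardD]; ring, hcardD, hcardG, hG, hDcomm, hinj,
    ψ a, hψ.le ⟨a, rfl⟩, fun hfix => hb ?_⟩
  rw [hθψ, hab, map_mul, mul_eq_left] at hfix
  exact hkerΦ.le hfix

/-- Class four does not occur. -/
theorem G4_eq_bot_of_le_center (hG : G4 E ≤ center E) : G4 E = ⊥ := by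
  by_cases hle : G3 E ≤ G4 E
  · rw [G4, eq_bot_of_le_commutator h.hE hle, commutator_bot_left]
  have hG43 : G4 E ≤ G3 E := commutator_le_left _ _
  have hG3D : G3 E ≤ commutator E := commutator_le_left _ _
  set f := QuotientGroup.mk' (G4 E) with hf
  have hfs : Function.Surjective f := QuotientGroup.mk'_surjective _
  have hΦ := h.frattini_eq
  have hmapD : (commutator E).map f = commutator (E ⧸ G4 E) := map_commutator_top f hfs
  have hmap3 : (G3 E).map f = G3 (E ⧸ G4 E) := map_G3 f hfs
  have hq : Bad p (E ⧸ G4 E) _ := (h.quot (G4 E) (hΦ ▸ hG43.trans hG3D)).class_three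
    (le_center_of_commutator_eq_bot (by
      rw [← hmap3, ← map_top_of_surjective f hfs, ← Subgroup.map_commutator, QuotientGroup.map_mk'_self]))
    (by
      rw [← hmap3, Ne, Subgroup.map_eq_bot_iff, QuotientGroup.ker_mk']
      exact hle)
  have hpc : ∀ u : E, u ^ p ∈ center E := fun u => hG ((QuotientGroup.eq_one_iff (N := G4 E) _).1
    (show f (u ^ p) = 1 by rw [map_pow]; exact hq.exp _))
  -- the derived subgroup is abelian
  have hD3 : ⁅commutator E, G3 E⁆ = ⊥ := by
    rw [commutator_comm]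
    have h1 : ⁅⁅(⊤ : Subgroup E), G3 E⁆, (⊤ : Subgroup E)⁆ = ⊥ := by
      rw [commutator_comm ⊤ (G3 E)]; exact commutator_eq_bot_of_le_center hG
    have h2 : ⁅⁅G3 E, (⊤ : Subgroup E)⁆, (⊤ : Subgroup E)⁆ = ⊥ := commutator_eq_bot_of_le_center hG
    rw [commutator_comm, commutator_def E]
    exact commutator_commutator_eq_bot_of_rotate h1 h2
  have hD3c : ∀ g ∈ G3 E, ∀ d ∈ commutator E, Commute g d := fun g hg d hd =>
    (commutatorElement_eq_one_iff_mul_comm.1 (Subgroup.mem_bot.1
      (hD3.le (commutator_mem_commutator hd hg)))).symm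
  obtain ⟨a, b, -, -, -, hgen⟩ := h.exists_gen
  set w := ⁅b, a⁆
  have hwD : w ∈ commutator E := commutator_mem_commutator (mem_top _) (mem_top _)
  set N := G3 E ⊔ zpowers w
  have hND : N ≤ commutator E := sup_le hG3D (zpowers_le.2 hwD)
  have : N.Normal := ⟨fun v hv g => by
    have h1 : ⁅g, v⁆ ∈ N := by
      rw [← commutatorElement_inv]
      exact inv_mem (mem_sup_left (commutator_mem_commutator (hND hv) (mem_top g)))
    have h2 := mul_mem h1 hv
    rwa [commutatorElement_def, inv_mul_cancel_right] at h2⟩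
  have hDcomm : ∀ u ∈ commutator E, ∀ v ∈ commutator E, Commute u v := by
    intro u hu v hv
    obtain ⟨g, hg, i, rfl⟩ := mem_sup_zpowers (normalizer_eq_top (H := G3 E) ▸ mem_top w)
      (commutator_le_of_gen (N := N) hgen (mem_sup_right (mem_zpowers w)) hu)
    obtain ⟨g', hg', j, rfl⟩ := mem_sup_zpowers (normalizer_eq_top (H := G3 E) ▸ mem_top w)
      (commutator_le_of_gen (N := N) hgen (mem_sup_right (mem_zpowers w)) hv)
    exact (hD3c g hg _ hv).mul_left
      (((hD3c g' hg' _ (zpow_mem hwD i)).symm).mul_right ((Commute.refl w).zpow_zpow i j))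
  have hDp := commutator_exp h.hp5 hDcomm hpc hG
  have h1 := h.rank (commutator E) ⊥ bot_le
    (fun u hu v hv => Subgroup.mem_bot.2 (commutatorElement_eq_one_iff_mul_comm.2 (hDcomm u hu v hv).eq))
    (fun u hu => Subgroup.mem_bot.2 (hDp u hu))
  rw [card_bot, mul_one] at h1
  have h2 := card_comap hfs (commutator (E ⧸ G4 E))
  rw [← hmapD, comap_map_eq, QuotientGroup.ker_mk', sup_eq_left.2 (hG43.trans hG3D), hmapD,
    hq.cardD] at h2
  rw [h2] at h1
  refine Subgroup.card_eq_one.1 (le_antisymm ?_ Nat.card_pos)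
  exact Nat.le_of_mul_le_mul_right (by rw [one_mul]; exact h1) (pow_pos (Fact.out : p.Prime).pos 3)

/-- The three possibilities. -/
theorem trichotomy : ((∀ u v : E, u * v = v * u) ∧ (∀ v : E, v ^ p = 1) ∧ Nat.card E = p ^ 2) ∨
    (Cfsg.IsExtraspecial p E ∧ Nat.card E = p ^ 3 ∧ ∀ v : E, v ^ p = 1) ∨ Bad p E θ := by
  have hp := (Fact.out : p.Prime)
  have hΦ := h.frattini_eq
  by_cases h3 : G3 E = ⊥
  · obtain ⟨hcard, hexp⟩ := h.class_two (le_center_of_commutator_eq_bot h3)
    by_cases hD : commutator E = ⊥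
    · exact Or.inl ⟨fun u v => commutatorElement_eq_one_iff_mul_comm.1 (Subgroup.mem_bot.1
        (hD.le (commutator_mem_commutator (mem_top u) (mem_top v)))), hexp,
        by rw [h.card, hΦ, hD, card_bot, mul_one]⟩
    have hDcard : Nat.card (commutator E) = p := le_antisymm hcard (by
      have h1 := PGroup.mul_card_le_card h.hE (bot_lt_iff_ne_bot.2 hD)
      rwa [card_bot, mul_one] at h1)
    have hZ : center E = frattini E := by
      rcases h.irr (center E) (hΦ ▸ le_center_of_commutator_eq_bot h3)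
        (fun β v hv => apply_mem β hv) with he | he
      · exact he
      · refine absurd ?_ hD
        rw [commutator_def]
        exact eq_bot_iff.2 (commutator_le.2 fun u _ v _ => Subgroup.mem_bot.2
          (commutatorElement_eq_one_iff_mul_comm.2 (mem_center_iff.1 (he.ge (mem_top v)) u)))
    exact Or.inr (Or.inl ⟨⟨⟨h.hE, hZ.symm, by rw [hZ, hΦ]⟩, by rw [hZ, hΦ]; exact hDcard⟩,
      by rw [h.card, hΦ, hDcard]; ring, hexp⟩)
  set K := ⁅G4 E, (⊤ : Subgroup E)⁆
  have hK4 : K ≤ G4 E := commutator_le_left _ _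
  have hKΦ : K ≤ frattini E :=
    hΦ ▸ (hK4.trans (commutator_le_left _ _)).trans (commutator_le_left _ _)
  set f := QuotientGroup.mk' K
  have hfs : Function.Surjective f := QuotientGroup.mk'_surjective _
  have hmap4 : (G4 E).map f = G4 (E ⧸ K) := map_G4 f hfs
  have h1 := (h.quot K hKΦ).G4_eq_bot_of_le_center (le_center_of_commutator_eq_bot (by
    rw [← hmap4, ← map_top_of_surjective f hfs, ← Subgroup.map_commutator, QuotientGroup.map_mk'_self]))
  rw [← hmap4, Subgroup.map_eq_bot_iff, QuotientGroup.ker_mk'] at h1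
  have h4 : G4 E = ⊥ := eq_bot_of_le_commutator h.hE h1
  exact Or.inr (Or.inr (h.class_three (le_center_of_commutator_eq_bot h4) h3))

end Two

end Cfsg.Agent.RankThreeNormal.RankTwo
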