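import Cfsg.Agent.Lib.RankThreeNormal.SamePhi

/-!
When the second normaliser fixes `Φ(E)`, the inversion and the torus element make it contain a
section of order `p⁴` and exponent `p`, against rank three.
-/

set_option autoImplicit false
set_option maxHeartbeats 1000000

namespace Cfsg.Agent.RankThreeNormal

open Subgroup Cfsg Cfsg.FusionSystem Cfsg.Agent
open Cfsg.Agent.Fusion Cfsg.Agent.Fusion.Internal
open Cfsg.Agent.Fusion.MaxClassRankThree (ev ev_apply ev_mem ev_mul ev_inv ev_comm ev_pow ev_zpow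
  comm_zpow comm_zpow_right)
open scoped commutatorElement

/-- A root of a power in a coprime exponent. -/
theorem exists_zpow_of_coprime {Q : Type*} [Group Q] {p : ℕ} {c D : Q} {m t : ℤ}
    (hm : IsCoprime m (p : ℤ)) (hc : c ^ p = 1) (h : c ^ m = D ^ t) : ∃ r : ℤ, c = D ^ r := by
  obtain ⟨u, v, huv⟩ := hm
  refine ⟨t * u, ?_⟩
  have e : c = (c ^ m) ^ u * (c ^ (p : ℤ)) ^ v := by
    rw [← zpow_mul, ← zpow_mul, ← zpow_add, mul_comm m, mul_comm (p : ℤ), huv, zpow_one]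
  rw [e, h, zpow_natCast, hc, one_zpow, mul_one, zpow_mul]

/-- Conjugation by powers. -/
theorem conj_pow_of_commute {Q : Type*} [Group Q] {G A W : Q} (hW : Commute W G)
    (h : G * A * G⁻¹ = W * A) (k : ℕ) : G ^ k * A * (G ^ k)⁻¹ = W ^ k * A := by
  induction k with
  | zero => simp
  | succ k ih =>
    rw [pow_succ' G, show G * G ^ k * A * (G * G ^ k)⁻¹ = G * (G ^ k * A * (G ^ k)⁻¹) * G⁻¹ by group,
      ih, show G * (W ^ k * A) * G⁻¹ = G * W ^ k * A * G⁻¹ by group, ← (hW.pow_left k).eq,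
      show W ^ k * G * A * G⁻¹ = W ^ k * (G * A * G⁻¹) by group, h, pow_succ, mul_assoc]

variable {Ω : Type*} [Group Ω] {S : Subgroup Ω} [Finite S] {p : ℕ} [Fact p.Prime]
  {F : FusionSystem S} {E : Subgroup ↥S}

/-- The second normaliser. -/
abbrev nn (E : Subgroup ↥S) : Subgroup ↥S :=
  normalizer ((normalizer (E : Set ↥S) : Subgroup ↥S) : Set ↥S)

theorem mem_nn {v : ↥S} (hv : v ∈ normalizer (E : Set ↥S)) : v ∈ nn E := le_normalizer hv

/-- The second normaliser modulo `Φ(E)`. -/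
abbrev Q2 (E : Subgroup ↥S) : Type _ := ↥(nn E) ⧸ (phi E).subgroupOf (nn E)

/-- The class of an element of the second normaliser. -/
abbrev cls {E : Subgroup ↥S} {v : ↥S} (hv : v ∈ nn E) : Q2 E := QuotientGroup.mk ⟨v, hv⟩

namespace Ctx

variable {a x g : ↥S} {hc : Ctx p F E}

namespace Same

theorem com_R (h : Same hc a x g) : Com (phi E) (layer1 E (normalizer (E : Set ↥S))) (nn E) :=
  com_of_card_le hc.hS ((h.hT.pos.layer1_le.trans h.hT.pos.le).trans le_normalizer) h.nPhi h.nR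
    le_sup_left h.hT.card_layer1.le

theorem com_RZ (h : Same hc a x g) :
    Com (layer1 E (normalizer (E : Set ↥S))) (fixLayer h.hT.pos) (nn E) :=
  com_of_card_le hc.hS ((h.hT.pos.fixLayer_le.trans h.hT.pos.le).trans le_normalizer) h.nR h.nZ
    h.hT.layer1_le_fix (by rw [h.hT.card_fix, h.hT.card_layer1, sq, mul_assoc])

variable [((phi E).subgroupOf (nn E)).Normal]

theorem cls_eq_one {v : ↥S} (hv : v ∈ nn E) : cls hv = 1 ↔ v ∈ phi E := QuotientGroup.eq_one_iff _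

theorem cls_comm {u v : ↥S} (hu : u ∈ nn E) (hv : v ∈ nn E) (h : ⁅u, v⁆ ∈ phi E) :
    Commute (cls hu) (cls hv) := by
  refine commutatorElement_eq_one_iff_mul_comm.1 ?_
  exact (map_commutatorElement (QuotientGroup.mk' ((phi E).subgroupOf (nn E))) ⟨u, hu⟩ ⟨v, hv⟩).symm.trans
    ((QuotientGroup.eq_one_iff _).2 h)

theorem cls_commutator {u v : ↥S} (hu : u ∈ nn E) (hv : v ∈ nn E) (huv : ⁅u, v⁆ ∈ nn E) :
    cls huv = ⁅cls hu, cls hv⁆ :=
  map_commutatorElement (QuotientGroup.mk' ((phi E).subgroupOf (nn E))) ⟨u, hu⟩ ⟨v, hv⟩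

theorem D_central (h : Same hc a x g) (hD : ⁅a, x⁆ ∈ nn E) (q : Q2 E) : Commute (cls hD) q := by
  obtain ⟨⟨v, hv⟩, rfl⟩ := QuotientGroup.mk_surjective q
  exact cls_comm hD hv (h.com_R _ h.hT.D_mem v hv)

theorem cls_D (h : Same hc a x g) (hD : ⁅a, x⁆ ∈ nn E) {r : ↥S} (hr : r ∈ nn E)
    (hrR : r ∈ layer1 E (normalizer (E : Set ↥S))) : ∃ i : ℤ, cls hr = cls hD ^ i := by
  obtain ⟨k, hk, i, hi⟩ :=
    mem_sup_zpowers (h.nPhi.le_normalizer hD) (h.hT.sup_D.ge hrR)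
  refine ⟨i, ?_⟩
  have hk' : k ∈ nn E := mem_nn (h.hT.pos.phiN hk)
  rw [show cls hr = cls hk' * cls hD ^ i from
    (congrArg QuotientGroup.mk (show (⟨r, hr⟩ : ↥(nn E)) = ⟨k, hk'⟩ * ⟨_, hD⟩ ^ i from
      Subtype.ext hi) : _), (cls_eq_one hk').2 hk, one_mul]

/-- An automiser with weights acting on the second normaliser modulo `Φ(E)`. -/
theorem exists_bar (h : Same hc a x g) {φ : MulAut ↥(nn E)} {s α σ : ℤ} (hφ : Phi hc h φ s α σ)
    (hD : ⁅a, x⁆ ∈ nn E) :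
    ∃ T : Q2 E →* Q2 E, T (cls hD) = cls hD ^ (α * s) ∧
      (∀ z ∈ fixLayer h.hT.pos, ∀ hz : z ∈ nn E, ∃ k : ℤ, T (cls hz) = cls hz * cls hD ^ k) ∧
      (∃ (n : ↥S) (hn : n ∈ normalizer (E : Set ↥S)), T (cls h.hg) = cls h.hg ^ σ * cls (mem_nn hn)) ∧
      ∃ (z : ↥S) (hz : z ∈ fixLayer h.hT.pos),
        T (cls (mem_nn h.hT.hx)) = cls (mem_nn h.hT.hx) ^ s *
          cls (mem_nn (h.hT.pos.le (h.hT.pos.fixLayer_le hz))) := by
  have hev : ∀ (v : ↥S) (hv : v ∈ nn E),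
      (⟨ev φ v, ev_mem φ hv⟩ : ↥(nn E)) = φ ⟨v, hv⟩ := fun v hv => Subtype.ext (ev_apply φ hv)
  let T : Q2 E →* Q2 E := QuotientGroup.map _ _ φ.toMonoidHom (fun v hv => by
    have h1 : ev φ (v : ↥S) ∈ phi E := hφ.invPhi _ hv
    rw [ev_apply φ v.2] at h1
    exact h1)
  have hT : ∀ (v : ↥S) (hv : v ∈ nn E), T (cls hv) = cls (ev_mem φ hv) := fun v hv => by
    show QuotientGroup.mk (φ ⟨v, hv⟩) = QuotientGroup.mk _
    rw [hev v hv]
  refine ⟨T, ?_, ?_, ?_, ?_⟩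
  · rw [hT _ hD]
    exact ((QuotientGroup.eq (s := (phi E).subgroupOf (nn E)) (a := ⟨_, hD⟩ ^ (α * s))
      (b := ⟨_, ev_mem φ hD⟩)).2 hφ.onD).symm
  · intro z hz hz'
    have hr : z⁻¹ * ev φ z ∈ nn E := mul_mem (inv_mem hz') (ev_mem φ hz')
    obtain ⟨k, hk⟩ := h.cls_D hD hr (hφ.fix z hz)
    refine ⟨k, ?_⟩
    rw [hT _ hz', ← hk]
    exact congrArg QuotientGroup.mk (show (⟨_, ev_mem φ hz'⟩ : ↥(nn E)) = ⟨z, hz'⟩ * ⟨_, hr⟩ from
      Subtype.ext (mul_inv_cancel_left _ _).symm)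
  · refine ⟨_, hφ.onG, ?_⟩
    rw [hT _ h.hg]
    exact congrArg QuotientGroup.mk (show (⟨_, ev_mem φ h.hg⟩ : ↥(nn E)) =
      ⟨g, h.hg⟩ ^ σ * ⟨_, mem_nn hφ.onG⟩ from Subtype.ext (mul_inv_cancel_left _ _).symm)
  · refine ⟨_, hφ.onX, ?_⟩
    rw [hT _ (mem_nn h.hT.hx)]
    exact congrArg QuotientGroup.mk (show (⟨_, ev_mem φ (mem_nn h.hT.hx)⟩ : ↥(nn E)) =
      ⟨x, mem_nn h.hT.hx⟩ ^ s * ⟨_, mem_nn (h.hT.pos.le (h.hT.pos.fixLayer_le hφ.onX))⟩ from
      Subtype.ext (mul_inv_cancel_left _ _).symm)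

end Same

/-- The two weighted automisers. -/
theorem exists_two_phi (hc : Ctx p F E) (h : Same hc a x g) {j : ℕ} (hj : 2 * j = 1 + p * 1) :
    (∃ φ, Phi hc h φ 1 (-1) (-1)) ∧ ∃ φ, Phi hc h φ 4 (-(j : ℤ)) (-8) := by
  obtain ⟨⟨β₁, hβ₁⟩, β₂, hβ₂⟩ := hc.exists_wt h.hT hj
  have hjZ : 2 * (j : ℤ) = 1 + (p : ℤ) := by exact_mod_cast (mul_one p ▸ hj)
  refine ⟨hc.exists_phi h hβ₁ (hc.not_dvd_small (by norm_num)) (hc.not_dvd_small (by norm_num))
    (by norm_num), hc.exists_phi h hβ₂ (hc.not_dvd_small (by norm_num)) (fun hd => ?_)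
    ⟨4, by linear_combination 4 * hjZ⟩⟩
  refine hc.not_dvd_small (m := 1) (by norm_num) ?_
  have h1 := dvd_sub ((dvd_neg.1 hd).mul_left 2) (dvd_refl (p : ℤ))
  rwa [show 2 * (j : ℤ) - (p : ℤ) = 1 by omega] at h1

/-- The fixed layer is central in the second normaliser modulo `Φ(E)`. -/
theorem com_fix (hc : Ctx p F E) (h : Same hc a x g) :
    Com (phi E) (fixLayer h.hT.pos) (nn E) := by
  have hT := h.hT
  have hP := hT.pos
  have := h.nPhi.normal_subgroupOf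
  have hD : ⁅a, x⁆ ∈ nn E := mem_nn (hP.le (hP.layer1_le hT.D_mem))
  obtain ⟨j, hj⟩ := hc.exists_half
  obtain ⟨φ, hφ⟩ := (hc.exists_two_phi h hj).2
  obtain ⟨T, hTD, hTfix, ⟨n, hn, hTg⟩, -⟩ := h.exists_bar hφ hD
  have hDc := h.D_central hD
  have hDp : cls hD ^ p = 1 :=
    (Same.cls_eq_one (pow_mem hD p)).2 (pow_mem_phi hc.hS (hP.layer1_le hT.D_mem))
  have hD1 : cls hD ≠ 1 := fun h' => hT.moved ((Same.cls_eq_one hD).1 h')
  have hgz : ∀ z ∈ fixLayer hP, ⁅g, z⁆ ∈ phi E := by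
    intro z hz
    have hzN : z ∈ normalizer (E : Set ↥S) := hP.le (hP.fixLayer_le hz)
    have hz' : z ∈ nn E := mem_nn hzN
    set G := cls h.hg
    set Zq := cls hz'
    set D := cls hD
    have hgz' : ⁅g, z⁆ ∈ layer1 E (normalizer (E : Set ↥S)) := h.com_RZ.symm g h.hg z hz
    have hgzN : ⁅g, z⁆ ∈ nn E := mem_nn (hP.le (hP.layer1_le hgz'))
    obtain ⟨μ, hμ⟩ := h.cls_D hD hgzN hgz'
    rw [Same.cls_commutator h.hg hz' hgzN] at hμ
    obtain ⟨k, hk⟩ := hTfix z hz hz'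
    have hnz : Commute (cls (mem_nn hn)) (Zq * D ^ k) :=
      (Same.cls_comm (mem_nn hn) hz' (hP.fixLayer_com.symm n hn z hz)).mul_right
        ((hDc _).zpow_left k).symm
    have h1 : T ⁅G, Zq⁆ = D ^ (μ * -8) := by
      rw [map_commutatorElement, hTg, hk, commutatorElement_mul_left_eq_conj_mul,
        commutatorElement_eq_one_iff_mul_comm.2 hnz.eq, mul_one, mul_inv_cancel, one_mul,
        commutatorElement_mul_right_eq_mul_conj,
        commutatorElement_eq_one_iff_mul_comm.2 ((hDc _).zpow_left k).symm.eq, mul_one,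
        mul_inv_cancel_right]
      have h2 := comm_zpow (x := G) (y := Zq) (by rw [hμ]; exact (hDc G).zpow_left μ)
        (by rw [hμ]; exact (hDc Zq).zpow_left μ) (-8) 1
      rw [zpow_one] at h2
      rw [h2, hμ, ← zpow_mul, mul_one]
    rw [hμ, map_zpow, hTD, ← zpow_mul, ← mul_inv_eq_one, ← zpow_neg, ← zpow_add] at h1
    have hd := dvd_of_zpow_eq_one hDp hD1 h1
    have hjZ : 2 * (j : ℤ) = 1 + (p : ℤ) := by exact_mod_cast (mul_one p ▸ hj)
    have h6 : (p : ℤ) ∣ (6 : ℤ) * μ := by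
      have e : (6 : ℤ) * μ = (-(j : ℤ) * 4 * μ + -(μ * -8)) + (p : ℤ) * (2 * μ) := by
        linear_combination (2 * μ) * hjZ
      rw [e]
      exact dvd_add hd (dvd_mul_right _ _)
    obtain ⟨q, rfl⟩ := ((Nat.prime_iff_prime_int.1 (Fact.out : p.Prime)).dvd_mul.1 h6).resolve_left
      (hc.not_dvd_small (by norm_num))
    refine (Same.cls_eq_one hgzN).1 ?_
    rw [Same.cls_commutator h.hg hz' hgzN, hμ, zpow_mul, zpow_natCast, hDp, one_zpow]
  have h3 : Com (phi E) (normalizer (E : Set ↥S) ⊔ zpowers g) (fixLayer hP) :=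
    Com.sup_left h.nPhi le_normalizer (zpowers_le.2 h.hg) hP.fixLayer_com.symm
      (Com.zpowers_left h.nPhi h.hg hgz)
  rw [h.sup] at h3
  exact h3.symm

/-- The outer element may be chosen to commute with `x`. -/
theorem exists_adj (hc : Ctx p F E) (h : Same hc a x g) :
    ∃ g', Same hc a x g' ∧ ⁅g', x⁆ ∈ phi E := by
  have hp := (Fact.out : p.Prime)
  have hT := h.hT
  have hP := hT.pos
  have := h.nPhi.normal_subgroupOf
  have hD : ⁅a, x⁆ ∈ nn E := mem_nn (hP.le (hP.layer1_le hT.D_mem))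
  obtain ⟨j, hj⟩ := hc.exists_half
  obtain ⟨φ, hφ⟩ := (hc.exists_two_phi h hj).1
  obtain ⟨T, -, hTfix, ⟨n, hn, hTg⟩, z₁, hz₁, hTx⟩ := h.exists_bar hφ hD
  have hDc := h.D_central hD
  have hxN := mem_nn hT.hx
  have haN := mem_nn hT.aN
  set G := cls h.hg
  set X := cls hxN
  set D := cls hD
  have hZc : ∀ z (hz : z ∈ fixLayer hP) (q : Q2 E),
      Commute (cls (mem_nn (hP.le (hP.fixLayer_le hz)))) q := by
    intro z hz q
    obtain ⟨⟨v, hv⟩, rfl⟩ := QuotientGroup.mk_surjective q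
    exact Same.cls_comm _ hv (hc.com_fix h z hz v hv)
  have hgxZ : ⁅g, x⁆ ∈ fixLayer hP := h.xL.symm g h.hg x (mem_zpowers x)
  have hgxN := mem_nn (hP.le (hP.fixLayer_le hgxZ))
  set c := cls hgxN with hcdef
  have hcGX : c = ⁅G, X⁆ := Same.cls_commutator h.hg hxN hgxN
  have hcc : ∀ q, Commute c q := hZc _ hgxZ
  obtain ⟨k, hk⟩ := hTfix _ hgxZ hgxN
  have hnxR := hT.comm_le_layer1 n hn x hT.hx
  have hnxN := mem_nn (hP.le (hP.layer1_le hnxR))
  obtain ⟨i, hi⟩ := h.cls_D hD hnxN hnxR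
  rw [Same.cls_commutator (mem_nn hn) hxN hnxN] at hi
  have h1 : T c = D ^ i * c⁻¹ := by
    rw [hcGX, map_commutatorElement, hTg, hTx, zpow_one, zpow_neg_one,
      commutatorElement_mul_right_eq_mul_conj,
      commutatorElement_eq_one_iff_mul_comm.2 (hZc _ hz₁ _).symm.eq, mul_one, mul_inv_cancel_right,
      commutatorElement_mul_left_eq_conj_mul, hi, ← ((hDc G⁻¹).zpow_left i).eq, mul_inv_cancel_right]
    have h2 := comm_zpow (x := G) (y := X) (by rw [← hcGX]; exact hcc G) (by rw [← hcGX]; exact hcc X)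
      (-1) 1
    rw [zpow_one, zpow_neg_one, mul_one, zpow_neg_one] at h2
    rw [h2]
  rw [hk] at h1
  have h2 : c ^ (2 : ℤ) = D ^ (i - k) := by
    calc c ^ (2 : ℤ) = c * c := zpow_two c
      _ = c * D ^ k * (D ^ k)⁻¹ * c := by rw [mul_inv_cancel_right]
      _ = D ^ i * (c⁻¹ * (D ^ k)⁻¹) * c := by rw [h1]; group
      _ = D ^ i * ((D ^ k)⁻¹ * c⁻¹) * c := by rw [(hcc ((D ^ k)⁻¹)).inv_left.eq]
      _ = D ^ (i - k) := by group
  have hexp := hc.pow_mem_phi_normalizer hT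
  have hcp : c ^ p = 1 :=
    (Same.cls_eq_one (pow_mem hgxN p)).2 (hexp _ (hP.le (hP.fixLayer_le hgxZ)))
  have hco : IsCoprime (2 : ℤ) (p : ℤ) := by
    rw [Int.isCoprime_iff_gcd_eq_one]
    exact_mod_cast (Nat.coprime_primes Nat.prime_two hp).2 (by have := hc.hp5; omega)
  obtain ⟨lam, hlam⟩ := exists_zpow_of_coprime hco hcp h2
  have hak : a ^ (-lam) ∈ normalizer (E : Set ↥S) := zpow_mem hT.aN _
  set g' := g * a ^ (-lam) with hg'
  have hg'2 : g' ∈ nn E := mul_mem h.hg (mem_nn hak)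
  have hg'N : g' ∉ normalizer (E : Set ↥S) := fun hmem => h.hgN (by
    have h3 := mul_mem hmem (inv_mem hak)
    rwa [hg', mul_inv_cancel_right] at h3)
  have hg'a : ⁅g', a⁆ = ⁅g, a⁆ := by
    rw [hg', commutatorElement_mul_left_eq_conj_mul,
      commutatorElement_eq_one_iff_mul_comm.2 ((Commute.refl a).zpow_left _).eq, mul_one,
      mul_inv_cancel, one_mul]
  have hg'x : ⁅g', x⁆ ∈ phi E := by
    have hm : ⁅g', x⁆ ∈ nn E :=
      mul_mem (mul_mem (mul_mem hg'2 hxN) (inv_mem hg'2)) (inv_mem hxN)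
    refine (Same.cls_eq_one hm).1 ?_
    rw [Same.cls_commutator hg'2 hxN hm,
      show cls hg'2 = G * cls haN ^ (-lam) from rfl, commutatorElement_mul_left_eq_conj_mul,
      ← hcGX, hlam]
    have hAX : ⁅cls haN, X⁆ = D := (Same.cls_commutator haN hxN hD).symm
    have h3 := comm_zpow (x := cls haN) (y := X) (by rw [hAX]; exact hDc _) (by rw [hAX]; exact hDc _)
      (-lam) 1
    rw [zpow_one, mul_one, hAX] at h3
    rw [h3, ← ((hDc G).zpow_left (-lam)).eq, mul_inv_cancel_right, ← zpow_add, neg_add_cancel,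
      zpow_zero]
  have hnN : Nm (normalizer (E : Set ↥S)) (nn E) := Nm.of_le_normalizer le_rfl
  refine ⟨g', ⟨h.hT, h.nPhi, h.nZ, h.nR, hg'2, hg'N, ?_, ?_, h.xL, ?_, h.unique⟩, hg'x⟩
  · refine le_antisymm (sup_le le_normalizer (zpowers_le.2 hg'2)) (h.sup.ge.trans
      (sup_le le_sup_left (zpowers_le.2 ?_)))
    have h3 := mul_mem (mem_sup_right (mem_zpowers g') :
        g' ∈ normalizer (E : Set ↥S) ⊔ zpowers g')
      (inv_mem (mem_sup_left hak))
    rwa [hg', mul_inv_cancel_right] at h3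
  · have := hnN.normal_subgroupOf
    refine (QuotientGroup.eq_one_iff (N := (normalizer (E : Set ↥S)).subgroupOf (nn E))
      ((⟨g', hg'2⟩ : ↥(nn E)) ^ p)).1 ?_
    rw [QuotientGroup.mk_pow, show (⟨g', hg'2⟩ : ↥(nn E)) = ⟨g, h.hg⟩ * ⟨_, mem_nn hak⟩ from rfl,
      QuotientGroup.mk_mul, (QuotientGroup.eq_one_iff (N := (normalizer (E : Set ↥S)).subgroupOf (nn E))
        (⟨_, mem_nn hak⟩ : ↥(nn E))).2 hak, mul_one, ← QuotientGroup.mk_pow]
    exact (QuotientGroup.eq_one_iff _).2 h.gpow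
  · rw [hg'a]
    exact h.move

/-- The configuration is impossible. -/
theorem false_of_same (hc : Ctx p F E) (h₀ : Same hc a x g) : False := by
  obtain ⟨g, h, hgx⟩ := hc.exists_adj h₀
  clear h₀
  have hp := (Fact.out : p.Prime)
  have hpZ := Nat.prime_iff_prime_int.1 hp
  have hT := h.hT
  have hP := hT.pos
  have := h.nPhi.normal_subgroupOf
  have hD : ⁅a, x⁆ ∈ nn E := mem_nn (hP.le (hP.layer1_le hT.D_mem))
  obtain ⟨j, hj⟩ := hc.exists_half
  obtain ⟨⟨φ₁, hφ₁⟩, φ₂, hφ₂⟩ := hc.exists_two_phi h hj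
  have hexp := hc.pow_mem_phi_normalizer hT
  have hcom := hc.com_fix h
  have hDc := h.D_central hD
  have hxN := mem_nn hT.hx
  have haN := mem_nn hT.aN
  set G := cls h.hg
  set X := cls hxN
  set A := cls haN
  set D := cls hD
  have hZc : ∀ z (hz : z ∈ fixLayer hP) (q : Q2 E),
      Commute (cls (mem_nn (hP.le (hP.fixLayer_le hz)))) q := by
    intro z hz q
    obtain ⟨⟨v, hv⟩, rfl⟩ := QuotientGroup.mk_surjective q
    exact Same.cls_comm _ hv (hcom z hz v hv)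
  have hNp : ∀ {v : ↥S} (hv : v ∈ normalizer (E : Set ↥S)), cls (mem_nn hv) ^ p = 1 := fun hv =>
    (Same.cls_eq_one (pow_mem (mem_nn hv) p)).2 (hexp _ hv)
  have hD1 : D ≠ 1 := fun h' => hT.moved ((Same.cls_eq_one hD).1 h')
  have hDp : D ^ p = 1 := hNp (hP.le (hP.layer1_le hT.D_mem))
  have hAX : ⁅A, X⁆ = D := (Same.cls_commutator haN hxN hD).symm
  have hAi : ∀ i : ℤ, Commute (A ^ i) X → (p : ℤ) ∣ i := fun i hi => by
    have h1 := comm_zpow (x := A) (y := X) (by rw [hAX]; exact hDc _) (by rw [hAX]; exact hDc _) i 1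
    rw [zpow_one, commutatorElement_eq_one_iff_mul_comm.2 hi.eq, mul_one, hAX] at h1
    exact dvd_of_zpow_eq_one hDp hD1 h1.symm
  have hGX : Commute G X := Same.cls_comm h.hg hxN hgx
  -- the power of `g` commutes with `a` and `x`
  have hπ2 : g ^ p ∈ nn E := mem_nn h.gpow
  set P := cls hπ2
  have hPG : P = G ^ p := rfl
  have hPA : Commute P A := by
    have hW : G * A * G⁻¹ = X * cls (mem_nn (hP.le (hP.fixLayer_le h.move))) * A := by
      have hga : ⁅g, a⁆ ∈ nn E := mul_mem (mul_mem (mul_mem h.hg haN) (inv_mem h.hg)) (inv_mem haN)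
      have e : cls hga = X * cls (mem_nn (hP.le (hP.fixLayer_le h.move))) :=
        congrArg QuotientGroup.mk (show (⟨_, hga⟩ : ↥(nn E)) = ⟨x, hxN⟩ * ⟨x⁻¹ * ⁅g, a⁆, _⟩ from
          Subtype.ext (mul_inv_cancel_left _ _).symm)
      rw [← e, Same.cls_commutator h.hg haN hga, commutatorElement_def, inv_mul_cancel_right]
    have h1 := conj_pow_of_commute ((hGX.symm).mul_left (hZc _ h.move G)) hW p
    rw [((hZc _ h.move X).symm).mul_pow, hNp hT.hx, hNp (hP.le (hP.fixLayer_le h.move)), one_mul,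
      one_mul, mul_inv_eq_iff_eq_mul] at h1
    exact h1
  have hPX : Commute P X := hGX.pow_left p
  have hπE : g ^ p ∈ E := by
    obtain ⟨e, he, i, hi⟩ := mem_sup_zpowers (hP.nm.le_normalizer hT.hx)
      (show g ^ p ∈ E ⊔ zpowers x by rw [hP.sup_zpowers hT.hx hT.hxE]; exact h.gpow)
    have hPe : P = cls (mem_nn (hP.le he)) * X ^ i :=
      congrArg QuotientGroup.mk (show (⟨_, hπ2⟩ : ↥(nn E)) = ⟨e, _⟩ * ⟨x, hxN⟩ ^ i from
        Subtype.ext hi)
    have heA : Commute (cls (mem_nn (hP.le he))) A :=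
      Same.cls_comm _ haN (comm_mem_phi hc.hS he hT.ha)
    have h1 : Commute (X ^ i) A := by
      have := heA.inv_left.mul_left hPA
      rwa [hPe, inv_mul_cancel_left] at this
    have h2 := comm_zpow (x := A) (y := X) (by rw [hAX]; exact hDc _) (by rw [hAX]; exact hDc _) 1 i
    rw [zpow_one, commutatorElement_eq_one_iff_mul_comm.2 h1.symm.eq, one_mul, hAX] at h2
    obtain ⟨q, rfl⟩ := dvd_of_zpow_eq_one hDp hD1 h2.symm
    rw [hi]
    refine mul_mem he ?_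
    rw [zpow_mul, zpow_natCast]
    exact zpow_mem (hP.pow_mem hT.hx) q
  have hπZ : g ^ p ∈ fixLayer hP := hT.mem_fix hπE (by
    have hm : ⁅g ^ p, x⁆ ∈ nn E := mul_mem (mul_mem (mul_mem hπ2 hxN) (inv_mem hπ2)) (inv_mem hxN)
    refine (Same.cls_eq_one hm).1 ?_
    rw [Same.cls_commutator hπ2 hxN hm]
    exact commutatorElement_eq_one_iff_mul_comm.2 hPX.eq)
  -- the weights on the power
  have hweight : ∀ {φ : MulAut ↥(nn E)} {s α σ : ℤ}, Phi hc h φ s α σ → ¬ (p : ℤ) ∣ s →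
      ∃ T : Q2 E →* Q2 E, T D = D ^ (α * s) ∧ T P = P ^ σ ∧ ∃ k : ℤ, T P = P * D ^ k := by
    intro φ s α σ hφ hs
    obtain ⟨T, hTD, hTfix, ⟨n, hn, hTg⟩, z₁, hz₁, hTx⟩ := h.exists_bar hφ hD
    refine ⟨T, hTD, ?_, hTfix _ hπZ hπ2⟩
    have h1 : Commute (G ^ σ * cls (mem_nn hn)) (X ^ s) := by
      have h2 := hGX.map T
      rw [hTg, hTx] at h2
      have h3 := h2.mul_right ((hZc _ hz₁ (G ^ σ * cls (mem_nn hn))).symm.inv_right)
      rwa [mul_inv_cancel_right] at h3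
    have h2 : Commute (cls (mem_nn hn)) (X ^ s) := by
      have h3 := ((hGX.zpow_zpow σ s).inv_left).mul_left h1
      rwa [inv_mul_cancel_left] at h3
    have hnX : Commute (cls (mem_nn hn)) X := by
      obtain ⟨u, v, huv⟩ : IsCoprime s (p : ℤ) := ((hpZ.coprime_iff_not_dvd).2 hs).symm
      have h3 := h2.zpow_right u
      have e : (X ^ s) ^ u = X := by
        calc (X ^ s) ^ u = (X ^ s) ^ u * (X ^ (p : ℤ)) ^ v := by
              rw [zpow_natCast, hNp hT.hx, one_zpow, mul_one]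
          _ = X := by rw [← zpow_mul, ← zpow_mul, ← zpow_add, mul_comm s, mul_comm (p : ℤ), huv, zpow_one]
      rwa [e] at h3
    have hnG : Commute (cls (mem_nn hn)) G := by
      obtain ⟨e, he, l, hl⟩ := mem_sup_zpowers (hP.nm.le_normalizer hT.hx)
        (show n ∈ E ⊔ zpowers x by rw [hP.sup_zpowers hT.hx hT.hxE]; exact hn)
      obtain ⟨z, hz, i, hi⟩ := mem_sup_zpowers (hP.nm_fixLayer.le_normalizer hT.aN) (hT.sup_a.ge he)
      have hz' := mem_nn (hP.le (hP.fixLayer_le hz))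
      have hne : cls (mem_nn hn) = cls hz' * A ^ i * X ^ l :=
        congrArg QuotientGroup.mk (show (⟨n, _⟩ : ↥(nn E)) = ⟨z, hz'⟩ * ⟨a, haN⟩ ^ i * ⟨x, hxN⟩ ^ l
          from Subtype.ext (by show n = z * a ^ i * x ^ l; rw [← hi, ← hl]))
      have h3 : Commute (A ^ i) X := by
        have h4 := ((hZc _ hz X).inv_left).mul_left
          (hnX.mul_left ((Commute.refl X).zpow_left l).inv_left)
        rwa [hne, mul_inv_cancel_right, inv_mul_cancel_left] at h4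
      obtain ⟨q, rfl⟩ := hAi i h3
      rw [hne, zpow_mul, zpow_natCast, hNp hT.aN, one_zpow, mul_one]
      exact (hZc _ hz G).mul_left (hGX.symm.zpow_left l)
    rw [hPG, map_pow, hTg, ((hnG.zpow_right σ).symm).mul_pow, hNp hn, mul_one, ← zpow_natCast,
      ← zpow_mul, mul_comm, zpow_mul, zpow_natCast]
  obtain ⟨T₁, -, hT₁P, k, hk⟩ := hweight hφ₁ (hc.not_dvd_small (by norm_num))
  rw [hk, zpow_neg_one] at hT₁P
  have hP2 : P ^ (2 : ℤ) = D ^ (-k) := by
    calc P ^ (2 : ℤ) = P * P := zpow_two P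
      _ = P * D ^ k * (D ^ k)⁻¹ * P := by rw [mul_inv_cancel_right]
      _ = P⁻¹ * (D ^ k)⁻¹ * P := by rw [hT₁P]
      _ = (D ^ k)⁻¹ * P⁻¹ * P := by rw [((hDc P).zpow_left k).symm.inv_inv.eq]
      _ = D ^ (-k) := by group
  have hco : IsCoprime (2 : ℤ) (p : ℤ) := by
    rw [Int.isCoprime_iff_gcd_eq_one]
    exact_mod_cast (Nat.coprime_primes Nat.prime_two hp).2 (by have := hc.hp5; omega)
  obtain ⟨ρ, hρ⟩ := exists_zpow_of_coprime hco (hNp h.gpow) hP2
  obtain ⟨T₂, hT₂D, hT₂P, -⟩ := hweight hφ₂ (hc.not_dvd_small (by norm_num))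
  have hgΦ : g ^ p ∈ phi E := by
    rw [show P = D ^ ρ from hρ, map_zpow, hT₂D, ← zpow_mul, ← zpow_mul, ← mul_inv_eq_one, ← zpow_neg,
      ← zpow_add] at hT₂P
    have hd := dvd_of_zpow_eq_one hDp hD1 hT₂P
    have hjZ : 2 * (j : ℤ) = 1 + (p : ℤ) := by exact_mod_cast (mul_one p ▸ hj)
    have h6 : (p : ℤ) ∣ (6 : ℤ) * ρ := by
      have e : (6 : ℤ) * ρ = (-(j : ℤ) * 4 * ρ + -(ρ * -8)) + (p : ℤ) * (2 * ρ) := by
        linear_combination (2 * ρ) * hjZ
      rw [e]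
      exact dvd_add hd (dvd_mul_right _ _)
    obtain ⟨q, rfl⟩ := (hpZ.dvd_mul.1 h6).resolve_left (hc.not_dvd_small (by norm_num))
    refine (Same.cls_eq_one hπ2).1 ?_
    rw [show cls hπ2 = D ^ ((p : ℤ) * q) from hρ, zpow_mul, zpow_natCast, hDp, one_zpow]
  -- the section of order `p⁴`
  set Z := fixLayer hP
  set L := Z ⊔ zpowers x
  set H := L ⊔ zpowers g
  have hZ2 : Z ≤ nn E := (hP.fixLayer_le.trans hP.le).trans le_normalizer
  have hLN : L ≤ normalizer (E : Set ↥S) :=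
    sup_le (hP.fixLayer_le.trans hP.le) (zpowers_le.2 hT.hx)
  have hL2 : L ≤ nn E := hLN.trans le_normalizer
  have hH2 : H ≤ nn E := sup_le hL2 (zpowers_le.2 h.hg)
  have hxx : Com (phi E) (zpowers x) (zpowers x) :=
    Com.zpowers_zpowers h.nPhi hxN hxN (by simp [commutatorElement_self])
  have hgg : Com (phi E) (zpowers g) (zpowers g) :=
    Com.zpowers_zpowers h.nPhi h.hg h.hg (by simp [commutatorElement_self])
  have hgxC : Com (phi E) (zpowers g) (zpowers x) := Com.zpowers_zpowers h.nPhi h.hg hxN hgx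
  have hZany : ∀ Y : Subgroup ↥S, Y ≤ nn E → Com (phi E) Z Y := fun Y hY u hu v hv =>
    hcom u hu v (hY hv)
  have hHZ : Com (phi E) H Z := (hZany H hH2).symm
  have hxH : Com (phi E) (zpowers x) H :=
    (Com.sup_left h.nPhi hL2 (zpowers_le.2 h.hg)
      (Com.sup_left h.nPhi hZ2 (zpowers_le.2 hxN) (hZany _ (zpowers_le.2 hxN)) hxx) hgxC).symm
  have hgH : Com (phi E) (zpowers g) H :=
    (Com.sup_left h.nPhi hL2 (zpowers_le.2 h.hg)
      (Com.sup_left h.nPhi hZ2 (zpowers_le.2 hxN) (hZany _ (zpowers_le.2 h.hg)) hgxC.symm) hgg).symm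
  have hHH : Com (phi E) H H := Com.sup_left h.nPhi hL2 (zpowers_le.2 h.hg)
    (Com.sup_left h.nPhi hZ2 (zpowers_le.2 hxN) hHZ.symm hxH) hgH
  have hgL : g ∈ normalizer (L : Set ↥S) := mem_normalizer_of_mapsTo fun v hv => by
    have h1 : ⁅g, v⁆ ∈ L := mem_sup_left (hT.phi_le_fix (hHH g (mem_sup_right (mem_zpowers g)) v
      (mem_sup_left hv)))
    have h2 := mul_mem h1 hv
    simpa [commutatorElement_def] using h2
  have hHp : ∀ v ∈ H, v ^ p ∈ phi E := by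
    intro v hv
    obtain ⟨l, hl, i, rfl⟩ := mem_sup_zpowers hgL hv
    refine (Same.cls_eq_one (pow_mem (hH2 hv) p)).1 ?_
    have hl' := mem_nn (hLN hl)
    show (cls hl' * G ^ i) ^ p = 1
    have hcm : Commute (cls hl') G :=
      Same.cls_comm hl' h.hg (hHH l (mem_sup_left hl) g (mem_sup_right (mem_zpowers g)))
    rw [(hcm.zpow_right i).mul_pow, hNp (hLN hl), one_mul, ← zpow_natCast, ← zpow_mul, mul_comm,
      zpow_mul, zpow_natCast, show G ^ p = 1 from (Same.cls_eq_one hπ2).2 hgΦ, one_zpow]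
  have hΦH : phi E ≤ H := fun v hv => mem_sup_left (mem_sup_left (hT.phi_le_fix hv))
  have h1 := hc.rank H (phi E) hΦH hHH hHp
  have hLc : Nat.card L = p * Nat.card Z := card_sup (hP.nm_fixLayer.le_normalizer hT.hx)
    (fun h' => hT.hxE (hP.fixLayer_le h')) (hT.phi_le_fix (hexp x hT.hx))
  have hHc : Nat.card H = p * Nat.card L :=
    card_sup hgL (fun h' => h.hgN (hLN h')) (mem_sup_left (hT.phi_le_fix hgΦ))
  rw [hHc, hLc, hT.card_fix, ← mul_assoc, ← mul_assoc] at h1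
  have h2 := Nat.le_of_mul_le_mul_right h1 Nat.card_pos
  have h3 : p ^ 3 < p ^ 4 := Nat.pow_lt_pow_right hp.one_lt (by norm_num)
  rw [show p * p * p ^ 2 = p ^ 4 by ring] at h2
  omega

end Ctx

end Cfsg.Agent.RankThreeNormal
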