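import Cfsg.Agent.Lib.RankThreeNormal.Extension

/-!
When the second normaliser fixes `Φ(E)`, the weights of the inversion and of the torus force an
elementary abelian section of order `p⁴`.
-/

set_option autoImplicit false
set_option maxHeartbeats 1600000

namespace Cfsg.Agent.RankThreeNormal

open Subgroup Cfsg Cfsg.FusionSystem Cfsg.Agent
open Cfsg.Agent.Fusion Cfsg.Agent.Fusion.Internal
open Cfsg.Agent.Fusion.MaxClassRankThree (ev ev_apply ev_mem ev_mul ev_inv ev_comm ev_pow ev_zpow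
  exists_ev_eq comm_zpow comm_zpow_right zpow_eq_of_odd_order card_normalizerIn_up)
open scoped commutatorElement

theorem mem_normalizer_of_mapsTo {G : Type*} [Group G] [Finite G] {E : Subgroup G} {g : G}
    (h : ∀ v ∈ E, g * v * g⁻¹ ∈ E) : g ∈ normalizer (E : Set G) := by
  have he : E.map (MulAut.conj g).toMonoidHom = E := eq_of_le_of_card_ge
    (by rintro _ ⟨v, hv, rfl⟩; exact h v hv) (by rw [card_map_of_injective (MulAut.conj g).injective])
  refine mem_normalizer_iff.2 fun v => ⟨h v, fun hv => ?_⟩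
  rw [← he] at hv
  obtain ⟨w, hw, hwv⟩ := hv
  have : w = v := by
    have h1 : g * w * g⁻¹ = g * v * g⁻¹ := hwv
    simpa using h1
  exact this ▸ hw

variable {Ω : Type*} [Group Ω] {S : Subgroup Ω} [Finite S] {p : ℕ} [Fact p.Prime]
  {F : FusionSystem S} {E : Subgroup ↥S}

/-- Restriction of an automiser to an invariant subgroup. -/
theorem restrict_aut {K L : Subgroup ↥S} (hKL : K ≤ L) {β : MulAut ↥L} (hβ : β ∈ aut F L)
    (hinv : ∀ v ∈ K, ev β v ∈ K) : ∃ δ ∈ aut F K, ∀ v ∈ K, ev δ v = ev β v := by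
  obtain ⟨hφ, -⟩ := hom_of_mem_autGroup (up_le L) (mem_aut.1 hβ)
  have hψ := restrict_mem hφ (Subgroup.map_mono hKL : up K ≤ up L)
  have hmem : ∀ z : ↥(up K), ((up L).subtype.comp (MulAut.congr (upEquiv L) β).toMonoidHom).comp
      (Subgroup.inclusion (Subgroup.map_mono hKL : up K ≤ up L)) z ∈ up K := by
    intro z
    have hz := mk_mem z.2
    have h1 := hinv _ hz
    rw [ev_apply β (hKL hz)] at h1
    exact coe_mem_up.2 h1
  refine ⟨_, mem_aut_symm (toAut_mem hψ (range_eq_of_le hψ (up_le K) hmem le_rfl)),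
    fun v hv => Subtype.ext ?_⟩
  rw [ev_apply _ hv, ev_apply β (hKL hv)]
  rfl

namespace Ctx

variable {a x g : ↥S}

/-- The data of the case of a normalised Frattini subgroup. -/
structure Same (hc : Ctx p F E) (a x g : ↥S) : Prop where
  hT : Tv p E (normalizer (E : Set ↥S)) a x
  nPhi : Nm (phi E) (normalizer ((normalizer (E : Set ↥S) : Subgroup ↥S) : Set ↥S))
  nZ : Nm (fixLayer hT.pos) (normalizer ((normalizer (E : Set ↥S) : Subgroup ↥S) : Set ↥S))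
  nR : Nm (layer1 E (normalizer (E : Set ↥S)))
    (normalizer ((normalizer (E : Set ↥S) : Subgroup ↥S) : Set ↥S))
  hg : g ∈ normalizer ((normalizer (E : Set ↥S) : Subgroup ↥S) : Set ↥S)
  hgN : g ∉ normalizer (E : Set ↥S)
  sup : normalizer (E : Set ↥S) ⊔ zpowers g =
    normalizer ((normalizer (E : Set ↥S) : Subgroup ↥S) : Set ↥S)
  gpow : g ^ p ∈ normalizer (E : Set ↥S)
  xL : Com (fixLayer hT.pos) (zpowers x) (normalizer ((normalizer (E : Set ↥S) : Subgroup ↥S) : Set ↥S))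
  move : x⁻¹ * ⁅g, a⁆ ∈ fixLayer hT.pos
  unique : ∀ h ∈ normalizer ((normalizer (E : Set ↥S) : Subgroup ↥S) : Set ↥S),
    ⁅h, a⁆ ∈ fixLayer hT.pos → h ∈ normalizer (E : Set ↥S)

/-- The configuration exists. -/
theorem exists_same (hc : Ctx p F E) (hflat : layer2 E (normalizer (E : Set ↥S)) = phi E)
    (hnΦ : Nm (phi E) (normalizer ((normalizer (E : Set ↥S) : Subgroup ↥S) : Set ↥S)))
    (hne : normalizer (E : Set ↥S) ≠ ⊤) : ∃ a x g, Same hc a x g := by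
  have hp := (Fact.out : p.Prime)
  set N := normalizer (E : Set ↥S) with hNdef
  set N2 := normalizer (N : Set ↥S)
  have hNN2 : N ≤ N2 := le_normalizer
  have hnN : Nm N N2 := Nm.of_le_normalizer le_rfl
  have hP := hc.pos
  obtain ⟨x₀, hx₀, hx₀E⟩ := SetLike.exists_of_lt hc.lt_normalizer
  have hR1 : layer1 E N ≠ phi E := fun he => hx₀E (hc.qN_ker (g := ⟨x₀, hx₀⟩) (qE_eq_one_iff.2
    fun v hv => by
      show v⁻¹ * ev (cnj E hx₀) v ∈ phi E
      rw [ev_cnj hx₀ hv, show v⁻¹ * (x₀ * v * x₀⁻¹) = ⁅v⁻¹, x₀⁆ by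
        simp only [commutatorElement_def]; group]
      exact he.le (mem_sup_right (commutator_mem_commutator (inv_mem hv) hx₀))))
  obtain ⟨a₀, hT₀⟩ := hP.exists_tv hx₀ hx₀E hflat hR1
  set Z := fixLayer hP with hZdef
  have hcardZ : Nat.card Z = p ^ 2 * Nat.card (phi E) := hT₀.card_fix
  have hZN : Z ≤ N := hP.fixLayer_le.trans hP.le
  -- the first layer is normalised
  have hRN : phi E ⊔ ⁅N, N⁆ = layer1 E N :=
    le_antisymm (sup_le le_sup_left (commutator_le.2 hT₀.comm_le_layer1))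
      (sup_le_sup_left (commutator_mono hP.le le_rfl) _)
  have hnR : Nm (layer1 E N) N2 := hRN ▸ hnΦ.sup (hnN.commutator hnN)
  -- so is the fixed layer
  have hnZ : Nm Z N2 := by
    intro h hh z hz
    have hzN := hZN hz
    have hhz : h * z * h⁻¹ ∈ N := hnN h hh z hzN
    have hcom : ∀ y ∈ N, ⁅h * z * h⁻¹, y⁆ ∈ phi E := by
      intro y hy
      have hy' : h⁻¹ * y * h ∈ N := by simpa using hnN h⁻¹ (inv_mem hh) y hy
      have e : ⁅h * z * h⁻¹, y⁆ = h * ⁅z, h⁻¹ * y * h⁆ * h⁻¹ := by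
        simp only [commutatorElement_def]; group
      rw [e]
      exact hnΦ h hh _ (hz.2.2 _ hy')
    obtain ⟨e, he, i, hi⟩ := mem_sup_zpowers (hP.nm.le_normalizer hx₀)
      (show h * z * h⁻¹ ∈ E ⊔ zpowers x₀ by rw [hP.sup_zpowers hx₀ hx₀E]; exact hhz)
    have hxi : x₀ ^ i ∈ E := by
      by_contra hxi
      have hn := hP.nmPhi
      have h1 : Com (phi E) (zpowers (h * z * h⁻¹)) N := Com.zpowers_left hn hhz hcom
      have h2 : ∀ y ∈ E, ⁅x₀ ^ i, y⁆ ∈ phi E := fun y hy => by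
        have h3 : x₀ ^ i = e⁻¹ * (h * z * h⁻¹) := by rw [hi, inv_mul_cancel_left]
        rw [h3, commutatorElement_mul_left_eq_conj_mul]
        exact mul_mem (hn _ (inv_mem (hP.le he)) _ (hcom y (hP.le hy)))
          (comm_mem_phi hc.hS (inv_mem he) hy)
      refine hxi (hc.qN_ker (g := ⟨x₀ ^ i, zpow_mem hx₀ i⟩) (qE_eq_one_iff.2 fun v hv => ?_))
      show v⁻¹ * ev (cnj E (zpow_mem hx₀ i)) v ∈ phi E
      rw [ev_cnj (zpow_mem hx₀ i) hv, show v⁻¹ * (x₀ ^ i * v * (x₀ ^ i)⁻¹) = ⁅v⁻¹, x₀ ^ i⁆ by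
        simp only [commutatorElement_def]; group, ← commutatorElement_inv]
      exact inv_mem (h2 _ (inv_mem hv))
    exact ⟨hi ▸ mul_mem he hxi, hhz, hcom⟩
  -- the fixed maximal subgroup
  obtain ⟨k, hk⟩ := PGroup.card_eq_pow hc.hS (phi E)
  have hZn := hnZ.normal_subgroupOf
  have hNn := hnN.normal_subgroupOf
  have hcZ : Nat.card (Z.subgroupOf N2) = p ^ (k + 2) := by
    rw [Nat.card_congr (subgroupOfEquivOfLe (hZN.trans hNN2)).toEquiv, hcardZ, hk]; ring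
  have hcN : Nat.card (N.subgroupOf N2) = p ^ (k + 4) := by
    rw [Nat.card_congr (subgroupOfEquivOfLe hNN2).toEquiv, hP.cardN, hP.cardE, hk]; ring
  obtain ⟨L', hL'n, hZL', hL'N, hL'c⟩ := PGroup.exists_normal_card_between (hc.hS.to_subgroup N2)
    (Z.subgroupOf N2) (N.subgroupOf N2) (comap_mono hZN) (k + 3)
    (hcZ ▸ Nat.pow_le_pow_right hp.pos (by omega)) (hcN ▸ Nat.pow_le_pow_right hp.pos (by omega))
  set L := L'.map N2.subtype with hLdef
  have hnL : Nm L N2 := by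
    rintro h hh _ ⟨w, hw, rfl⟩
    exact ⟨⟨h, hh⟩ * w * ⟨h, hh⟩⁻¹, hL'n.conj_mem w hw _, rfl⟩
  have hZL : Z ≤ L := fun v hv => ⟨⟨v, hNN2 (hZN hv)⟩, hZL' hv, rfl⟩
  have hLN : L ≤ N := by rintro _ ⟨w, hw, rfl⟩; exact hL'N hw
  have hcL : Nat.card L = p ^ (k + 3) := by
    rw [hLdef, card_map_of_injective N2.subtype_injective, hL'c]
  have hcL' : Nat.card L = p * Nat.card Z := by rw [hcL, hcardZ, hk]; ring
  obtain ⟨x, hxL, hxZ⟩ := SetLike.not_le_iff_exists.1 (fun hle : L ≤ Z => by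
    have h1 := Subgroup.card_le_of_le hle
    rw [hcL'] at h1
    have h2 := Nat.le_of_mul_le_mul_right (h1.trans_eq (one_mul _).symm) Nat.card_pos
    have := hp.two_le
    omega)
  have hLsup : Z ⊔ zpowers x = L := sup_eq_of_card_le hc.hS hZL hcL'.le hxL hxZ
  obtain ⟨g₀, hg₀, hg₀N⟩ := SetLike.exists_of_lt (PGroup.lt_normalizer hc.hS hne)
  have hxE : x ∉ E := fun hxE => hg₀N (mem_normalizer_of_mapsTo fun v hv => by
    have hEL : E = L := (eq_of_le_of_card_ge (hLsup ▸ sup_le hP.fixLayer_le (zpowers_le.2 hxE))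
      (by rw [hcL', hc.idx, hcardZ]; exact le_of_eq (by ring))).symm
    rw [hEL] at hv ⊢
    exact hnL g₀ hg₀ v hv)
  have hxN : x ∈ N := hLN hxL
  obtain ⟨a, hT⟩ := hP.exists_tv hxN hxE hflat hR1
  have hcomL : Com Z L N2 := com_of_card_le hc.hS (hLN.trans hNN2) hnZ hnL hZL hcL'.le
  have hcomN : Com L N N2 := com_of_card_le hc.hS hNN2 hnL hnN hLN
    (by rw [hcL, hP.cardN, hP.cardE, hk]; exact le_of_eq (by ring))
  -- calculations modulo the fixed layer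
  set f := QuotientGroup.mk' (Z.subgroupOf N2)
  have hone : ∀ {v : ↥S} (hv : v ∈ N2), f ⟨v, hv⟩ = 1 ↔ v ∈ Z := fun hv => QuotientGroup.eq_one_iff _
  set X := f ⟨x, hNN2 hxN⟩
  set A := f ⟨a, hNN2 hT.aN⟩
  have hXc : ∀ q : N2, Commute X (f q) := fun q => by
    refine commutatorElement_eq_one_iff_mul_comm.1 ?_
    rw [← map_commutatorElement]
    exact (hone _).2 (hcomL x hxL q q.2)
  have hXp : X ^ p = 1 := by
    rw [← map_pow]
    exact (hone _).2 (hT.phi_le_fix (hc.pow_mem_phi_normalizer hT x hxN))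
  have hX1 : X ≠ 1 := fun h => hxZ ((hone _).1 h)
  have hrel : ∀ h : N2, ∃ i : ℤ, ⁅f h, A⁆ = X ^ i := by
    intro h
    have h1 : ⁅(h : ↥S), a⁆ ∈ L := hcomN.symm _ h.2 a hT.aN
    obtain ⟨z, hz, i, hi⟩ := mem_sup_zpowers (hnZ.le_normalizer (hNN2 hxN)) (hLsup.ge h1)
    refine ⟨i, ?_⟩
    rw [← map_commutatorElement, ← map_zpow, show ⁅h, (⟨a, hNN2 hT.aN⟩ : N2)⁆ =
      ⟨z, hNN2 (hZN hz)⟩ * ⟨x, hNN2 hxN⟩ ^ i from Subtype.ext hi, map_mul, (hone _).2 hz, one_mul]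
  have huniq : ∀ h ∈ N2, ⁅h, a⁆ ∈ Z → h ∈ N := by
    intro h hh hha
    refine mem_normalizer_of_mapsTo fun v hv => ?_
    rw [← hT.sup_a] at hv
    obtain ⟨z, hz, i, rfl⟩ := mem_sup_zpowers (hT.pos.nm_fixLayer.le_normalizer hT.aN) hv
    rw [show h * (z * a ^ i) * h⁻¹ = h * z * h⁻¹ * (h * a ^ i * h⁻¹) by group, ← conj_zpow]
    refine mul_mem (hP.fixLayer_le (hnZ h hh z hz)) (zpow_mem ?_ i)
    have h1 := mul_mem (hP.fixLayer_le hha) hT.ha
    simpa [commutatorElement_def] using h1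
  obtain ⟨ρ, hρ⟩ := hrel ⟨g₀, hg₀⟩
  have hρp : ¬ (p : ℤ) ∣ ρ := fun hd => hg₀N (huniq g₀ hg₀ ((hone (v := ⁅g₀, a⁆)
    (mul_mem (mul_mem (mul_mem hg₀ (hNN2 hT.aN)) (inv_mem hg₀)) (inv_mem (hNN2 hT.aN)))).1 (by
      obtain ⟨q, rfl⟩ := hd
      refine (map_commutatorElement f ⟨g₀, hg₀⟩ ⟨a, hNN2 hT.aN⟩).trans ?_
      rw [hρ, zpow_mul, zpow_natCast, hXp, one_zpow])))
  obtain ⟨u, v, huv⟩ : IsCoprime ρ (p : ℤ) :=
    (Int.isCoprime_iff_gcd_eq_one).2 (by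
      rw [Int.gcd_comm]
      exact Nat.coprime_iff_gcd_eq_one.1 ((hp.coprime_iff_not_dvd).2 fun h => hρp (Int.natCast_dvd.2 h)))
  set gS : N2 := ⟨g₀, hg₀⟩ ^ u with hgS
  have hgX : ⁅f gS, A⁆ = X := by
    have hc1 : Commute ⁅f ⟨g₀, hg₀⟩, A⁆ (f ⟨g₀, hg₀⟩) := hρ ▸ (hXc _).zpow_left ρ
    have hc2 : Commute ⁅f ⟨g₀, hg₀⟩, A⁆ A := hρ ▸ (hXc _).zpow_left ρ
    have h := comm_zpow hc1 hc2 u 1
    rw [zpow_one] at h
    rw [hgS, map_zpow, h, hρ, ← zpow_mul, mul_one,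
      Fusion.MaxClassRankThree.zpow_eq_zpow_of_dvd hXp (b := 1) ⟨-v, by linear_combination huv⟩, zpow_one]
  have hgN : (gS : ↥S) ∉ N := fun hgN => hX1 (by
    rw [← hgX, ← map_commutatorElement]
    exact (hone _).2 (hT.layer1_le_fix (hT.comm_le_layer1 _ hgN a hT.aN)))
  have hmove : x⁻¹ * ⁅(gS : ↥S), a⁆ ∈ Z := by
    rw [← map_commutatorElement] at hgX
    exact (QuotientGroup.eq (s := Z.subgroupOf N2)).1 hgX.symm
  have hsup : N ⊔ zpowers (gS : ↥S) = N2 := by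
    refine le_antisymm (sup_le hNN2 (zpowers_le.2 gS.2)) fun h hh => ?_
    obtain ⟨i, hi⟩ := hrel ⟨h, hh⟩
    have hmem : h * ((gS : ↥S) ^ i)⁻¹ ∈ N := by
      refine huniq _ (mul_mem hh (inv_mem (zpow_mem gS.2 i))) ((hone (mul_mem (mul_mem (mul_mem
        (mul_mem hh (inv_mem (zpow_mem gS.2 i))) (hNN2 hT.aN))
        (inv_mem (mul_mem hh (inv_mem (zpow_mem gS.2 i))))) (inv_mem (hNN2 hT.aN)))).1 ?_)
      refine (map_commutatorElement f ((⟨h, hh⟩ : N2) * (gS ^ i)⁻¹) ⟨a, hNN2 hT.aN⟩).trans ?_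
      have h1 : ⁅(f gS ^ i)⁻¹, A⁆ = X ^ (-i) := by
        have h := comm_zpow (x := f gS) (y := A) (by rw [hgX]; exact hXc _) (by rw [hgX]; exact hXc _) (-i) 1
        rwa [zpow_one, mul_one, hgX, zpow_neg (f gS)] at h
      rw [map_mul, map_inv, map_zpow, commutatorElement_mul_left_eq_conj_mul, h1, hi,
        ← ((hXc ⟨h, hh⟩).zpow_left (-i)).eq, mul_inv_cancel_right, ← zpow_add, neg_add_cancel, zpow_zero]
    have := mul_mem (mem_sup_left hmem : h * ((gS : ↥S) ^ i)⁻¹ ∈ N ⊔ zpowers (gS : ↥S))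
      (mem_sup_right (zpow_mem (mem_zpowers _) i))
    rwa [inv_mul_cancel_right] at this
  refine ⟨a, x, gS, ⟨hT, hnΦ, hnZ, hnR, gS.2, hgN, hsup, ?_,
    hcomL.mono_left (zpowers_le.2 hxL), hmove, huniq⟩⟩
  refine huniq _ (pow_mem gS.2 p) ((hone (mul_mem (mul_mem (mul_mem (pow_mem gS.2 p) (hNN2 hT.aN))
    (inv_mem (pow_mem gS.2 p))) (inv_mem (hNN2 hT.aN)))).1 ?_)
  refine (map_commutatorElement f (gS ^ p) ⟨a, hNN2 hT.aN⟩).trans ?_
  have h := comm_zpow (x := f gS) (y := A) (by rw [hgX]; exact hXc _) (by rw [hgX]; exact hXc _) p 1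
  rw [zpow_one, zpow_natCast, mul_one, hgX, zpow_natCast] at h
  rw [map_pow, h, hXp]

/-- An automiser of the second normaliser with weights `(s, α, σ)`. -/
structure Phi (hc : Ctx p F E) {a x g : ↥S} (h : Same hc a x g)
    (φ : MulAut ↥(normalizer ((normalizer (E : Set ↥S) : Subgroup ↥S) : Set ↥S))) (s α σ : ℤ) : Prop where
  invN : ∀ v ∈ normalizer (E : Set ↥S), ev φ v ∈ normalizer (E : Set ↥S)
  invPhi : ∀ v ∈ phi E, ev φ v ∈ phi E
  fix : ∀ v ∈ fixLayer h.hT.pos, v⁻¹ * ev φ v ∈ layer1 E (normalizer (E : Set ↥S))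
  onD : (⁅a, x⁆ ^ (α * s))⁻¹ * ev φ ⁅a, x⁆ ∈ phi E
  onX : (x ^ s)⁻¹ * ev φ x ∈ fixLayer h.hT.pos
  onG : (g ^ σ)⁻¹ * ev φ g ∈ normalizer (E : Set ↥S)

theorem exists_phi (hc : Ctx p F E) (h : Same hc a x g) {β : aut F E} {s α σ : ℤ}
    (hβ : Wt hc h.hT β s α) (hs : ¬ (p : ℤ) ∣ s) (hα : ¬ (p : ℤ) ∣ α)
    (hσ : (p : ℤ) ∣ α * σ - s) : ∃ φ, Phi hc h φ s α σ := by
  classical
  have hp := (Fact.out : p.Prime)
  have hpZ := Nat.prime_iff_prime_int.1 hp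
  obtain ⟨hT, hnΦ, hnZ, hnR, hg, hgN, hsup, hgp, hxL, hmove, huniq⟩ := h
  set N := normalizer (E : Set ↥S) with hNdef
  set N2 := normalizer (N : Set ↥S)
  have hP := hT.pos
  set Z := fixLayer hP
  obtain ⟨ψ, hψ⟩ := hc.exists_psi hT hβ
  have hNN2 : N ≤ N2 := le_normalizer
  have hnN : Nm N N2 := Nm.of_le_normalizer le_rfl
  have hZE := hP.fixLayer_le
  have hZN : Z ≤ N := hZE.trans hP.le
  have hexp := hc.pow_mem_phi_normalizer hT
  have hRle := hP.layer1_le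
  have hZcard : Nat.card Z ≤ p * Nat.card (layer1 E N) := by
    rw [hT.card_fix, hT.card_layer1, sq, mul_assoc]
  have hcZ : Com (layer1 E N) Z N2 := com_of_card_le hc.hS (hZN.trans hNN2) hnR hnZ hT.layer1_le_fix hZcard
  have hcR : Com (phi E) (layer1 E N) N2 := com_of_card_le hc.hS ((hRle.trans hP.le).trans hNN2) hnΦ hnR
    le_sup_left hT.card_layer1.le
  -- calculations modulo the fixed layer
  have hZn := hnZ.normal_subgroupOf
  set f := QuotientGroup.mk' (Z.subgroupOf N2)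
  have hone : ∀ {v : ↥S} (hv : v ∈ N2), f ⟨v, hv⟩ = 1 ↔ v ∈ Z := fun hv => QuotientGroup.eq_one_iff _
  set X := f ⟨x, hNN2 hT.hx⟩
  set A := f ⟨a, hNN2 hT.aN⟩
  set G' := f ⟨g, hg⟩
  have hXc : ∀ q : N2, Commute X (f q) := fun q => by
    refine commutatorElement_eq_one_iff_mul_comm.1 ?_
    rw [← map_commutatorElement]
    exact (hone _).2 (hxL x (mem_zpowers x) q q.2)
  have hXp : X ^ p = 1 := by
    rw [← map_pow]; exact (hone _).2 (hT.phi_le_fix (hexp x hT.hx))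
  have hX1 : X ≠ 1 := fun h => hT.hxE (hZE ((hone _).1 h))
  have hXpow : ∀ i : ℤ, (p : ℤ) ∣ i → X ^ i = 1 := fun i ⟨q, hq⟩ => by
    rw [hq, zpow_mul, zpow_natCast, hXp, one_zpow]
  have hAp : ∀ i : ℤ, (p : ℤ) ∣ i → A ^ i = 1 := fun i ⟨q, hq⟩ => by
    rw [hq, zpow_mul, zpow_natCast, ← map_pow,
      show f (⟨a, hNN2 hT.aN⟩ ^ p) = 1 from (hone _).2 (hT.phi_le_fix (pow_mem_phi hc.hS hT.ha)), one_zpow]
  have hgA : ⁅G', A⁆ = X := by
    rw [← map_commutatorElement]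
    exact ((QuotientGroup.eq (s := Z.subgroupOf N2) (a := ⟨x, hNN2 hT.hx⟩)
      (b := ⁅(⟨g, hg⟩ : N2), ⟨a, hNN2 hT.aN⟩⁆)).2 hmove).symm
  have hconjA : ∀ i l : ℤ, G' ^ i * A ^ l * (G' ^ i)⁻¹ = X ^ (i * l) * A ^ l := fun i l => by
    have h := comm_zpow (x := G') (y := A) (by rw [hgA]; exact hXc _) (by rw [hgA]; exact hXc _) i l
    rw [hgA, commutatorElement_def] at h
    rw [← h]; group
  have hψa : f ⟨ev ψ a, hNN2 (ev_mem ψ hT.aN)⟩ = A ^ α := by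
    rw [← map_zpow]
    exact ((QuotientGroup.eq (s := Z.subgroupOf N2) (a := ⟨a, hNN2 hT.aN⟩ ^ α)
      (b := ⟨ev ψ a, hNN2 (ev_mem ψ hT.aN)⟩)).2 hψ.gen).symm
  -- `ψ` fixes the line of `x`
  obtain ⟨e, he, m, hm⟩ := mem_sup_zpowers (hP.nm_fixLayer.le_normalizer hT.aN) (hT.sup_a.ge hψ.onX)
  have hψx : f ⟨ev ψ x, hNN2 (ev_mem ψ hT.hx)⟩ = X ^ s * A ^ m := by
    rw [show (⟨ev ψ x, hNN2 (ev_mem ψ hT.hx)⟩ : N2) = ⟨x, hNN2 hT.hx⟩ ^ s *
      (⟨e, hNN2 (hZN he)⟩ * ⟨a, hNN2 hT.aN⟩ ^ m) from Subtype.ext (by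
        show ev ψ x = x ^ s * (e * a ^ m)
        rw [← hm, mul_inv_cancel_left]), map_mul, map_mul, (hone _).2 he, one_mul, map_zpow, map_zpow]
  have hgaN : ∀ i : ℤ, g ^ i * a * (g ^ i)⁻¹ ∈ N := fun i => hnN _ (zpow_mem hg i) a hT.aN
  have hψconj : ∀ i : ℤ, f ⟨ev ψ (g ^ i * a * (g ^ i)⁻¹), hNN2 (ev_mem ψ (hgaN i))⟩ =
      (X ^ s * A ^ m) ^ i * A ^ α := by
    intro i
    have h1 : (x ^ i * a)⁻¹ * (g ^ i * a * (g ^ i)⁻¹) ∈ Z := by
      refine (hone (mul_mem (inv_mem (mul_mem (zpow_mem (hNN2 hT.hx) i) (hNN2 hT.aN)))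
        (hNN2 (hgaN i)))).1 ?_
      refine (map_mul f ((⟨x, hNN2 hT.hx⟩ ^ i * ⟨a, hNN2 hT.aN⟩)⁻¹)
        (⟨g, hg⟩ ^ i * ⟨a, hNN2 hT.aN⟩ * (⟨g, hg⟩ ^ i)⁻¹)).trans ?_
      have h := hconjA i 1
      rw [zpow_one, mul_one] at h
      rw [map_inv, map_mul, map_zpow, map_mul, map_mul, map_inv, map_zpow, h, inv_mul_cancel]
    have hxa : x ^ i * a ∈ N := mul_mem (zpow_mem hT.hx i) hT.aN
    rw [show (⟨ev ψ (g ^ i * a * (g ^ i)⁻¹), hNN2 (ev_mem ψ (hgaN i))⟩ : N2) =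
      ⟨ev ψ x, hNN2 (ev_mem ψ hT.hx)⟩ ^ i * ⟨ev ψ a, hNN2 (ev_mem ψ hT.aN)⟩ *
        ⟨ev ψ ((x ^ i * a)⁻¹ * (g ^ i * a * (g ^ i)⁻¹)), hNN2 (ev_mem ψ (hZN h1))⟩ from Subtype.ext (by
          show ev ψ _ = ev ψ x ^ i * ev ψ a * ev ψ _
          rw [← ev_zpow ψ hT.hx, ← ev_mul ψ (zpow_mem hT.hx i) hT.aN, ← ev_mul ψ hxa (hZN h1),
            mul_inv_cancel_left]),
      map_mul, map_mul, map_zpow, hψx, hψa, (hone _).2 (hψ.invFix h1), mul_one]
  have hψXZ : ev ψ x ∈ Z ⊔ zpowers x ∧ (x ^ s)⁻¹ * ev ψ x ∈ Z := by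
    suffices hmp : (p : ℤ) ∣ m by
      have h2 : (x ^ s)⁻¹ * ev ψ x ∈ Z := by
        rw [hm]
        obtain ⟨q, rfl⟩ := hmp
        refine mul_mem he (hT.phi_le_fix ?_)
        rw [zpow_mul, zpow_natCast]
        exact zpow_mem (pow_mem_phi hc.hS hT.ha) q
      refine ⟨?_, h2⟩
      have := mul_mem (mem_sup_right (zpow_mem (mem_zpowers x) s) : x ^ s ∈ Z ⊔ zpowers x)
        (mem_sup_left h2 : (x ^ s)⁻¹ * ev ψ x ∈ Z ⊔ zpowers x)
      rwa [mul_inv_cancel_left] at this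
    by_contra hmp
    obtain ⟨u, v, huv⟩ : IsCoprime m (p : ℤ) := ((hpZ.coprime_iff_not_dvd).2 hmp).symm
    set n := -(α * u) with hn
    have hdvd : (p : ℤ) ∣ m * n + α := ⟨α * v, by rw [hn]; linear_combination (-α) * huv⟩
    set L := Z ⊔ zpowers x with hL
    set K1 := E.map (MulAut.conj (g ^ n)).toMonoidHom with hK1
    have hK1N : K1 ≤ N := by
      rintro _ ⟨v, hv, rfl⟩
      exact hnN _ (zpow_mem hg n) v (hP.le hv)
    have hLN : L ≤ N := sup_le hZN (zpowers_le.2 hT.hx)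
    have himgL : ∀ v ∈ K1, ev ψ v ∈ L := by
      have hgen : ev ψ (g ^ n * a * (g ^ n)⁻¹) ∈ L := by
        have h2 : f ⟨ev ψ (g ^ n * a * (g ^ n)⁻¹), hNN2 (ev_mem ψ (hgaN n))⟩ = X ^ (s * n) := by
          rw [hψconj n, ((hXc ⟨a, hNN2 hT.aN⟩).zpow_zpow s m).mul_zpow, ← zpow_mul, ← zpow_mul,
            mul_assoc, ← zpow_add, hAp _ hdvd, mul_one]
        rw [← map_zpow] at h2
        have h3 := (QuotientGroup.eq (s := Z.subgroupOf N2)).1 h2.symm
        have := mul_mem (mem_sup_right (zpow_mem (mem_zpowers x) (s * n)) : x ^ (s * n) ∈ L)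
          (mem_sup_left h3 : (x ^ (s * n))⁻¹ * ev ψ (g ^ n * a * (g ^ n)⁻¹) ∈ L)
        rwa [mul_inv_cancel_left] at this
      intro v hv
      obtain ⟨w, hw, rfl⟩ := hv
      obtain ⟨z, hz, i, rfl⟩ := mem_sup_zpowers (hP.nm_fixLayer.le_normalizer hT.aN) (hT.sup_a.ge hw)
      show ev ψ (g ^ n * (z * a ^ i) * (g ^ n)⁻¹) ∈ L
      have hz' : g ^ n * z * (g ^ n)⁻¹ ∈ Z := hnZ _ (zpow_mem hg n) z hz
      rw [show g ^ n * (z * a ^ i) * (g ^ n)⁻¹ =
        g ^ n * z * (g ^ n)⁻¹ * (g ^ n * a * (g ^ n)⁻¹) ^ i by rw [conj_zpow]; group,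
        ev_mul ψ (hZN hz') (zpow_mem (hgaN n) i), ev_zpow ψ (hgaN n)]
      exact mul_mem (mem_sup_left (hψ.invFix hz')) (zpow_mem hgen i)
    set R := (K1.subgroupOf N).map (N.subtype.comp ψ.toMonoidHom)
    have hR : R ≤ L := by
      rintro _ ⟨v, hv, rfl⟩
      have h2 : ev ψ (v : ↥S) ∈ L := himgL _ hv
      show ((ψ v : N) : ↥S) ∈ L
      rwa [ev_apply ψ v.2] at h2
    have hRc : Nat.card R = Nat.card E := by
      rw [card_map_of_injective (f := N.subtype.comp ψ.toMonoidHom)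
        (fun a b h => ψ.injective (N.subtype_injective h)),
        Nat.card_congr (subgroupOfEquivOfLe hK1N).toEquiv, hK1,
        card_map_of_injective (MulAut.conj (g ^ n)).injective]
    have hLc : Nat.card L = Nat.card E := by
      rw [hL, card_sup (p := p) (hP.nm_fixLayer.le_normalizer hT.hx) (fun h' => hT.hxE (hZE h'))
        (hT.phi_le_fix (hexp x hT.hx)), hT.card_fix, hP.cardE]
      ring
    have hRL : R = L := eq_of_le_of_card_ge hR (hRc.trans hLc.symm).ge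
    have hconj : F.IsConj (up E) (up L) :=
      isConj_trans (isConj_conj F (K := E) (g := g ^ n) hK1.symm) (exists_hom hψ.mem hK1N hRL)
    have h2 := hc.ess.2.1.2 _ hconj
    rw [card_normalizerIn_up, card_normalizerIn_up] at h2
    have hnL : Nm L N2 := fun k hk v hv => by
      rcases mem_sup_zpowers (hP.nm_fixLayer.le_normalizer hT.hx) hv with ⟨z, hz, i, rfl⟩
      have h3 : k * x ^ i * k⁻¹ = ⁅k, x ^ i⁆ * x ^ i := by simp only [commutatorElement_def]; group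
      rw [show k * (z * x ^ i) * k⁻¹ = k * z * k⁻¹ * (k * x ^ i * k⁻¹) by group, h3]
      exact mul_mem (mem_sup_left (hnZ k hk z hz)) (mul_mem
        (mem_sup_left (hxL.symm k hk _ (zpow_mem (mem_zpowers x) i)))
        (mem_sup_right (zpow_mem (mem_zpowers x) i)))
    have h3 := PGroup.mul_card_le_card hc.hS (lt_of_le_of_ne hNN2 fun he => hgN (he.ge hg))
    have h4 := Subgroup.card_le_of_le hnL.le_normalizer
    have h5 := hp.two_le
    have h6 : 0 < Nat.card N := Nat.card_pos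
    have h7 : p * Nat.card N ≤ Nat.card N := h3.trans (h4.trans h2)
    nlinarith
  obtain ⟨-, hψxZ⟩ := hψXZ
  have hψx' : f ⟨ev ψ x, hNN2 (ev_mem ψ hT.hx)⟩ = X ^ s := by
    rw [← map_zpow]
    exact ((QuotientGroup.eq (s := Z.subgroupOf N2) (a := ⟨x, hNN2 hT.hx⟩ ^ s)
      (b := ⟨ev ψ x, hNN2 (ev_mem ψ hT.hx)⟩)).2 hψxZ).symm
  -- the image of the action of `g`
  have hkey : ∃ h' ∈ N2, ∀ v ∈ N, ev ψ (g * v * g⁻¹) = h' * ev ψ v * h'⁻¹ := by
    let cg : aut F N := ⟨cnj N hg, conj_mem_aut F hg⟩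
    let cs : aut F N := ⟨cnj N (zpow_mem hg σ), conj_mem_aut F (zpow_mem hg σ)⟩
    let ψA : aut F N := ⟨ψ, hψ.mem⟩
    set W := cs⁻¹ * (ψA * cg * ψA⁻¹)
    have hWev : ∀ v ∈ N, ev (W : MulAut ↥N) (ev ψ v) = (g ^ σ)⁻¹ * ev ψ (g * v * g⁻¹) * g ^ σ := by
      intro v hv
      have hw := ev_mem ψ hv
      show ev ((cs : MulAut ↥N)⁻¹ * (ψ * cnj N hg * ψ⁻¹)) (ev ψ v) = _
      have h1 : ev ψ⁻¹ (ev ψ v) = v := by
        rw [← ev_aut_mul _ _ hv, inv_mul_cancel, ev_aut_one hv]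
      rw [ev_aut_mul _ _ hw, ev_aut_mul _ _ hw, h1, ev_aut_mul _ _ hv, ev_cnj hg hv,
        show ((cs : MulAut ↥N))⁻¹ = cnj N (inv_mem (zpow_mem hg σ)) from
          (map_inv (normalizerMonoidHom N) ⟨_, zpow_mem hg σ⟩).symm,
        ev_cnj _ (ev_mem ψ (hnN g hg v hv)), inv_inv]
    have hsurj : ∀ {H : Subgroup ↥S}, H ≤ N → (∀ v ∈ H, ev ψ v ∈ H) → ∀ u ∈ H, ∃ v ∈ H, ev ψ v = u :=
      fun hH hi u hu => exists_ev_eq ψ hH hi hu
    have hWZ : ∀ u ∈ Z, u⁻¹ * ev (W : MulAut ↥N) u ∈ layer1 E N := by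
      intro u hu
      obtain ⟨v, hv, rfl⟩ := hsurj hZN (fun v hv => hψ.invFix hv) u hu
      set r := ⁅v⁻¹, g⁆ with hr
      have hrR : r ∈ layer1 E N := hcZ _ (inv_mem hv) g hg
      have hvN := hZN hv
      rw [hWev v hvN, show g * v * g⁻¹ = v * r by rw [hr]; simp only [commutatorElement_def]; group,
        ev_mul ψ hvN (hP.le (hRle hrR))]
      have hw' := hψ.invFix hv
      have h1 := hcZ _ (inv_mem hw') _ (inv_mem (zpow_mem hg σ))
      have h2 := hnR _ (inv_mem (zpow_mem hg σ)) _ (hψ.invLayer1 hrR)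
      have := mul_mem h1 h2
      rw [commutatorElement_def] at this
      simpa [mul_assoc] using this
    have hWR : ∀ u ∈ layer1 E N, u⁻¹ * ev (W : MulAut ↥N) u ∈ phi E := by
      intro u hu
      obtain ⟨v, hv, rfl⟩ := hsurj (hRle.trans hP.le) (fun v hv => hψ.invLayer1 hv) u hu
      set r := ⁅v⁻¹, g⁆ with hr
      have hrΦ : r ∈ phi E := hcR _ (inv_mem hv) g hg
      have hvN := hP.le (hRle hv)
      rw [hWev v hvN, show g * v * g⁻¹ = v * r by rw [hr]; simp only [commutatorElement_def]; group,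
        ev_mul ψ hvN (hP.phiN hrΦ)]
      have h1 := hcR _ (inv_mem (hψ.invLayer1 hv)) _ (inv_mem (zpow_mem hg σ))
      have h2 := hnΦ _ (inv_mem (zpow_mem hg σ)) _ (hψ.invPhi r hrΦ)
      have := mul_mem h1 h2
      rw [commutatorElement_def] at this
      simpa [mul_assoc] using this
    have hWa : (ev ψ a)⁻¹ * ev (W : MulAut ↥N) (ev ψ a) ∈ Z := by
      rw [hWev a hT.aN]
      have hm2 : (g ^ σ)⁻¹ * ev ψ (g * a * g⁻¹) * g ^ σ ∈ N2 :=
        mul_mem (mul_mem (inv_mem (zpow_mem hg σ)) (hNN2 (ev_mem ψ (hnN g hg a hT.aN)))) (zpow_mem hg σ)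
      refine (hone (mul_mem (inv_mem (hNN2 (ev_mem ψ hT.aN))) hm2)).1 ?_
      refine (map_mul f (⟨ev ψ a, hNN2 (ev_mem ψ hT.aN)⟩⁻¹) ((⟨g, hg⟩ ^ σ)⁻¹ *
        ⟨ev ψ (g * a * g⁻¹), hNN2 (ev_mem ψ (hnN g hg a hT.aN))⟩ * ⟨g, hg⟩ ^ σ)).trans ?_
      have h1 := hψconj 1
      simp only [zpow_one] at h1
      have hAm : A ^ m = 1 := by
        have := hψx.symm.trans hψx'
        exact mul_eq_left.1 this
      rw [map_inv, hψa, map_mul, map_mul, map_inv, map_zpow, h1, hAm, mul_one]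
      have h2 : (G' ^ σ)⁻¹ * (X ^ s * A ^ α) * G' ^ σ = X ^ (s + -σ * α) * A ^ α := by
        have h3 := hconjA (-σ) α
        rw [zpow_neg, inv_inv] at h3
        have hc' : Commute (X ^ s) ((G' ^ σ)⁻¹) :=
          ((hXc ⟨g, hg⟩).zpow_zpow s σ).inv_right
        rw [show (G' ^ σ)⁻¹ * (X ^ s * A ^ α) * G' ^ σ =
          ((G' ^ σ)⁻¹ * X ^ s) * A ^ α * G' ^ σ by group, ← hc'.eq,
          show X ^ s * (G' ^ σ)⁻¹ * A ^ α * G' ^ σ = X ^ s * ((G' ^ σ)⁻¹ * A ^ α * G' ^ σ) by group,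
          h3, ← mul_assoc, ← zpow_add]
      rw [h2, hXpow _ (by rw [show s + -σ * α = -(α * σ - s) by ring]; exact hσ.neg_right), one_mul,
        inv_mul_cancel]
    have hψaE : ev ψ a ∈ E := hψ.invE a hT.ha
    have hgenE : Z ⊔ zpowers (ev ψ a) = E := sup_eq_of_card_le hc.hS hZE
      (by rw [hc.idx, hT.card_fix, pow_succ', mul_assoc]) hψaE (fun hmem => by
        have h1 : A ^ α = 1 := hψa ▸ (hone _).2 hmem
        exact hα (dvd_of_zpow_eq_one (q := A) (by simpa using hAp p dvd_rfl)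
          (fun h => hT.a_not_fix ((hone _).1 h)) h1))
    let T0 : Subgroup ↥S :=
      { carrier := {u | u ∈ E ∧ u⁻¹ * ev (W : MulAut ↥N) u ∈ Z}
        one_mem' := by
          refine ⟨one_mem _, ?_⟩
          rw [inv_one, one_mul, ev_apply _ N.one_mem, show (⟨1, N.one_mem⟩ : N) = 1 from rfl, map_one]
          exact one_mem _
        mul_mem' := fun {u w} hu hw => ⟨mul_mem hu.1 hw.1, by
          rw [ev_mul _ (hP.le hu.1) (hP.le hw.1)]
          have h1 := hP.nm_fixLayer w⁻¹ (inv_mem (hP.le hw.1)) _ hu.2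
          have := mul_mem h1 hw.2
          simpa [mul_assoc] using this⟩
        inv_mem' := fun {u} hu => ⟨inv_mem hu.1, by
          rw [ev_inv _ (hP.le hu.1), inv_inv]
          have h1 := hP.nm_fixLayer u (hP.le hu.1) _ (inv_mem hu.2)
          simpa [mul_assoc] using h1⟩ }
    have hWE : ∀ u ∈ E, u⁻¹ * ev (W : MulAut ↥N) u ∈ Z := by
      have hle : E ≤ T0 := by
        rw [← hgenE]
        exact sup_le (fun u hu => ⟨hZE hu, hT.layer1_le_fix (hWZ u hu)⟩)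
          (zpowers_le.2 ⟨hψaE, hWa⟩)
      exact fun u hu => (hle hu).2
    have hWinv : ∀ u ∈ E, ev (W : MulAut ↥N) u ∈ E := fun u hu => by
      have := mul_mem hu (hZE (hWE u hu))
      rwa [mul_inv_cancel_left] at this
    obtain ⟨δ, hδ, hδev⟩ := restrict_aut hP.le W.2 hWinv
    -- `δ` stabilises the chain, so lies in the group of `x`
    let δA : aut F E := ⟨δ, hδ⟩
    let xA : aut F E := ⟨cnj E hT.hx, hc.cnj_mem hT.hx⟩
    let mk : ↥E →* Vq E := QuotientGroup.mk' _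
    let ch : ℕ → Subgroup (Vq E) := fun i => match i with
      | 0 => ⊥ | 1 => ((layer1 E N).subgroupOf E).map mk | 2 => (Z.subgroupOf E).map mk | _ => ⊤
    have hstab : ∀ γ : aut F E, (∀ u ∈ E, u⁻¹ * ev (γ : MulAut ↥E) u ∈ Z) →
        (∀ u ∈ Z, u⁻¹ * ev (γ : MulAut ↥E) u ∈ layer1 E N) →
        (∀ u ∈ layer1 E N, u⁻¹ * ev (γ : MulAut ↥E) u ∈ phi E) →
        ∀ i < 3, ∀ q ∈ ch (i + 1), q⁻¹ * qE F E γ q ∈ ch i := by
      intro γ h2 h1 h0 i hi q hq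
      interval_cases i
      · obtain ⟨⟨u, hu⟩, hu', rfl⟩ := hq
        refine Subgroup.mem_bot.2 ?_
        show (QuotientGroup.mk (⟨u, hu⟩⁻¹ * ⟨ev (γ : MulAut ↥E) u, ev_mem _ hu⟩) : Vq E) = 1
        exact (QuotientGroup.eq_one_iff _).2 (h0 u hu')
      · obtain ⟨⟨u, hu⟩, hu', rfl⟩ := hq
        exact ⟨⟨u, hu⟩⁻¹ * ⟨ev (γ : MulAut ↥E) u, ev_mem _ hu⟩, h1 u hu', rfl⟩
      · obtain ⟨⟨u, hu⟩, rfl⟩ := QuotientGroup.mk_surjective q
        exact ⟨⟨u, hu⟩⁻¹ * ⟨ev (γ : MulAut ↥E) u, ev_mem _ hu⟩, h2 u hu, rfl⟩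
    have hδs := hstab δA (fun u hu => by rw [hδev u hu]; exact hWE u hu)
      (fun u hu => by rw [hδev u (hZE hu)]; exact hWZ u hu)
      (fun u hu => by rw [hδev u (hRle hu)]; exact hWR u hu)
    have hcx : ∀ u ∈ E, u⁻¹ * ev (cnj E hT.hx) u = ⁅u⁻¹, x⁆ := fun u hu => by
      rw [ev_cnj hT.hx hu]; simp only [commutatorElement_def]; group
    have hxs := hstab xA
      (fun u hu => by
        show u⁻¹ * ev (cnj E hT.hx) u ∈ Z
        rw [hcx u hu]
        exact hT.layer1_le_fix (mem_sup_right (commutator_mem_commutator (inv_mem hu) hT.hx)))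
      (fun u hu => by
        show u⁻¹ * ev (cnj E hT.hx) u ∈ layer1 E N
        rw [hcx u (hZE hu)]
        exact mem_sup_left (hP.fixLayer_com _ (inv_mem hu) x hT.hx))
      (fun u hu => by
        show u⁻¹ * ev (cnj E hT.hx) u ∈ phi E
        rw [hcx u (hRle hu)]
        exact hT.layer1_com _ (inv_mem hu) x hT.hx)
    have : Finite (MulAut (Vq E)) :=
      Finite.of_injective (fun b : MulAut (Vq E) => (b : Vq E → Vq E)) DFunLike.coe_injective
    set B := closure ({qE F E δA, qE F E xA} : Set (MulAut (Vq E)))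
    have hchinv : ∀ i ≤ 3, ∀ γ ∈ B, ∀ q ∈ ch i, γ q ∈ ch i := by
      have hmono : ∀ i < 3, ch i ≤ ch (i + 1) := by
        intro i hi
        interval_cases i
        · exact bot_le
        · exact map_mono (comap_mono hT.layer1_le_fix)
        · exact le_top
      intro i hi γ hγ
      rw [← Subgroup.mem_toSubmonoid, Subgroup.closure_toSubmonoid_of_finite] at hγ
      induction hγ using Submonoid.closure_induction with
      | mem γ hγ =>
        intro q hq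
        rcases i with - | i
        · rw [show q = 1 from Subgroup.mem_bot.1 hq, map_one]; exact one_mem _
        · have h1 : q⁻¹ * γ q ∈ ch (i + 1) := by
            rcases hγ with rfl | rfl
            exacts [hmono i (by omega) (hδs i (by omega) q hq), hmono i (by omega) (hxs i (by omega) q hq)]
          have := mul_mem hq h1
          rwa [mul_inv_cancel_left] at this
      | one => exact fun q hq => hq
      | mul γ γ' _ _ h h' => exact fun q hq => h _ (h' q hq)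
    set M := SmallEss.chainStab B ch 3 hchinv
    have hδM : qE F E δA ∈ M := ⟨subset_closure (by simp), hδs⟩
    have hxM : qE F E xA ∈ M := ⟨subset_closure (by simp), hxs⟩
    have hMp : IsPGroup p M :=
      AbIndexP.isPGroup_chainStab (IsPGroup.of_card hc.vq_card) B ch 3 rfl rfl hchinv
    have hMr : M ≤ (qE F E).range := fun γ hγ => by
      refine ((closure_le _).2 ?_) (SmallEss.mem_chainStab.1 hγ).1
      rintro _ (rfl | rfl)
      exacts [⟨_, rfl⟩, ⟨_, rfl⟩]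
    have h1 := hc.card_pGroup_le hMp hMr
    have hx1 : qE F E xA ≠ 1 := fun h => hT.hxE (hc.qN_ker (g := ⟨x, hT.hx⟩) h)
    have h2 : zpowers (⟨qE F E xA, hxM⟩ : M) = ⊤ := by
      refine eq_top_of_le_card _ (h1.trans ?_)
      have hlt : (⊥ : Subgroup M) < zpowers ⟨qE F E xA, hxM⟩ := bot_lt_iff_ne_bot.2 fun h =>
        hx1 (congrArg Subtype.val (zpowers_eq_bot.1 h))
      have h3 := PGroup.mul_card_le_card hMp hlt
      rwa [card_bot, mul_one] at h3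
    obtain ⟨i, hi⟩ := mem_zpowers_iff.1 (h2.ge (mem_top ⟨_, hδM⟩))
    have hq : qE F E (δA * (xA ^ i)⁻¹) = 1 := by
      rw [map_mul, map_inv, map_zpow, mul_inv_eq_one]
      exact (congrArg Subtype.val hi).symm
    obtain ⟨e, he, hev⟩ := hc.inner_of_trivial (δA * (xA ^ i)⁻¹).2 (qE_eq_one_iff.1 hq)
    set n := e * x ^ i with hn'
    have hnN' : n ∈ N := mul_mem (hP.le he) (zpow_mem hT.hx i)
    have hWn : ∀ u ∈ E, ev (W : MulAut ↥N) u = n * u * n⁻¹ := by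
      intro u hu
      have hxi : x ^ i ∈ N := zpow_mem hT.hx i
      have hci : ((xA ^ i : aut F E) : MulAut ↥E) = cnj E hxi :=
        (map_zpow (normalizerMonoidHom E) ⟨x, hT.hx⟩ i).symm
      have hu' : x ^ i * u * (x ^ i)⁻¹ ∈ E := hP.nm _ hxi u hu
      have h3 := hev _ hu'
      push_cast at h3
      have hci' : (xA : MulAut ↥E) ^ i = cnj E hxi := by rw [← hci]; norm_cast
      rw [hci', ← ev_cnj hxi hu, ev_aut_mul _ _ (ev_mem _ hu), ev_inv_self _ hu,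
        show (δA : MulAut ↥E) = δ from rfl, hδev u hu, ev_cnj hxi hu] at h3
      rw [h3, hn']; group
    obtain ⟨hφ', -⟩ := hom_of_mem_autGroup (up_le N) (mem_aut.1 W.2)
    obtain ⟨z, hzE, -, hz⟩ := exists_conj_of_agree_normal hc.hS hc.hF
      (Subgroup.map_mono hP.le : up E ≤ up N)
      (fun w hw => by
        have h3 := (normalizerIn_up E).ge (coe_mem_up.2 (mk_mem hw) :
          w ∈ up (normalizer (E : Set ↥S)))
        exact h3.2)
      hc.ess.1 (F.conj_mem (up_le N) n.2) hφ' (fun w hw => by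
        have hw' := mk_mem w.2
        have hwE : (⟨w, up_le N w.2⟩ : ↥S) ∈ E := mk_mem hw
        have h3 := congrArg Subtype.val (hWn _ hwE)
        rw [ev_apply _ hw'] at h3
        exact h3.symm)
    set zS : ↥S := ⟨z, up_le N z.2⟩
    have hzN : zS ∈ N := mk_mem z.2
    refine ⟨g ^ σ * (n * zS), mul_mem (zpow_mem hg σ) (hNN2 (mul_mem hnN' hzN)), fun v hv => ?_⟩
    have hw := ev_mem ψ hv
    have h3 : ev (W : MulAut ↥N) (ev ψ v) = n * (zS * ev ψ v * zS⁻¹) * n⁻¹ := by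
      apply Subtype.ext
      have h4 := hz ⟨(ev ψ v : ↥S), coe_mem_up.2 hw⟩
      rw [ev_apply _ hw]
      exact h4
    rw [hWev v hv] at h3
    calc ev ψ (g * v * g⁻¹) = g ^ σ * ((g ^ σ)⁻¹ * ev ψ (g * v * g⁻¹) * g ^ σ) * (g ^ σ)⁻¹ := by group
      _ = _ := by rw [h3]; group
  -- the subgroup of transported elements
  let Hs : Subgroup ↥S :=
    { carrier := {k | k ∈ N2 ∧ ∃ k' ∈ N2, ∀ v ∈ N, ev ψ (k * v * k⁻¹) = k' * ev ψ v * k'⁻¹}
      one_mem' := ⟨one_mem _, 1, one_mem _, fun v _ => by simp⟩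
      mul_mem' := by
        rintro k l ⟨hk, k', hk', hkv⟩ ⟨hl, l', hl', hlv⟩
        refine ⟨mul_mem hk hl, k' * l', mul_mem hk' hl', fun v hv => ?_⟩
        rw [show k * l * v * (k * l)⁻¹ = k * (l * v * l⁻¹) * k⁻¹ by group, hkv _ (hnN l hl v hv),
          hlv v hv]
        group
      inv_mem' := by
        rintro k ⟨hk, k', hk', hkv⟩
        refine ⟨inv_mem hk, k'⁻¹, inv_mem hk', fun v hv => ?_⟩
        have h1 := hkv _ (hnN _ (inv_mem hk) v hv)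
        rw [show k * (k⁻¹ * v * k⁻¹⁻¹) * k⁻¹ = v by group] at h1
        rw [h1]; group }
  have hHs : N2 ≤ Hs := by
    refine hsup.ge.trans (sup_le (fun k hk => ⟨hNN2 hk, ev ψ k, hNN2 (ev_mem ψ hk), fun v hv => ?_⟩)
      (zpowers_le.2 ⟨hg, hkey⟩))
    rw [ev_mul ψ (mul_mem hk hv) (inv_mem hk), ev_mul ψ hk hv, ev_inv ψ hk]
  have hNc : F.IsCentric (up N) := isCentric_of_le hc.ess.1 (Subgroup.map_mono hP.le) (up_le N)
  obtain ⟨φ, hφ, hφN⟩ := extend_aut hc.hS hc.hF hNc hψ.mem fun k hk => (hHs hk).2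
  refine ⟨φ, ⟨fun v hv => by rw [hφN v hv]; exact ev_mem ψ hv,
    fun v hv => by rw [hφN v (hP.phiN hv)]; exact hψ.invPhi v hv,
    fun v hv => by rw [hφN v (hZN hv)]; exact hψ.fix v hv,
    by rw [hφN _ (hP.le (hRle hT.D_mem))]; exact hψ.onD, by rw [hφN x hT.hx]; exact hψxZ, ?_⟩⟩
  -- the weight on `g`
  have hφg : ev φ g ∈ N2 := ev_mem φ hg
  obtain ⟨n, hn, i, hi⟩ := mem_sup_zpowers (hnN.le_normalizer hg) (hsup.ge hφg)
  have hgaN' : ⁅g, a⁆ ∈ N := by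
    have := mul_mem (hnN g hg a hT.aN) (inv_mem hT.aN)
    simpa [commutatorElement_def] using this
  have hFn : f ⟨n, hNN2 hn⟩ * A ^ α = A ^ α * f ⟨n, hNN2 hn⟩ := by
    have h1 : Commute (f ⟨n, hNN2 hn⟩) A := by
      refine commutatorElement_eq_one_iff_mul_comm.1 ?_
      rw [← map_commutatorElement]
      exact (hone _).2 (hT.layer1_le_fix (hT.comm_le_layer1 n hn a hT.aN))
    exact (h1.zpow_right α).eq
  have hlhs : f ⁅(⟨ev φ g, hφg⟩ : N2), ⟨ev φ a, ev_mem φ (hNN2 hT.aN)⟩⁆ = X ^ (i * α) := by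
    rw [map_commutatorElement, show f ⟨ev φ a, ev_mem φ (hNN2 hT.aN)⟩ = A ^ α by
      rw [← hψa]; exact congrArg f (Subtype.ext (hφN a hT.aN)),
      show (⟨ev φ g, hφg⟩ : N2) = ⟨n, hNN2 hn⟩ * ⟨g, hg⟩ ^ i from Subtype.ext hi, map_mul, map_zpow,
      commutatorElement_mul_left_eq_conj_mul, commutatorElement_eq_one_iff_mul_comm.2 hFn,
      comm_zpow (x := G') (y := A) (by rw [hgA]; exact hXc _) (by rw [hgA]; exact hXc _), hgA, mul_one,
      ← ((hXc ⟨n, hNN2 hn⟩).zpow_left (i * α)).eq, mul_inv_cancel_right]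
  have hrhs : f ⁅(⟨ev φ g, hφg⟩ : N2), ⟨ev φ a, ev_mem φ (hNN2 hT.aN)⟩⁆ = X ^ s := by
    rw [show ⁅(⟨ev φ g, hφg⟩ : N2), ⟨ev φ a, ev_mem φ (hNN2 hT.aN)⟩⁆ =
      (⟨ev φ x, ev_mem φ (hNN2 hT.hx)⟩ * ⟨ev φ (x⁻¹ * ⁅g, a⁆), ev_mem φ (hNN2 (hZN hmove))⟩ : N2) from
      Subtype.ext (by
        show ⁅ev φ g, ev φ a⁆ = ev φ x * ev φ (x⁻¹ * ⁅g, a⁆)
        rw [← ev_comm φ hg (hNN2 hT.aN), ← ev_mul φ (hNN2 hT.hx) (hNN2 (hZN hmove)), mul_inv_cancel_left]),
      map_mul, show f ⟨ev φ x, ev_mem φ (hNN2 hT.hx)⟩ = X ^ s by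
        rw [← hψx']; exact congrArg f (Subtype.ext (hφN x hT.hx)),
      (hone _).2 (by rw [hφN _ (hZN hmove)]; exact hψ.invFix hmove), mul_one]
  have hd : (p : ℤ) ∣ i * α - s := dvd_of_zpow_eq_one hXp hX1 (by
    rw [zpow_sub, ← hlhs, hrhs, mul_inv_cancel])
  have hdi : (p : ℤ) ∣ i - σ :=
    (hpZ.dvd_mul.1 (show (p : ℤ) ∣ α * (i - σ) by
      have := hd.sub hσ
      rwa [show i * α - s - (α * σ - s) = α * (i - σ) by ring] at this)).resolve_left hα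
  obtain ⟨q, hq⟩ := hdi
  rw [hi, show i = σ + p * q by omega, zpow_add, zpow_mul, zpow_natCast,
    show (g ^ σ)⁻¹ * (n * (g ^ σ * (g ^ p) ^ q)) = (g ^ σ)⁻¹ * n * g ^ σ * (g ^ p) ^ q by
      simp only [mul_assoc]]
  refine mul_mem ?_ (zpow_mem hgp q)
  have := hnN _ (inv_mem (zpow_mem hg σ)) n hn
  simpa [mul_assoc] using this

end Ctx

end Cfsg.Agent.RankThreeNormal
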