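import Cfsg.Agent.Lib.RankThreeNormal.Fusion
import Cfsg.Agent.Lib.RankThreeNormal.Transvection
import Cfsg.Agent.Lib.Fusion.RankTwoTorus

/-!
When the normaliser acts on `E/Φ(E)` by transvections, the automiser contains the inversion and a
torus element of the transvection plane, fixing a complement.
-/

set_option autoImplicit false
set_option maxHeartbeats 1000000

namespace Cfsg.Agent.RankThreeNormal

open Subgroup Cfsg Cfsg.FusionSystem Cfsg.Agent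
open Cfsg.Agent.Fusion Cfsg.Agent.Fusion.Internal Cfsg.Agent.Fusion.TransvectionGroups
open Cfsg.Agent.Fusion.MaxClassRankThree (ev ev_apply ev_mem ev_mul ev_inv ev_comm ev_pow ev_zpow)
open scoped commutatorElement

variable {Ω : Type*} [Group Ω] {S : Subgroup Ω} [Finite S] {p : ℕ} [Fact p.Prime]
  {F : FusionSystem S} {E : Subgroup ↥S}

/-- An automiser with weights: `x ↦ x ^ s` on `N/E`, `a ↦ a ^ α` on `E/Z`, trivial on `Z/R`. -/
structure Wt (hc : Ctx p F E) {a x : ↥S} (hT : Tv p E (normalizer (E : Set ↥S)) a x)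
    (β : aut F E) (s α : ℤ) : Prop where
  conj : qE F E β * hc.qN ⟨x, hT.hx⟩ = hc.qN ⟨x, hT.hx⟩ ^ s * qE F E β
  gen : (a ^ α)⁻¹ * ev (β : MulAut ↥E) a ∈ fixLayer hT.pos
  fix : ∀ v ∈ fixLayer hT.pos, v⁻¹ * ev (β : MulAut ↥E) v ∈ layer1 E (normalizer (E : Set ↥S))

namespace Ctx

theorem card_qN_range_le (hc : Ctx p F E) : Nat.card hc.qN.range ≤ p := by
  rw [← index_ker]
  have hle : E.subgroupOf (normalizer (E : Set ↥S)) ≤ hc.qN.ker := fun g hg => by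
    refine qE_eq_one_iff.2 fun v hv => ?_
    show v⁻¹ * ev (cnj E g.2) v ∈ phi E
    rw [ev_cnj g.2 hv, show v⁻¹ * ((g : ↥S) * v * (g : ↥S)⁻¹) = ⁅v⁻¹, (g : ↥S)⁆ by
      simp only [commutatorElement_def]; group]
    exact comm_mem_phi hc.hS (inv_mem hv) hg
  exact (Nat.le_of_dvd (Nat.pos_of_ne_zero index_ne_zero_of_finite) (index_dvd_of_le hle)).trans_eq
    hc.pos.index_subgroupOf

/-- `p`-subgroups of the action on `E/Φ(E)` have order at most `p`. -/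
theorem card_pGroup_le (hc : Ctx p F E) {Q : Subgroup (MulAut (Vq E))} (hQ : IsPGroup p Q)
    (hle : Q ≤ (qE F E).range) : Nat.card Q ≤ p := by
  classical
  have hfn := hc.ess.2.1
  set A := F.autGroup (up E)
  set κ := MulAut.congr (upEquiv E)
  let toInt : A →* aut F E :=
    { toFun := fun a => ⟨κ.symm a, mem_aut_symm a.2⟩
      map_one' := Subtype.ext (map_one κ.symm)
      map_mul' := fun a b => Subtype.ext (map_mul κ.symm _ _) }
  set θ := (qE F E).comp toInt with hθ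
  have hrg : Q ≤ θ.range := by
    intro q hq
    obtain ⟨β, rfl⟩ := hle hq
    refine ⟨⟨κ β, mem_aut.1 β.2⟩, ?_⟩
    exact congrArg (qE F E) (Subtype.ext (MulEquiv.symm_apply_apply κ _))
  have := finite_autGroup (F := F) hfn.1
  obtain ⟨-, R, hR⟩ := isFullyAutomized_of_fullyNormalized hc.hS hc.hF hfn
  set T := R.mapSurjective θ.rangeRestrict_surjective
  have : Finite θ.range := Finite.of_surjective _ θ.rangeRestrict_surjective
  have hT : T.toSubgroup.map θ.range.subtype ≤ hc.qN.range := by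
    rintro _ ⟨t, ht, rfl⟩
    rw [SetLike.mem_coe, Sylow.coe_mapSurjective] at ht
    obtain ⟨a, ha, rfl⟩ := ht
    rw [SetLike.mem_coe, hR, mem_subgroupOf, mem_autInducedBy_iff] at ha
    obtain ⟨g, hgS, hg⟩ := ha
    have hgN : (⟨g, hgS⟩ : ↥S) ∈ normalizer (E : Set ↥S) := by
      have h : g ∈ normalizerIn S (up E) := ⟨hgS, mem_normalizer_of_aut hg⟩
      rw [normalizerIn_up] at h
      exact mk_mem h
    refine ⟨⟨_, hgN⟩, ?_⟩
    show qE F E _ = qE F E (toInt a)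
    congr 1
    refine Subtype.ext (MulEquiv.ext fun u => Subtype.ext (Subtype.ext ?_))
    exact (hg (upEquiv E u)).symm
  have : Finite (MulAut (Vq E)) :=
    Finite.of_injective (fun b : MulAut (Vq E) => (b : Vq E → Vq E)) DFunLike.coe_injective
  have hQp : IsPGroup p (Q.subgroupOf θ.range) :=
    hQ.of_equiv (subgroupOfEquivOfLe hrg).symm
  obtain ⟨P, hP⟩ := hQp.exists_le_sylow
  calc Nat.card Q = Nat.card (Q.subgroupOf θ.range) := (Nat.card_congr (subgroupOfEquivOfLe hrg).toEquiv).symm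
    _ ≤ Nat.card (P : Subgroup θ.range) := Subgroup.card_le_of_le hP
    _ = Nat.card T.toSubgroup := by rw [P.card_eq_multiplicity, T.card_eq_multiplicity]
    _ = Nat.card (T.toSubgroup.map θ.range.subtype) :=
      (card_map_of_injective θ.range.subtype_injective).symm
    _ ≤ Nat.card hc.qN.range := Subgroup.card_le_of_le hT
    _ ≤ p := hc.card_qN_range_le

variable {a x : ↥S}

/-- The inversion and the torus element. -/
theorem exists_wt (hc : Ctx p F E) (hT : Tv p E (normalizer (E : Set ↥S)) a x) {j q : ℕ}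
    (hj : 2 * j = 1 + p * q) :
    (∃ β, Wt hc hT β 1 (-1)) ∧ ∃ β, Wt hc hT β 4 (-(j : ℤ)) := by
  classical
  have hp := (Fact.out : p.Prime)
  set N := normalizer (E : Set ↥S)
  have hP := hT.pos
  set Z := fixLayer hP with hZdef
  have hZE : Z ≤ E := hP.fixLayer_le
  letI : CommGroup (Vq E) := { (inferInstance : Group (Vq E)) with mul_comm := hc.vq_comm }
  let mk : ↥E →* Vq E := QuotientGroup.mk' _
  have hmk1 : ∀ {v : ↥S} (hv : v ∈ E), mk ⟨v, hv⟩ = 1 ↔ v ∈ phi E := fun hv =>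
    QuotientGroup.eq_one_iff _
  set X := hc.qN ⟨x, hT.hx⟩ with hXdef
  set ZV : Subgroup (Vq E) := (Z.subgroupOf E).map mk with hZV
  have hmemZ : ∀ {v : ↥S} (hv : v ∈ E), mk ⟨v, hv⟩ ∈ ZV ↔ v ∈ Z := by
    intro v hv
    refine ⟨?_, fun h => ⟨_, h, rfl⟩⟩
    rintro ⟨⟨z, hz⟩, hzZ, he⟩
    have h1 : z⁻¹ * v ∈ phi E := (QuotientGroup.eq (s := (phi E).subgroupOf E)).1 he
    have h2 := mul_mem (show z ∈ Z from hzZ) (hT.phi_le_fix h1)
    rwa [mul_inv_cancel_left] at h2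
  have hD : ⁅a, x⁆ ∈ E := hP.layer1_le hT.D_mem
  set DV : Vq E := mk ⟨⁅a, x⁆, hD⟩ with hDV
  have hD1 : DV ≠ 1 := fun h => hT.moved ((hmk1 hD).1 h)
  have hlayer : ∀ {v : ↥S} (hv : v ∈ E), v ∈ layer1 E N → mk ⟨v, hv⟩ ∈ zpowers DV := by
    intro v hv hvR
    obtain ⟨k, hk, i, hi⟩ := mem_sup_zpowers (hP.nmPhi.le_normalizer (hP.le hD)) (hT.sup_D.ge hvR)
    refine mem_zpowers_iff.2 ⟨i, ?_⟩
    rw [hDV, ← map_zpow, show (⟨v, hv⟩ : E) = ⟨k, phi_le E hk⟩ * ⟨⁅a, x⁆, hD⟩ ^ i from Subtype.ext hi,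
      map_mul, (hmk1 (phi_le E hk)).2 hk, one_mul]
  have hXv : ∀ {v : ↥S} (hv : v ∈ E), X (mk ⟨v, hv⟩) = mk ⟨v, hv⟩ * mk ⟨⁅v⁻¹, x⁆, hP.comm_mem (inv_mem (hP.le hv)) hT.hx⟩ := by
    intro v hv
    rw [← map_mul]
    refine congrArg QuotientGroup.mk (Subtype.ext ?_)
    show ev (cnj E hT.hx) v = v * ⁅v⁻¹, x⁆
    rw [ev_cnj hT.hx hv]
    simp only [commutatorElement_def]
    group
  have hfix : ∀ v, X v = v ↔ v ∈ ZV := by
    intro v
    obtain ⟨⟨v, hv⟩, rfl⟩ := QuotientGroup.mk'_surjective _ v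
    show X (mk _) = mk _ ↔ mk _ ∈ ZV
    rw [hXv hv, mul_eq_left, hmk1, hmemZ hv]
    refine ⟨fun h => ?_, fun h => hP.fixLayer_com _ (inv_mem h) x hT.hx⟩
    exact inv_mem_iff.1 (hT.mem_fix (inv_mem hv) h)
  have hXtv : IsTv X ZV DV := by
    refine ⟨(hmemZ hD).2 (hT.layer1_le_fix hT.D_mem), fun w hw => (hfix w).2 hw, fun v => ?_⟩
    obtain ⟨⟨v, hv⟩, rfl⟩ := QuotientGroup.mk'_surjective _ v
    show (mk _)⁻¹ * X (mk _) ∈ _
    rw [hXv hv, inv_mul_cancel_left]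
    exact hlayer _ (mem_sup_right (commutator_mem_commutator (inv_mem hv) hT.hx))
  have hX1 : X ≠ 1 := fun h => hT.hxE (hc.qN_ker (g := ⟨x, hT.hx⟩) h)
  have hcardZ : Nat.card ZV = p ^ 2 := by
    have hle : (phi E).subgroupOf E ≤ Z.subgroupOf E := comap_mono hT.phi_le_fix
    have h := relIndex_mul_relIndex ⊥ ((phi E).subgroupOf E) (Z.subgroupOf E) bot_le hle
    rw [relIndex_bot_left, relIndex_bot_left,
      Nat.card_congr (subgroupOfEquivOfLe (phi_le E)).toEquiv,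
      Nat.card_congr (subgroupOfEquivOfLe hZE).toEquiv, hT.card_fix, mul_comm (p ^ 2)] at h
    have h2 : Nat.card ZV = ((phi E).subgroupOf E).relIndex (Z.subgroupOf E) := by
      rw [← relIndex_ker, QuotientGroup.ker_mk']
    exact h2.trans (Nat.eq_of_mul_eq_mul_left Nat.card_pos h)
  -- the second transvection
  obtain ⟨β₀, hβ₀⟩ := hc.exists_moved hT.hx hT.hxE
  set B := qE F E β₀
  set Y := B * X * B⁻¹ with hYdef
  have hY : qE F E (β₀ * ⟨cnj E hT.hx, hc.cnj_mem hT.hx⟩ * β₀⁻¹) = Y := by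
    rw [map_mul, map_mul, map_inv]; rfl
  rw [hY] at hβ₀
  have hYr : Y ∈ (qE F E).range := ⟨_, hY⟩
  have hXr : X ∈ (qE F E).range := ⟨_, rfl⟩
  have hYtv : IsTv Y (ZV.map B.toMonoidHom) (B DV) := hXtv.conj B
  have hVp : IsPGroup p (Vq E) := IsPGroup.of_card hc.vq_card
  have hno : ∀ Q : Subgroup (MulAut (Vq E)), IsPGroup p Q → X ∈ Q → Y ∈ Q → False := by
    intro Q hQ hXQ hYQ
    refine hβ₀ ?_
    have h1 := hc.card_pGroup_le (hQ.to_le (inf_le_left : Q ⊓ (qE F E).range ≤ Q)) inf_le_right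
    have : Finite (MulAut (Vq E)) :=
      Finite.of_injective (fun b : MulAut (Vq E) => (b : Vq E → Vq E)) DFunLike.coe_injective
    have hlt : (⊥ : Subgroup (Q ⊓ (qE F E).range : Subgroup (MulAut (Vq E)))) <
        zpowers ⟨X, hXQ, hXr⟩ := bot_lt_iff_ne_bot.2 fun h =>
      hX1 (congrArg Subtype.val (zpowers_eq_bot.1 h))
    have h2 := PGroup.mul_card_le_card (hQ.to_le (inf_le_left : Q ⊓ (qE F E).range ≤ Q)) hlt
    rw [card_bot, mul_one] at h2
    have h3 : zpowers (⟨X, hXQ, hXr⟩ : (Q ⊓ (qE F E).range : Subgroup (MulAut (Vq E)))) = ⊤ :=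
      eq_top_of_le_card _ (h1.trans h2)
    obtain ⟨i, hi⟩ := mem_zpowers_iff.1 (h3.ge (mem_top ⟨Y, hYQ, hYr⟩))
    exact mem_zpowers_iff.2 ⟨i, congrArg Subtype.val hi⟩
  have hYD : Y DV ≠ DV := fun h => by
    obtain ⟨Q, hQ, h1, h2⟩ := exists_pGroup hVp hXtv hYtv h
    exact hno Q hQ h1 h2
  set D' := B DV with hD'
  have hXD' : X D' ≠ D' := fun h => by
    obtain ⟨Q, hQ, h1, h2⟩ := exists_pGroup hVp hYtv hXtv h
    exact hno Q hQ h2 h1
  have hfixpow : ∀ (g : MulAut (Vq E)) (v : Vq E) (i : ℤ), v ≠ 1 → g (v ^ i) = v ^ i → g v ≠ v →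
      v ^ i = 1 := by
    intro g v i hv hg hgv
    by_contra hne
    refine hgv ?_
    have hle : zpowers (v ^ i) ≤ g.toMonoidHom.eqLocus (MonoidHom.id _) := zpowers_le.2 hg
    refine hle ?_
    have h1 : zpowers (v ^ i) = zpowers v := RankTwoTorus.zpowers_eq_of_mem hc.vq_pow
      (zpow_mem (mem_zpowers v) i) hne
    exact h1.ge (mem_zpowers v)
  set U := zpowers DV ⊔ zpowers D' with hUdef
  have hDU : DV ∈ U := mem_sup_left (mem_zpowers _)
  have hD'U : D' ∈ U := mem_sup_right (mem_zpowers _)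
  have hmemU : ∀ u ∈ U, ∃ i k : ℤ, u = DV ^ i * D' ^ k := by
    intro u hu
    obtain ⟨u₁, hu₁, u₂, hu₂, rfl⟩ := Subgroup.mem_sup.1 hu
    obtain ⟨i, rfl⟩ := mem_zpowers_iff.1 hu₁
    obtain ⟨k, rfl⟩ := mem_zpowers_iff.1 hu₂
    exact ⟨i, k, rfl⟩
  have hXU : ∀ u ∈ U, X u = u → u ∈ zpowers DV := by
    intro u hu hXu
    obtain ⟨i, k, rfl⟩ := hmemU u hu
    rw [map_mul, map_zpow X DV, hXtv.fix DV hXtv.mem, mul_right_inj] at hXu
    have := hfixpow X D' k (fun h => hXD' (by rw [h, map_one])) hXu hXD'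
    rw [this, mul_one]
    exact zpow_mem (mem_zpowers DV) i
  have hD'nD : D' ∉ zpowers DV := fun h => by
    obtain ⟨i, hi⟩ := mem_zpowers_iff.1 h
    refine hXD' ?_
    rw [← hi, map_zpow, hXtv.fix DV hXtv.mem]
  have hcardU : Nat.card U = p ^ 2 := by
    rw [hUdef, PGroup.card_sup_zpowers (p := p) _ hD'nD (by rw [hc.vq_pow]; exact one_mem _),
      Nat.card_zpowers, orderOf_eq_prime (hc.vq_pow DV) hD1, sq]
  set W := ZV ⊓ ZV.map B.toMonoidHom
  have hUW : U ⊓ W = ⊥ := by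
    rw [eq_bot_iff]
    rintro u ⟨hu, huX, huY⟩
    obtain ⟨i, rfl⟩ := mem_zpowers_iff.1 (hXU u hu (hXtv.fix u huX))
    exact Subgroup.mem_bot.2 (hfixpow Y DV i hD1 (hYtv.fix _ huY) hYD)
  have htop : U ⊔ W = ⊤ := by
    have h1 : p ≤ Nat.card W := by
      have h2 := card_le_mul_inf (le_top : ZV ≤ ⊤) (le_top : ZV.map B.toMonoidHom ≤ ⊤)
      rw [← Nat.card_congr (ZV.equivMapOfInjective B.toMonoidHom B.injective).toEquiv, hcardZ, card_top, hc.vq_card] at h2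
      refine Nat.le_of_mul_le_mul_right ?_ (pow_pos hp.pos 3)
      calc p * p ^ 3 = p ^ 2 * p ^ 2 := by ring
        _ ≤ _ := h2
    have h3 := card_le_mul_inf (le_sup_left : U ≤ U ⊔ W) (le_sup_right : W ≤ U ⊔ W)
    rw [hUW, card_bot, one_mul, hcardU] at h3
    refine eq_top_of_le_card _ ?_
    rw [hc.vq_card]
    calc p ^ 3 = p ^ 2 * p := by ring
      _ ≤ p ^ 2 * Nat.card W := Nat.mul_le_mul_left _ h1
      _ ≤ _ := h3
  have hdec : ∀ v : Vq E, ∃ u ∈ U, ∃ w ∈ W, v = u * w := fun v => by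
    obtain ⟨u, hu, w, hw, h⟩ := Subgroup.mem_sup.1 (htop.ge (mem_top v))
    exact ⟨u, hu, w, hw, h.symm⟩
  -- elements moving only along `U`
  let M : Subgroup (MulAut (Vq E)) :=
    { carrier := {g | (∀ v, v⁻¹ * g v ∈ U) ∧ ∀ w ∈ W, g w = w}
      one_mem' := ⟨fun v => by simp, fun w _ => rfl⟩
      mul_mem' := fun {g h} hg hh => ⟨fun v => by
        have := mul_mem (hh.1 v) (hg.1 (h v))
        rwa [mul_assoc, mul_inv_cancel_left, ← MulAut.mul_apply] at this,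
        fun w hw => by rw [MulAut.mul_apply, hh.2 w hw, hg.2 w hw]⟩
      inv_mem' := fun {g} hg => ⟨fun v => by
        have := inv_mem (hg.1 (g⁻¹ v))
        rwa [MulAut.apply_inv_self, mul_inv_rev, inv_inv] at this,
        fun w hw => by
          conv_lhs => rw [← hg.2 w hw]
          exact MulAut.inv_apply_self _ g w⟩ }
  have hXM : X ∈ M := ⟨fun v => mem_sup_left (hXtv.shift v), fun w hw => hXtv.fix w hw.1⟩
  have hYM : Y ∈ M := ⟨fun v => mem_sup_right (hYtv.shift v), fun w hw => hYtv.fix w hw.2⟩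
  have hMU : ∀ g ∈ M, ∀ u ∈ U, g u ∈ U := fun g hg u hu => by
    have := mul_mem hu (hg.1 u)
    rwa [mul_inv_cancel_left] at this
  let r : M →* MulAut U :=
    { toFun := fun g =>
        { toFun := fun u => ⟨(g : MulAut (Vq E)) u, hMU _ g.2 u u.2⟩
          invFun := fun u => ⟨(g : MulAut (Vq E))⁻¹ u, hMU _ (inv_mem g.2) u u.2⟩
          left_inv := fun u => Subtype.ext (MulAut.inv_apply_self _ (g : MulAut (Vq E)) (u : Vq E))
          right_inv := fun u => Subtype.ext (MulAut.apply_inv_self _ (g : MulAut (Vq E)) (u : Vq E))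
          map_mul' := fun u v => Subtype.ext (map_mul (g : MulAut (Vq E)) (u : Vq E) (v : Vq E)) }
      map_one' := MulEquiv.ext fun u => rfl
      map_mul' := fun g h => MulEquiv.ext fun u => rfl }
  have hrinj : ∀ g h : M, r g = r h → g = h := by
    intro g h hgh
    refine Subtype.ext (MulEquiv.ext fun v => ?_)
    obtain ⟨u, hu, w, hw, rfl⟩ := hdec v
    rw [map_mul, map_mul, g.2.2 w hw, h.2.2 w hw]
    congr 1
    exact congrArg Subtype.val (congrArg (fun f : MulAut U => f ⟨u, hu⟩) hgh)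
  obtain ⟨k, hk⟩ := (hc.hS.to_subgroup N) (⟨x, hT.hx⟩ : N)
  have hXk : X ^ p ^ k = 1 := by rw [hXdef, ← map_pow, hk, map_one]
  have hYk : Y ^ p ^ k = 1 := by rw [hYdef, conj_pow, hXk, mul_one, mul_inv_cancel]
  set σ := r ⟨X, hXM⟩
  set τ := r ⟨Y, hYM⟩
  have hσp : ∃ m, σ ^ p ^ m = 1 := ⟨k, by rw [← map_pow]; exact (congrArg r (Subtype.ext hXk)).trans (map_one r)⟩
  have hτp : ∃ m, τ ^ p ^ m = 1 := ⟨k, by rw [← map_pow]; exact (congrArg r (Subtype.ext hYk)).trans (map_one r)⟩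
  have hσ1 : σ ≠ 1 := fun h => hXD'
    (congrArg Subtype.val (congrArg (fun f : MulAut U => f ⟨D', hD'U⟩) h))
  have hσD : σ ⟨DV, hDU⟩ = ⟨DV, hDU⟩ := Subtype.ext (hXtv.fix DV hXtv.mem)
  have hτσ : τ ∉ zpowers σ := fun h => hYD (congrArg Subtype.val
    ((zpowers_le.2 (MulAction.mem_stabilizer_iff.2 hσD) :
      zpowers σ ≤ MulAction.stabilizer (MulAut U) (⟨DV, hDU⟩ : U)) h :
        τ • (⟨DV, hDU⟩ : U) = ⟨DV, hDU⟩))
  set K : Subgroup U := (zpowers DV).subgroupOf U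
  have hKtop : K ≠ ⊤ := fun h => hD'nD ((h.ge (mem_top (⟨D', hD'U⟩ : U)) :))
  have hσK : ∀ u : U, u⁻¹ * σ u ∈ K := fun u => hXtv.shift (u : Vq E)
  have hUcomm : ∀ u v : U, u * v = v * u := fun u v => Subtype.ext (hc.vq_comm _ _)
  have hUexp : ∀ u : U, u ^ p = 1 := fun u => Subtype.ext (hc.vq_pow _)
  have hlift : ∀ m ∈ closure ({σ, τ} : Set (MulAut U)), ∃ β : aut F E, ∃ hM : qE F E β ∈ M,
      r ⟨qE F E β, hM⟩ = m := by
    intro m hm
    have : m ∈ (((qE F E).range.subgroupOf M).map r) := (closure_le _).2 (by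
      rintro _ (rfl | rfl)
      exacts [⟨⟨X, hXM⟩, hXr, rfl⟩, ⟨⟨Y, hYM⟩, hYr, rfl⟩]) hm
    obtain ⟨⟨g, hgM⟩, ⟨β, hβ⟩, hgm⟩ := this
    subst hβ
    exact ⟨β, hgM, hgm⟩
  have hwt : ∀ (β : aut F E) (hM : qE F E β ∈ M) (i s : ℕ),
      r ⟨qE F E β, hM⟩ * σ * (r ⟨qE F E β, hM⟩)⁻¹ = σ ^ s →
      (∀ u : U, r ⟨qE F E β, hM⟩ u * u ^ i ∈ K) → Wt hc hT β s (-(i : ℤ)) := by
    intro β hM i s hs hu
    set g := qE F E β
    have hgD : g DV ∈ zpowers DV := by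
      have h1 : g DV * DV ^ i ∈ zpowers DV := hu ⟨DV, hDU⟩
      have h2 := mul_mem h1 (inv_mem (pow_mem (mem_zpowers DV) i))
      rwa [mul_inv_cancel_right] at h2
    refine ⟨?_, ?_, fun v hv => ?_⟩
    · have h := hrinj (⟨g, hM⟩ * ⟨X, hXM⟩) (⟨X, hXM⟩ ^ s * ⟨g, hM⟩) (by
        rw [map_mul, map_mul, map_pow, ← hs, inv_mul_cancel_right])
      rw [zpow_natCast]
      exact congrArg Subtype.val h
    · obtain ⟨u, huU, w, hw, huw⟩ := hdec (mk ⟨a, hT.ha⟩)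
      have h1 : g (mk ⟨a, hT.ha⟩) * mk ⟨a, hT.ha⟩ ^ i ∈ ZV := by
        have h2 : g u * u ^ i ∈ ZV := (zpowers_le.2 hXtv.mem) (hu ⟨u, huU⟩)
        have h3 := mul_mem h2 (mul_mem (hw.1 : w ∈ ZV) (pow_mem (hw.1 : w ∈ ZV) i))
        rw [huw, map_mul, hM.2 w hw, mul_pow]
        rwa [mul_mul_mul_comm]
      rw [mul_comm, show g (mk ⟨a, hT.ha⟩) = mk ⟨ev (β : MulAut ↥E) a, ev_mem _ hT.ha⟩ from rfl,
        ← map_pow] at h1
      have h4 := (hmemZ (mul_mem (pow_mem hT.ha i) (ev_mem _ hT.ha))).1 (by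
        rw [show (⟨a ^ i * ev (β : MulAut ↥E) a, mul_mem (pow_mem hT.ha i) (ev_mem _ hT.ha)⟩ : E) =
          ⟨a, hT.ha⟩ ^ i * ⟨ev (β : MulAut ↥E) a, ev_mem _ hT.ha⟩ from rfl, map_mul]
        exact h1)
      rw [zpow_neg, inv_inv, zpow_natCast]
      exact h4
    · obtain ⟨u, huU, w, hw, huw⟩ := hdec (mk ⟨v, hZE hv⟩)
      have hXw : X w = w := hXtv.fix w hw.1
      have hufix : X u = u := by
        have h1 := hXtv.fix _ ((hmemZ (hZE hv)).2 hv)
        rw [huw, map_mul, hXw] at h1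
        exact mul_right_cancel h1
      have hgu : g u ∈ zpowers DV := by
        obtain ⟨l, rfl⟩ := mem_zpowers_iff.1 (hXU u huU hufix)
        rw [map_zpow]
        exact zpow_mem hgD l
      have h2 : (mk ⟨v, hZE hv⟩)⁻¹ * g (mk ⟨v, hZE hv⟩) ∈ zpowers DV := by
        rw [huw, map_mul, hM.2 w hw, mul_inv_rev,
          show w⁻¹ * u⁻¹ * (g u * w) = u⁻¹ * g u * (w⁻¹ * w) by ac_rfl, inv_mul_cancel, mul_one]
        exact mul_mem (inv_mem (hXU u huU hufix)) hgu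
      obtain ⟨l, hl⟩ := mem_zpowers_iff.1 h2
      have h3 : (⁅a, x⁆ ^ l)⁻¹ * (v⁻¹ * ev (β : MulAut ↥E) v) ∈ phi E := by
        refine (QuotientGroup.eq (s := (phi E).subgroupOf E) (a := ⟨⁅a, x⁆, hD⟩ ^ l)
          (b := ⟨v, hZE hv⟩⁻¹ * ⟨ev (β : MulAut ↥E) v, ev_mem _ (hZE hv)⟩)).1 ?_
        exact hl
      have h4 := mul_mem (zpow_mem hT.D_mem l) (mem_sup_left h3 :
        (⁅a, x⁆ ^ l)⁻¹ * (v⁻¹ * ev (β : MulAut ↥E) v) ∈ layer1 E N)
      rwa [mul_inv_cancel_left] at h4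
  refine ⟨?_, ?_⟩
  · obtain ⟨m, hm, hmv⟩ := exists_inversion_mem_closure hUcomm hcardU hUexp hσp hτp hσ1 hτσ
    obtain ⟨β, hM, hβ⟩ := hlift m hm
    have h := hwt β hM 1 1 (by
      rw [pow_one, hβ, mul_inv_eq_iff_eq_mul]
      refine MulEquiv.ext fun u => ?_
      rw [MulAut.mul_apply, MulAut.mul_apply, hmv, hmv, map_inv]) (fun u => by
      rw [hβ, hmv, pow_one, inv_mul_cancel]
      exact one_mem _)
    exact ⟨β, by simpa using h⟩
  · obtain ⟨m, hm, hms, hmK⟩ := RankTwoTorus.exists_torus hUcomm hcardU hUexp hσp hτp hσ1 hτσ hj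
      hKtop hσK
    obtain ⟨β, hM, hβ⟩ := hlift m hm
    exact ⟨β, by simpa using hwt β hM j 4 (by rw [hβ]; exact hms) (fun u => by rw [hβ]; exact hmK u)⟩

end Ctx

end Cfsg.Agent.RankThreeNormal
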